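import Cfsg.Agent.H6.RealP

/-! Real characters of degree prime to `p` and Sylow normalizers (Isaacs–Navarro). -/

set_option autoImplicit false

open scoped ComplexConjugate Pointwise
open Cfsg Cfsg.Agent.H4 Cfsg.Agent.H5 Cfsg.Agent.H8 Cfsg.Agent.H1 Subgroup

namespace Cfsg.Agent.H6.RP

variable {G : Type*} [Group G] [Finite G] {p : ℕ} [hp : Fact p.Prime]

theorem index_cast_eq (P : Sylow p G) {T : Subgroup G} (h : (P : Subgroup G) ≤ T) :
    (T.index : ZMod p) = T.relIndex (normalizer ((P : Subgroup G) : Set G)) := by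
  have h1 := card_sylow_modEq_one p G
  have h2 := card_sylow_modEq_one p T
  rw [P.card_eq_index_normalizer] at h1
  rw [(P.subtype h).card_eq_index_normalizer, show normalizer ((P.subtype h : Sylow p T) : Set T) =
    (normalizer ((P : Subgroup G) : Set G)).subgroupOf T from (subgroupOf_normalizer_eq h).symm] at h2
  have h3 := relIndex_mul_index (inf_le_left : T ⊓ normalizer ((P : Subgroup G) : Set G) ≤ _)
  have h4 := relIndex_mul_index (inf_le_right : T ⊓ normalizer ((P : Subgroup G) : Set G) ≤ _)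
  rw [inf_relIndex_left] at h3
  rw [inf_relIndex_right, ← h3] at h4
  have h5 := congrArg (Nat.cast : ℕ → ZMod p) h4
  rw [Nat.cast_mul, Nat.cast_mul, show ((normalizer ((P : Subgroup G) : Set G)).index : ZMod p) = 1 by
    exact_mod_cast (ZMod.natCast_eq_natCast_iff _ _ _).2 h1,
    show ((normalizer ((P : Subgroup G) : Set G)).relIndex T : ZMod p) = 1 by
      exact_mod_cast (ZMod.natCast_eq_natCast_iff _ _ _).2 h2, mul_one, one_mul] at h5
  exact h5.symm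

theorem exists_conj_mem (P : Sylow p G) {T : Subgroup G} (h : ¬ p ∣ T.index) :
    ∃ g : G, ∀ x ∈ (P : Subgroup G), g * x * g⁻¹ ∈ T := by
  obtain ⟨Q, hQ⟩ := exists_isSylowIn p T
  obtain ⟨g, -, hg⟩ := (isSylowIn_top P).exists_conj_eq (hQ.trans le_top (by rwa [relIndex_top_right]))
  exact ⟨g, fun x hx => hQ.le (hg ▸ mem_conj_smul.2 (by simpa [mul_assoc] using hx))⟩

theorem exists_mul_mem_normalizer (P : Sylow p G) {T : Subgroup G} (h : (P : Subgroup G) ≤ T) {g : G}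
    (hg : ∀ x ∈ (P : Subgroup G), g * x * g⁻¹ ∈ T) : ∃ k ∈ T, k * g ∈ normalizer ((P : Subgroup G) : Set G) := by
  obtain ⟨k, hk, e⟩ := (((isSylowIn_top P).conj_smul (g := g) (le_normalizer_of_normal (mem_top g))).of_le
    (fun x hx => by simpa [mul_assoc] using hg _ (mem_conj_smul.1 hx)) le_top).exists_conj_eq (isSylowIn_of_le P h)
  exact ⟨k, hk, conj_smul_eq_iff_mem_normalizer.1 (by rw [map_mul, mul_smul, e])⟩

section
variable {K : Type*} [Group K] [Fintype K] (E : NEmb K G)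

omit [Finite G] [Fintype K] in
theorem mem_inertia_cj {θ : K → ℂ} {g x : G} : x ∈ E.inertia (E.cj θ g) ↔ g * x * g⁻¹ ∈ E.inertia θ := by
  rw [E.mem_inertia_iff_cj, ← E.cj_mul, E.cj_eq_cj_iff]

theorem deg_of_real (hodd : Odd E.f.range.index) {χ : G → ℂ} (hχ : IsIrrCharacter G χ) (hr : ∀ g, (χ g).im = 0)
    {θ : K → ℂ} (hθ : IsIrrCharacter K θ) (h : classInner (fun n => χ (E.f n)) θ ≠ 0) :
    charDegree χ = (E.inertia θ).index * charDegree θ := by
  haveI := Fintype.ofFinite G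
  obtain ⟨ψ, -, h2, -, h4⟩ := exists_real_over E hodd hθ (real_under E hodd hχ hr hθ h)
  obtain rfl := h4 χ hχ h hr
  refine charDegree_eq_of ?_
  rw [E.clifford_degree hχ hθ h, h2, one_mul, Nat.cast_mul, hθ.isCharacter.charDegree_cast]

theorem real_unique (hodd : Odd E.f.range.index) {χ ψ : G → ℂ} (hχ : IsIrrCharacter G χ) (hr : ∀ g, (χ g).im = 0)
    (hψ : IsIrrCharacter G ψ) (hr' : ∀ g, (ψ g).im = 0) {θ : K → ℂ} (hθ : IsIrrCharacter K θ) (g : G)
    (h : classInner (fun n => χ (E.f n)) θ ≠ 0) (h' : classInner (fun n => ψ (E.f n)) (E.cj θ g) ≠ 0) : χ = ψ := by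
  haveI := Fintype.ofFinite G
  obtain ⟨φ, -, -, -, h4⟩ := exists_real_over E hodd hθ (real_under E hodd hχ hr hθ h)
  rw [h4 χ hχ h hr, h4 ψ hψ (E.inner_res_cj hψ.isCharacter.isClassFunction θ g ▸ h') hr']

end

theorem sInv_iff_le {K P : Subgroup G} [K.Normal] {θ : K → ℂ} : SInv P θ ↔ P ≤ (NEmb.ofNormal K).inertia θ :=
  ⟨fun h x hx n => h x hx n _ rfl, fun h x hx g g' e => (congrArg θ (Subtype.ext e)).trans (h hx g)⟩

theorem real_iff {P K C : Subgroup G} {h : C ≤ K} (H : GCorr p P h) {χ : IrrCharacter K} {ξ : IrrCharacter C}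
    (h1 : SInv P χ.1) (h2 : SInv P ξ.1) (h3 : ¬ p ∣ gmul h χ.1 ξ.1) :
    (∀ k, (χ.1 k).im = 0) ↔ ∀ k, (ξ.1 k).im = 0 := by
  have := Fintype.ofFinite C
  have hr : ∀ {L : Subgroup G} (χ : IrrCharacter L), (∀ k, (χ.1 k).im = 0) ↔
      (⟨_, χ.2.conj⟩ : IrrCharacter L) = χ := fun χ => by
    rw [← eq_conj_iff_forall_im, Subtype.ext_iff, eq_comm]
  rw [hr, hr]
  refine H.fix_iff h1 (fun s hs g g' hg => congrArg conj (h1 s hs g g' hg)) h2
    (fun s hs g g' hg => congrArg conj (h2 s hs g g' hg)) h3 ?_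
  rwa [gmul_eq_of h (m := gmul h χ.1 ξ.1) (by
    rw [gmul_cast h χ.2.isCharacter ξ.2.isCharacter, (χ.2.isCharacter.restrict_le h).classInner_comm ξ.2.isCharacter]
    exact classInner_conj_conj _ _)]

section
variable {P : Sylow p G} {K N : Subgroup G} [K.Normal] [Fintype K] [Fintype (K ⊓ N : Subgroup G)]
  (hN : N = normalizer ((P : Subgroup G) : Set G)) (hodd : Odd K.index)
  (H : GCorr p P (inf_le_left : K ⊓ N ≤ K))

omit [Finite G] [Fintype K] [Fintype (K ⊓ N : Subgroup G)] in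
theorem hNC : N ≤ normalizer ((K ⊓ N : Subgroup G) : Set G) :=
  le_normalizer_inf le_normalizer_of_normal le_normalizer

/-- the correspondence -/
def Rel (P K N : Subgroup G) [Fintype K] [Fintype (K ⊓ N : Subgroup G)] (p : ℕ) (χ : G → ℂ) (ξ : N → ℂ) : Prop :=
  ∃ (θ : IrrCharacter K) (γ : IrrCharacter (K ⊓ N : Subgroup G)), SInv P θ.1 ∧ SInv P γ.1 ∧
    ¬ p ∣ gmul inf_le_left θ.1 γ.1 ∧ classInner (fun n : K => χ n) θ.1 ≠ 0 ∧
      classInner (fun n => ξ (inclusion inf_le_right n)) γ.1 ≠ 0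

omit [Finite G] [K.Normal] [Fintype K] [Fintype (K ⊓ N : Subgroup G)] hp in
include hN in
theorem hc (n : G) (hn : n ∈ N) (s : G) (hs : s ∈ (P : Subgroup G)) : n * s * n⁻¹ ∈ (P : Subgroup G) :=
  ((hN ▸ hn :) s).1 hs

omit [Fintype K] [Fintype (K ⊓ N : Subgroup G)] in
include hodd in
theorem ho : Odd (NEmb.ofNormal K).f.range.index ∧
    Odd (embN (inf_le_right : K ⊓ N ≤ N) hNC).f.range.index :=
  ⟨by rwa [NEmb.ofNormal_range],
    by rw [embN_index, inf_relIndex_right]; exact hodd.of_dvd_nat (relIndex_dvd_index_of_normal K N)⟩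

include hN hodd H

theorem rel_ex (hR : RH p G) {χ : IrrCharacter G} (hχ : ∀ g : G, (χ.1 g).im = 0) :
    ∃ ξ : {ξ : IrrCharacter N // (∀ n, (ξ.1 n).im = 0) ∧ ¬ p ∣ charDegree ξ.1}, Rel P K N p χ.1 ξ.1.1 ∧
      ((charDegree ξ.1.1 : ZMod p) = charDegree χ.1 ∨ (charDegree ξ.1.1 : ZMod p) = -charDegree χ.1) := by
  haveI := Fintype.ofFinite N
  haveI := Fintype.ofFinite G
  obtain ⟨ho, ho'⟩ := ho (N := N) hodd
  set E := NEmb.ofNormal K
  set E' := embN (inf_le_right : K ⊓ N ≤ N) hNC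
  have hPN : (P : Subgroup G) ≤ N := hN ▸ le_normalizer
  obtain ⟨θ₀, h1, h2⟩ := exists_irr_under_hom E.f χ.2
  obtain ⟨g, hg⟩ := exists_conj_mem P (not_dvd_index_inertia E χ.2 (hR χ hχ) h1 h2)
  obtain ⟨θ, h3, h4⟩ : ∃ θ : IrrCharacter K, (P : Subgroup G) ≤ E.inertia θ.1 ∧
      classInner (fun n => χ.1 (E.f n)) θ.1 ≠ 0 := ⟨⟨_, E.isIrr_cj h1 g⟩, fun x hx => (mem_inertia_cj E).2 (hg x hx),
    by rwa [E.inner_res_cj χ.2.isCharacter.isClassFunction]⟩
  have h3' := sInv_iff_le.2 h3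
  obtain ⟨γ, h5, h6, h7⟩ := H.down θ h3'
  have h8 := not_dvd_of_sq_eq_one h6
  obtain ⟨ξ, h9, h10, h11, -⟩ := exists_real_over E' ho' γ.2
    ((real_iff H h3' h5 h8).1 (real_under E ho χ.2 hχ θ.2 h4))
  have h12 : classInner (fun n => ξ (E'.f n)) γ.1 ≠ 0 := h10 ▸ one_ne_zero
  have h13 : E'.inertia γ.1 = (E.inertia θ.1).subgroupOf N := by
    ext n
    rw [mem_subgroupOf, E.mem_inertia_iff_cj, E'.mem_inertia_iff_cj]
    have := H.fix_iff h3' (h3'.cjI (le_normalizer_of_normal n.2) (hc hN n n.2)) h5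
      (h5.cjI (hNC n.2) (hc hN n n.2)) h8 (by rwa [gmul_cjI])
    rw [Subtype.ext_iff, Subtype.ext_iff] at this
    exact this.symm
  have h14 : (charDegree χ.1 : ZMod p) = gmul inf_le_left θ.1 γ.1 * charDegree ξ := by
    rw [deg_of_real E ho χ.2 hχ θ.2 h4, deg_of_real E' ho' h9 h11 γ.2 h12, h13, Nat.cast_mul, Nat.cast_mul,
      index_cast_eq P h3, ← hN,
      charDegree_eq_of_gmul P.isPGroup' le_normalizer_of_normal (hPN.trans hNC) _ h3' h5 h7]
    exact mul_left_comm _ _ _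
  refine ⟨⟨⟨ξ, h9⟩, h11, fun h => hR χ hχ ?_⟩, ⟨θ, γ, h3', h5, h8, h4, h12⟩, ?_⟩
  · rw [← ZMod.natCast_eq_zero_iff] at h ⊢; rw [h14, h, mul_zero]
  · rcases sq_eq_one_iff.1 h6 with h | h <;> simp [h14, h]

theorem rel_inj {χ ψ : G → ℂ} (h1 : IsIrrCharacter G χ) (h2 : ∀ g : G, (χ g).im = 0) (h3 : IsIrrCharacter G ψ)
    (h4 : ∀ g : G, (ψ g).im = 0) {ξ : N → ℂ} (h5 : IsIrrCharacter N ξ) :
    Rel P K N p χ ξ → Rel P K N p ψ ξ → χ = ψ := by
  haveI := Fintype.ofFinite N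
  rintro ⟨θ, γ, a1, a2, a3, a4, a5⟩ ⟨θ', γ', b1, b2, b3, b4, b5⟩
  obtain ⟨n, hn⟩ := (embN inf_le_right hNC).exists_cj_eq_of_constituents h5 γ.2 γ'.2 a5 b5
  obtain rfl : cjI (hNC n.2) γ = γ' := Subtype.ext hn
  obtain rfl := (H.fix_iff (a1.cjI (le_normalizer_of_normal n.2) (hc hN n n.2)) b1 b2 b2 (by rwa [gmul_cjI]) b3).2 rfl
  exact real_unique _ (ho (N := N) hodd).1 h1 h2 h3 h4 θ.2 n a4 b4

theorem rel_uniq {χ : G → ℂ} (h1 : IsIrrCharacter G χ) {ξ η : N → ℂ} (h2 : IsIrrCharacter N ξ)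
    (h3 : ∀ g, (ξ g).im = 0) (h4 : IsIrrCharacter N η) (h5 : ∀ g, (η g).im = 0) :
    Rel P K N p χ ξ → Rel P K N p χ η → ξ = η := by
  haveI := Fintype.ofFinite G
  rintro ⟨θ, γ, a1, a2, a3, a4, a5⟩ ⟨θ', γ', b1, b2, b3, b4, b5⟩
  obtain ⟨g, hg⟩ := (NEmb.ofNormal K).exists_cj_eq_of_constituents h1 θ.2 θ'.2 a4 b4
  obtain ⟨k, hk, hn⟩ := exists_mul_mem_normalizer P (sInv_iff_le.1 a1) (g := g)
    fun x hx => (mem_inertia_cj _).1 (hg ▸ sInv_iff_le.1 b1 hx)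
  rw [← hN] at hn
  obtain rfl : cjI (le_normalizer_of_normal hn) θ = θ' := Subtype.ext
    ((((NEmb.ofNormal K).cj_mul _ k g).trans (by rw [(NEmb.mem_inertia_iff_cj _).1 hk])).trans hg)
  obtain rfl := (H.fix_iff b1 b1 (a2.cjI (hNC hn) (hc hN _ hn)) b2 (by rwa [gmul_cjI]) b3).1 rfl
  exact real_unique _ (ho (N := N) hodd).2 h2 h3 h4 h5 γ.2 ⟨_, hn⟩ a5 b5

theorem rel_surj {ξ : N → ℂ} (h1 : IsIrrCharacter N ξ) (h2 : ∀ g, (ξ g).im = 0) (h3 : ¬ p ∣ charDegree ξ) :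
    ∃ χ : IrrCharacter G, (∀ g, (χ.1 g).im = 0) ∧ Rel P K N p χ.1 ξ := by
  haveI := Fintype.ofFinite N
  haveI := Fintype.ofFinite G
  have hPN : (P : Subgroup G) ≤ N := hN ▸ le_normalizer
  obtain ⟨γ, a1, a2⟩ := exists_irr_under_hom (embN (inf_le_right : K ⊓ N ≤ N) hNC).f h1
  haveI : ((P : Subgroup G).subgroupOf N).Normal := hN ▸ normal_in_normalizer
  have a3 : SInv P γ := fun x hx c c' e => by
    have := le_of_not_dvd_index (K := ⊥) (V := (P : Subgroup G).subgroupOf N) (p := p)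
      (by rw [relIndex_bot_left, card_subgroupOf_of_le hPN, P.card_eq_multiplicity]) bot_le
      (not_dvd_index_inertia _ h1 h3 a1 a2)
    exact (congrArg γ (Subtype.ext e)).trans (this (show (⟨x, hPN hx⟩ : N) ∈ _ from hx) c)
  obtain ⟨θ, a4, a5, -⟩ := H.up ⟨γ, a1⟩ a3
  obtain ⟨χ, a6, a7, a8, -⟩ := exists_real_over _ (ho (N := N) hodd).1 θ.2
    ((real_iff H a4 a3 a5).2 (real_under _ (ho hodd).2 h1 h2 a1 a2))
  exact ⟨⟨χ, a6⟩, a8, θ, ⟨γ, a1⟩, a4, a3, a5, a7 ▸ one_ne_zero, a2⟩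

end

theorem gCorr_of_normal (P : Sylow p G) (K : Subgroup G) [hK : K.Normal] [((P : Subgroup G) ⊓ K).Normal] :
    GCorr p P (inf_le_left : K ⊓ normalizer ((P : Subgroup G) : Set G) ≤ _) := by
  have hQ : ¬ p ∣ ((P : Subgroup G) ⊓ K).relIndex K :=
    ((isSylowIn_top P).inf (N := K) le_top le_normalizer_of_normal).not_dvd
  refine gCorr_rel P.isPGroup' (N := (P : Subgroup G) ⊓ K) le_normalizer_of_normal (Nat.card K) rfl le_normalizer_of_normal
    le_normalizer_of_normal hQ (fun k => ?_) _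
  rw [mem_inf]
  refine and_congr_right fun hk => ⟨fun h x hx => mem_inf.2 ⟨?_, K.mul_mem (hK.conj_mem k hk x) (K.inv_mem hk)⟩,
    fun h => mem_normalizer_fintype fun x hx => ?_⟩
  · simpa only [mul_assoc] using P.1.mul_mem hx (hc rfl k h _ (P.1.inv_mem hx))
  · have := P.1.mul_mem hx (mem_inf.1 (h _ (P.1.inv_mem hx))).1
    rwa [show x * (x⁻¹ * k * x⁻¹⁻¹ * k⁻¹) = k * x * k⁻¹ by group] at this

theorem exists_bij' (hR : RH p G) (P : Sylow p G) (K : Subgroup G) [K.Normal] [((P : Subgroup G) ⊓ K).Normal]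
    (hodd : Odd K.index) (N : Subgroup G) (hN : N = normalizer ((P : Subgroup G) : Set G)) :
    ∃ f : {χ : IrrCharacter G // ∀ g : G, (χ.1 g).im = 0} →
      {ξ : IrrCharacter N // (∀ n, (ξ.1 n).im = 0) ∧ ¬ p ∣ charDegree ξ.1},
      Function.Bijective f ∧ ∀ χ, (charDegree (f χ).1.1 : ZMod p) = charDegree χ.1.1 ∨
        (charDegree (f χ).1.1 : ZMod p) = -charDegree χ.1.1 := by
  have H : GCorr p P (inf_le_left : K ⊓ N ≤ K) := hN ▸ gCorr_of_normal P K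
  haveI := Fintype.ofFinite K
  haveI := Fintype.ofFinite (K ⊓ N : Subgroup G)
  choose f h1 h2 using fun χ : {χ : IrrCharacter G // ∀ g : G, (χ.1 g).im = 0} => rel_ex hN hodd H hR χ.2
  refine ⟨f, ⟨fun χ ψ e => Subtype.ext (Subtype.ext
    (rel_inj hN hodd H χ.1.2 χ.2 ψ.1.2 ψ.2 (f χ).1.2 (h1 χ) (by rw [e]; exact h1 ψ))), fun ξ => ?_⟩, h2⟩
  obtain ⟨χ, a1, a2⟩ := rel_surj hN hodd H ξ.1.2 ξ.2.1 ξ.2.2
  exact ⟨⟨χ, a1⟩, Subtype.ext (Subtype.ext
    (rel_uniq hN hodd H χ.2 (f _).1.2 (f _).2.1 ξ.1.2 ξ.2.1 (h1 ⟨χ, a1⟩) a2))⟩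

theorem inf_gen_normal (hs : Group.IsSolvable (gen p G)) (hR : RH p G) (P : Sylow p G) :
    ((P : Subgroup G) ⊓ gen 2 G).Normal :=
  normal_of_rh hs hR le_rfl (a := 0) (by simp) ((isSylowIn_top P).inf le_top le_normalizer_of_normal)

theorem exists_bij (hs : Group.IsSolvable (gen p G)) (hR : RH p G) (P : Sylow p G) :
    ∃ f : {χ : IrrCharacter G // ∀ g : G, (χ.1 g).im = 0} →
      {ξ : IrrCharacter (normalizer ((P : Subgroup G) : Set G)) // (∀ n, (ξ.1 n).im = 0) ∧ ¬ p ∣ charDegree ξ.1},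
      Function.Bijective f ∧ ∀ χ, (charDegree (f χ).1.1 : ZMod p) = charDegree χ.1.1 ∨
        (charDegree (f χ).1.1 : ZMod p) = -charDegree χ.1.1 :=
  haveI := inf_gen_normal hs hR P
  exists_bij' hR P _ odd_index_gen _ rfl

theorem exists_conj_mem_normalizer (hs : Group.IsSolvable (gen p G)) (hR : RH p G) (P : Sylow p G)
    (hd : (P : Subgroup G) ⊓ gen 2 G = ⊥) {x : G} (hx : IsConj x x⁻¹) :
    ∃ y ∈ normalizer ((P : Subgroup G) : Set G), IsConj x y := by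
  obtain ⟨f, hf, -⟩ := exists_bij hs hR P
  have h1 : Nat.card (RC G) ≤ Nat.card (RC (normalizer ((P : Subgroup G) : Set G))) := by
    rw [← card_real_irr, ← card_real_irr]
    exact Nat.card_le_card_of_injective (fun χ => ⟨(f χ).1, (f χ).2.1⟩) fun χ ψ e =>
      hf.1 (Subtype.ext (congrArg (fun x => x.1) e))
  have h2 : ∀ a ∈ normalizer ((P : Subgroup G) : Set G), IsConj a a⁻¹ → ∀ s ∈ (P : Subgroup G), s * a = a * s :=
    fun a ha h s hs => by
      obtain ⟨t, ⟨j, hj⟩, ht⟩ := H25.exists_two_elt_inverting h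
      have h5 : t ∈ gen 2 G := mem_gen hj
      have h7 : a ^ 2 ∈ gen 2 G := by
        have := mul_mem (Normal.conj_mem inferInstance _ h5 a) (inv_mem h5)
        rwa [show a * t * a⁻¹ * t⁻¹ = a * (t * a * t⁻¹)⁻¹ by group, ht, inv_inv, ← sq] at this
      have h8 := H3.mem_of_pow_mem_of_coprime (Nat.coprime_two_left.2 odd_index_gen) h7 (pow_index_mem _ a)
      have h9 : s * a * s⁻¹ * a⁻¹ ∈ (P : Subgroup G) ⊓ gen 2 G :=
        mem_inf.2 ⟨by simpa only [mul_assoc] using mul_mem hs (hc rfl a ha _ (inv_mem hs)),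
          mul_mem (Normal.conj_mem inferInstance a h8 s) (inv_mem h8)⟩
      rwa [hd, mem_bot, mul_inv_eq_one, mul_inv_eq_iff_eq_mul] at h9
  have h3 : Function.Injective (rcMap (normalizer ((P : Subgroup G) : Set G)).subtype) := fun c d e => by
    obtain ⟨a, ha, rfl⟩ := rc_surj c
    obtain ⟨b, hb, rfl⟩ := rc_surj d
    rw [rcMap_rc, rcMap_rc, rc_eq] at e
    obtain ⟨g, hg⟩ := isConj_iff.1 e
    obtain ⟨k, hk, hn⟩ := exists_mul_mem_normalizer P (T := centralizer {(b : G)}) (g := g)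
      (fun s hs => mem_centralizer_singleton_iff.2 (h2 b b.2 ((Subgroup.subtype _).map_isConj hb) s hs))
      fun s hs => mem_centralizer_singleton_iff.2 (by
        have := h2 a a.2 ((Subgroup.subtype _).map_isConj ha) s hs
        rw [← show g * a * g⁻¹ = b from hg]
        calc _ = g * (s * a) * g⁻¹ := by group
          _ = _ := by rw [this]; group)
    refine rc_eq.2 (isConj_iff.2 ⟨⟨_, hn⟩, Subtype.ext ?_⟩)
    calc k * g * a * (k * g)⁻¹ = k * (g * a * g⁻¹) * k⁻¹ := by group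
      _ = b := by rw [show g * a * g⁻¹ = b from hg, mem_centralizer_singleton_iff.1 hk, mul_inv_cancel_right]
  obtain ⟨c, hc⟩ := (h3.bijective_of_nat_card_le h1).2 (rc x hx)
  obtain ⟨a, ha, rfl⟩ := rc_surj c
  rw [rcMap_rc, rc_eq] at hc
  exact ⟨a, a.2, hc.symm⟩

end Cfsg.Agent.H6.RP
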