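import Cfsg.Agent.H6.Dade

/-!
The Alperin–Dade theorem: existence and uniqueness of extensions in the principal block.
-/

set_option autoImplicit false
set_option linter.unusedSectionVars false

namespace Cfsg.Agent.H6

open MonoidAlgebra Cfsg.Agent.H4
open Cfsg.Agent.H7 (Supp Invt cj aug fb push pull ind orb)
open scoped ComplexConjugate

variable {G : Type*} [Group G] [Finite G] {N : Subgroup G} [hN : N.Normal]
  {M : Ideal AlgInt} [hMm : M.IsMaximal] {p : ℕ} {u : G ⧸ N → ℂ[G]} {θ : IrrCharacter N}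

theorem Dd.exists_cocycle (hu : Dd M N u) (hθ : θ ∈ principalBlock M N) :
    ∃ α : G ⧸ N → G ⧸ N → ℂ, (∀ σ τ, redC M (α σ τ) = 1) ∧
      ∀ σ τ, u σ * u τ * fb N {θ} = α σ τ • (u (σ * τ) * fb N {θ}) := by
  have key : ∀ σ τ, ∃ c, redC M c = 1 ∧ u σ * u τ * fb N {θ} = c • (u (σ * τ) * fb N {θ}) := by
    intro σ τ
    obtain ⟨c, -, hc, e⟩ := hu.exists_eq_smul hθ ((intAlg M G).mul_mem (hu.mem σ) (hu.mem τ))
      (supp_mul_coset (hu.supp σ) (hu.supp τ)) ((hu.invt σ).mul (hu.invt τ))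
    exact ⟨c, by rw [hc, map_mul, hu.aug_eq, hu.aug_eq, mul_one, redC_one], e⟩
  choose α h1 h2 using key
  exact ⟨α, h1, h2⟩

/-- a multiplicative section -/
theorem Dd.exists_section (hM : IsPModular p M) (hidx : ¬ p ∣ N.index) (hu : Dd M N u)
    (hθ : θ ∈ principalBlock M N) :
    ∃ β : G ⧸ N → ℂ, (∀ σ, redC M (β σ) = 1) ∧ ∀ σ τ,
      (β σ • (u σ * fb N {θ})) * (β τ • (u τ * fb N {θ})) = β (σ * τ) • (u (σ * τ) * fb N {θ}) := by
  obtain ⟨α, h1, h2⟩ := hu.exists_cocycle hθ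
  have hc : ∀ σ, Commute (u σ) (fb N {θ}) := fun σ => (hu.invt σ).commute (H7.fb_mem_Fix _).1
  have he : fb N {θ} * fb N {θ} = fb N {θ} := H7.fb_idem _
  have h3 : ∀ σ τ, (u σ * fb N {θ}) * (u τ * fb N {θ}) = α σ τ • (u (σ * τ) * fb N {θ}) := by
    intro σ τ
    rw [← h2, mul_assoc, ← mul_assoc (fb N {θ}), ← (hc τ).eq, mul_assoc, he, mul_assoc]
  obtain ⟨β, hβ, hβ'⟩ := exists_coboundary hM (Γ := G ⧸ N) hidx α h1 fun a b c => by
    have := mul_assoc (u a * fb N {θ}) (u b * fb N {θ}) (u c * fb N {θ})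
    rw [h3, h3, smul_mul_assoc, mul_smul_comm, h3, h3, smul_smul, smul_smul, mul_assoc a] at this
    exact smul_left_injective ℂ (hu.mul_fb_ne_zero hθ _) this
  have h0 : ∀ σ, redC M (β σ) ≠ 0 := fun σ => by rw [hβ]; exact one_ne_zero
  refine ⟨fun σ => (β σ)⁻¹, fun σ => by rw [redC_inv (h0 σ), hβ, inv_one], fun σ τ => ?_⟩
  rw [smul_mul_assoc, mul_smul_comm, h3, smul_smul, smul_smul]
  congr 1
  have := hβ' σ τ
  have a1 := ne_zero_of_redC_ne_zero (h0 σ)
  have a2 := ne_zero_of_redC_ne_zero (h0 τ)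
  have a3 := ne_zero_of_redC_ne_zero (h0 (σ * τ))
  field_simp
  linear_combination this

theorem exists_ext_of_section [Fintype (G ⧸ N)] {v : G ⧸ N → ℂ[G]}
    (hs : ∀ σ, Supp (coset N σ) (v σ)) (hi : ∀ σ, Invt N (v σ))
    (hmul : ∀ σ τ, v σ * v τ = v (σ * τ)) (h1 : v 1 = fb N {θ}) :
    ∃ χ : IrrCharacter G, (∀ n : N, (χ : G → ℂ) n = (θ : N → ℂ) n) ∧
      ∀ σ, omega (χ : G → ℂ) (v σ) = 1 := by
  classical
  haveI := Fintype.ofFinite G
  haveI := Fintype.ofFinite N
  have hn : (Fintype.card (G ⧸ N) : ℂ) ≠ 0 := Nat.cast_ne_zero.2 Fintype.card_ne_zero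
  set ε : ℂ[G] := (Fintype.card (G ⧸ N) : ℂ)⁻¹ • ∑ σ, v σ with hε
  have hl : ∀ τ, v τ * ε = ε := fun τ => by
    rw [hε, mul_smul_comm, Finset.mul_sum]
    simp_rw [hmul]
    exact congrArg _ (Equiv.sum_comp (Equiv.mulLeft τ) v)
  have hr : ∀ τ, ε * v τ = ε := fun τ => by
    rw [hε, smul_mul_assoc, Finset.sum_mul]
    simp_rw [hmul]
    exact congrArg _ (Equiv.sum_comp (Equiv.mulRight τ) v)
  have hidem : ε * ε = ε := by
    conv_lhs => rw [hε, smul_mul_assoc, Finset.sum_mul, ← hε]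
    simp_rw [hl]
    rw [Finset.sum_const, Finset.card_univ, ← Nat.cast_smul_eq_nsmul ℂ, smul_smul,
      inv_mul_cancel₀ hn, one_smul]
  have hεi : Invt N ε := Invt.smul' (invt_sum _ fun σ _ => hi σ) _
  have hcen : ε ∈ Subalgebra.center ℂ (MonoidAlgebra ℂ G) := by
    rw [mem_center_iff_single]
    intro g
    have hg : Supp (coset N (g : G ⧸ N)) (single g (1 : ℂ)) :=
      H7.supp_single (s := coset N (g : G ⧸ N)) rfl _
    have s1 := supp_mul_inv hg (hs (g : G ⧸ N)⁻¹)
    have s2 := supp_inv_mul (hs (g : G ⧸ N)⁻¹) hg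
    have e : v (g : G ⧸ N)⁻¹ * single g 1 = single g 1 * v (g : G ⧸ N)⁻¹ := by
      calc v (g : G ⧸ N)⁻¹ * single g 1 = v 1 * (v (g : G ⧸ N)⁻¹ * single g 1) := by
            rw [← mul_assoc, hmul, one_mul]
        _ = v (g : G ⧸ N)⁻¹ * single g 1 * v 1 := ((hi 1).commute s2).eq
        _ = v (g : G ⧸ N)⁻¹ * (single g 1 * v (g : G ⧸ N)⁻¹) * v g := by
            rw [← inv_mul_cancel (g : G ⧸ N), ← hmul]
            simp only [mul_assoc]
        _ = single g 1 * v (g : G ⧸ N)⁻¹ := by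
            rw [((hi _).commute s1).eq, mul_assoc, mul_assoc, hmul, hmul, inv_mul_cancel, mul_one]
    calc single g 1 * ε = single g 1 * v (g : G ⧸ N)⁻¹ * ε := by rw [mul_assoc, hl]
      _ = ε * (v (g : G ⧸ N)⁻¹ * single g 1) := by rw [← e, (hεi.commute s2).eq]
      _ = ε * single g 1 := by rw [← mul_assoc, hr]
  have hcoef : ε.coeff 1 = (Nat.card G : ℂ)⁻¹ * ((θ : N → ℂ) 1 * (θ : N → ℂ) 1) := by
    rw [hε, coeff_smul', coeff_sum', Finset.sum_eq_single 1, h1, coeff_one_fb_singleton,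
      Subgroup.card_eq_card_quotient_mul_card_subgroup N, Nat.card_eq_fintype_card (α := G ⧸ N)]
    · push_cast
      rw [mul_inv]
      ring
    · exact fun σ _ h => hs σ 1 fun h' => h (Eq.symm h')
    · simp
  have hom : ∀ χ : IrrCharacter G, omega (χ : G → ℂ) ε = 0 ∨ omega (χ : G → ℂ) ε = 1 := by
    intro χ
    have := omega_center_mul χ.2 hcen ε
    rw [hidem] at this
    rcases eq_or_ne (omega (χ : G → ℂ) ε) 0 with h | h
    · exact Or.inl h
    · exact Or.inr (mul_left_cancel₀ h (by rw [← this, mul_one]))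
  have hover : ∀ χ : IrrCharacter G, omega (χ : G → ℂ) ε = 1 →
      classInner (fun n : N => (χ : G → ℂ) n) θ ≠ 0 := by
    intro χ h
    have h2 : chiL (χ : G → ℂ) (fb N {θ}) ≠ 0 := by
      intro h0
      have := chiL_center_mul χ.2 hcen (v 1)
      rw [hr, h1, h0, mul_zero, chiL_eq_omega_mul χ.2.apply_one_ne_zero, h, one_mul] at this
      exact χ.2.apply_one_ne_zero this
    obtain ⟨θ', h3, h4⟩ := (H7.chiL_fb_ne_zero_iff χ.2.isCharacter _).1 h2
    rwa [Set.mem_singleton_iff.1 h3] at h4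
  obtain ⟨d, hd0, hd⟩ := θ.2.exists_degree
  choose deg hdeg0 hdeg using fun χ : IrrCharacter G => χ.2.exists_degree
  have hsum : ∑ χ : IrrCharacter G, (if omega (χ : G → ℂ) ε = 1 then deg χ * deg χ else 0) =
      d * d := by
    have := coeff_center_eq hcen 1
    rw [hcoef] at this
    have h2 := mul_left_cancel₀ (inv_ne_zero natCard_ne_zero') this
    apply Nat.cast_injective (R := ℂ)
    push_cast
    rw [← hd, h2]
    refine Finset.sum_congr rfl fun χ _ => ?_
    rw [χ.2.isCharacter.conj_apply_one, hdeg]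
    rcases hom χ with h | h <;> simp [h]
  obtain ⟨χ, hχ⟩ : ∃ χ : IrrCharacter G, omega (χ : G → ℂ) ε = 1 := by
    by_contra hc
    push Not at hc
    simp only [hc, if_false, Finset.sum_const_zero] at hsum
    exact (Nat.mul_pos hd0 hd0).ne hsum
  have hle : deg χ * deg χ ≤ d * d := by
    rw [← hsum]
    have := Finset.single_le_sum (f := fun χ : IrrCharacter G =>
      if omega (χ : G → ℂ) ε = 1 then deg χ * deg χ else 0) (fun _ _ => Nat.zero_le _)
      (Finset.mem_univ χ)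
    simpa only [hχ, if_true] using this
  have hle' : deg χ ≤ d := Nat.mul_self_le_mul_self_iff.1 hle
  refine ⟨χ, congrFun (H5.eq_of_constituent_of_degree_le (χ.2.isCharacter.restrict N) θ.2
    (hover χ hχ) ?_), fun σ => ?_⟩
  · simp only [OneMemClass.coe_one, hdeg, hd, Complex.natCast_re]
    exact_mod_cast hle'
  · have := omega_center_mul χ.2 hcen (v σ)
    rw [hr, hχ, one_mul] at this
    exact this.symm

theorem Dd.exists_ext (hM : IsPModular p M) (hidx : ¬ p ∣ N.index) (hu : Dd M N u)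
    (hθ : θ ∈ principalBlock M N) :
    ∃ χ : IrrCharacter G, (∀ n : N, (χ : G → ℂ) n = (θ : N → ℂ) n) ∧
      ∀ σ, redC M (omega (χ : G → ℂ) (u σ)) = 1 := by
  haveI := Fintype.ofFinite (G ⧸ N)
  obtain ⟨β, hβ, hmul⟩ := hu.exists_section hM hidx hθ
  have h0 : ∀ σ, redC M (β σ) ≠ 0 := fun σ => by rw [hβ]; exact one_ne_zero
  have hf := H7.fb_mem_Fix ({θ} : Set (IrrCharacter N))
  obtain ⟨χ, h1, h2⟩ := exists_ext_of_section (θ := θ) (v := fun σ => β σ • (u σ * fb N {θ}))
    (fun σ => by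
      have := supp_mul_coset (hu.supp σ) (τ := 1) (coset_one (N := N) ▸ hf.1)
      rw [mul_one] at this
      exact this.smul _)
    (fun σ => Invt.smul' ((hu.invt σ).mul hf.2) _) hmul (by
      have e := mul_fb_singleton (coset_one (N := N) ▸ hu.supp 1) (hu.invt 1) θ
      have e2 := hmul 1 1
      have he : fb N {θ} * fb N {θ} = fb N {θ} := H7.fb_idem _
      have hne := hu.mul_fb_ne_zero hθ 1
      simp only [mul_one, e, smul_smul, smul_mul_assoc, mul_smul_comm, he] at e2 hne ⊢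
      have e3 := smul_left_injective ℂ (fb_singleton_ne_zero θ) e2
      have a1 := ne_zero_of_redC_ne_zero (h0 1)
      have a2 : omega (θ : N → ℂ) (pull ℂ N.subtype (u 1)) ≠ 0 := by
        intro h; rw [h, zero_smul] at hne; exact hne rfl
      rw [mul_left_cancel₀ (mul_ne_zero a1 a2) (e3.trans (mul_one _).symm), one_smul])
  refine ⟨χ, h1, fun σ => ?_⟩
  have := h2 σ
  rw [map_smul, omega_apply, chiL_mul_fb_of_res χ.2.isCharacter (e := 1) (by simpa using h1),
    ← omega_apply, smul_eq_mul] at this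
  rw [eq_inv_of_mul_eq_one_right this, redC_inv (h0 σ), hβ, inv_one]

/-- an extension can be twisted by a linear character so that all `u σ` act as one-units -/
theorem Dd.exists_twist (hM : IsPModular p M) (hu : Dd M N u) (hθ : θ ∈ principalBlock M N)
    {ψ : G → ℂ} (hψ : IsCharacter G ψ) (hext : ∀ n : N, ψ n = (θ : N → ℂ) n) :
    ∃ lam : G ⧸ N →* ℂˣ, (∀ a, (lam a : ℂ) ^ (ordCompl[p] N.index) = 1) ∧
      ∀ σ, redC M (omega (fun g : G => (lam g : ℂ) * ψ g) (u σ)) = 1 := by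
  have hirr : IsIrrCharacter N fun n : N => ψ n := by
    rw [show (fun n : N => ψ n) = θ from funext hext]
    exact θ.2
  have hfb := chiL_mul_fb_of_res hψ (θ := θ) (e := 1) (by simpa using hext)
  have h0 : ψ 1 ≠ 0 := hirr.apply_one_ne_zero
  have hom : ∀ a b, Invt N a → omega ψ (a * b) = omega ψ a * omega ψ b := fun a b ha => by
    rw [omega_apply, chiL_mul_of_invt hψ hirr ha, omega_apply ψ b, mul_div_assoc]
  have homfb : ∀ a, omega ψ (a * fb N {θ}) = omega ψ a := fun a => by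
    rw [omega_apply, hfb, omega_apply]
  obtain ⟨α, hα, hα'⟩ := hu.exists_cocycle hθ
  have hmul : ∀ σ τ, omega ψ (u σ) * omega ψ (u τ) = α σ τ * omega ψ (u (σ * τ)) := fun σ τ => by
    rw [← hom _ _ (hu.invt σ), ← homfb, hα', map_smul, homfb, smul_eq_mul]
  have hone : redC M (omega ψ (u 1)) = 1 := by
    have hs : Supp (N : Set G) (u 1) := coset_one (N := N) ▸ hu.supp 1
    rw [← homfb, mul_fb_singleton hs (hu.invt 1), map_smul, ← one_mul (fb N {θ}), homfb,
      omega_one h0, smul_eq_mul, mul_one, redC_omega_pull (hu.mem 1) hs (hu.invt 1) hθ, hu.aug_eq,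
      redC_one]
  have hαm : ∀ σ τ, redC M (α σ τ) ≠ 0 := fun σ τ => by rw [hα]; exact one_ne_zero
  have hpow : ∀ σ (k : ℕ), ∃ c, redC M c = 1 ∧
      omega ψ (u σ) ^ k * omega ψ (u 1) = c * omega ψ (u (σ ^ k)) := by
    intro σ k
    induction k with
    | zero => exact ⟨1, redC_one, by simp⟩
    | succ k ih =>
      obtain ⟨c, hc, e⟩ := ih
      refine ⟨c * α σ (σ ^ k), by
        rw [redC_mul_of_ne_zero (by rw [hc]; exact one_ne_zero) (hαm _ _), hc, hα, mul_one], ?_⟩
      rw [pow_succ', pow_succ', mul_assoc, e, mul_assoc, ← hmul]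
      ring
  have hne : ∀ σ, redC M (omega ψ (u σ)) ≠ 0 := by
    intro σ
    obtain ⟨c, hc, e⟩ := hpow σ (orderOf σ)
    rw [pow_orderOf_eq_one] at e
    have e2 := mul_right_cancel₀ (ne_zero_of_redC_ne_zero (M := M)
      (by rw [hone]; exact one_ne_zero)) e
    have hm : omega ψ (u σ) ∈ locRing M := mem_locRing_of_pow_mem (orderOf_pos σ).ne'
      (e2 ▸ mem_of_redC_ne_zero (by rw [hc]; exact one_ne_zero))
    intro h
    rw [← e2, redC_pow hm, h, zero_pow (orderOf_pos σ).ne'] at hc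
    exact zero_ne_one hc
  obtain ⟨lam, h1, h2⟩ := exists_teichmuller hM (fun σ => (redC M (omega ψ (u σ)))⁻¹)
    (by simp [hone]) fun a b => by
      rw [← mul_inv, ← redC_mul_of_ne_zero (hne a) (hne b), hmul,
        redC_mul_of_ne_zero (hαm _ _) (hne _), hα, one_mul]
  refine ⟨lam, h2, fun σ => ?_⟩
  rw [omega_apply, chiL_mul_of_supp (hu.supp σ) (fun a => (lam a : ℂ))]
  simp only [QuotientGroup.mk_one, map_one, Units.val_one, one_mul]
  rw [mul_div_assoc, ← omega_apply, redC_mul_of_ne_zero (by rw [h1]; exact inv_ne_zero (hne σ))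
    (hne σ), h1, inv_mul_cancel₀ (hne σ)]

omit hN in
/-- uniqueness in the principal block -/
theorem eq_one_of_mul_mem_principal [N.Normal] (hM : IsPModular p M) (hidx : ¬ p ∣ N.index)
    (h : ∀ σ : G ⧸ N, ∃ x : G, (x : G ⧸ N) = σ ∧ ¬ p ∣ (Subgroup.centralizer ({x} : Set G)).index)
    {χ χ' : IrrCharacter G} (hχ : χ ∈ principalBlock M G) (hχ' : χ' ∈ principalBlock M G)
    {β : G → ℂ} (hβ : IsIrrCharacter G β) (hker : N ≤ charKer β) (e : β * χ = χ') :
    β = fun _ => 1 := by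
  classical
  haveI := Fintype.ofFinite (G ⧸ N)
  by_contra hne
  have hb := hβ.deflate hker
  have hne' : deflate N β ≠ fun _ => 1 := fun h' => hne (funext fun g => by
    rw [← deflate_mk hker, h'])
  have hs := hb.sum_eq_zero hne'
  have h0 := hβ.apply_one_ne_zero
  have key : ∀ σ, redC M (deflate N β σ / β 1) = 1 := by
    intro σ
    obtain ⟨x, rfl, hx⟩ := h σ
    rw [deflate_mk hker]
    have a1 := redC_centralChar_principal hχ x
    have a2 := redC_centralChar_principal hχ' x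
    have a0 : ((Subgroup.centralizer ({x} : Set G)).index : Res M) ≠ 0 := by
      rwa [Ne, natCast_res_eq_zero_iff hM]
    have a3 : β x / β 1 = centralChar (χ' : G → ℂ) x / centralChar (χ : G → ℂ) x := by
      rw [eq_div_iff (ne_zero_of_redC_ne_zero (M := M) (by rwa [a1])), ← e]
      have := χ.2.apply_one_ne_zero
      simp only [centralChar, Pi.mul_apply]
      field_simp
    rw [a3, redC_div (centralChar_mem χ'.2 x) (by rwa [a1]), a1, a2, div_self a0]
  have h2 : redC M (∑ σ, deflate N β σ / β 1) = N.index := by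
    rw [redC_sum _ fun σ _ => mem_of_redC_ne_zero (by rw [key]; exact one_ne_zero)]
    simp [key, Subgroup.index]
  rw [← Finset.sum_div, hs, zero_div, redC_zero, eq_comm, natCast_res_eq_zero_iff hM] at h2
  exact hidx h2

/-- the principal block only covers the principal block -/
theorem mem_principal_of_under [Fintype N] {χ : IrrCharacter G} (hχ : χ ∈ principalBlock M G)
    {θ : IrrCharacter N} (h : classInner (fun n : N => (χ : G → ℂ) n) (θ : N → ℂ) ≠ 0) :
    θ ∈ principalBlock M N := by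
  have h1 := H7.chiL_fb_ne_zero_of_cover isPBlock_principal (isPBlock_blockOf θ)
    (H7.eB_mul_eb_blockOf_ne_zero isPBlock_principal hχ h) irrOne_mem_principal
  obtain ⟨θ', h2, h3⟩ := (H7.chiL_fb_ne_zero_iff (irrOne G).2.isCharacter _).1 h1
  have e : (fun _ : N => (1 : ℂ)) = θ' := isIrrCharacter_one.eq_of_classInner_ne_zero θ'.2 h3
  have h4 : SameBlock M (θ : N → ℂ) θ' := h2
  rw [← e] at h4
  exact sameBlock_symm h4

/-- **Alperin–Dade** -/
theorem alperin_dade [Fact p.Prime] (hM : IsPModular p M) (hidx : ¬ p ∣ N.index) (P : Sylow p G)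
    (hsup : N ⊔ Subgroup.centralizer ((P : Subgroup G) : Set G) = ⊤) :
    (∀ θ ∈ principalBlock M N, ∃ χ ∈ principalBlock M G, ∀ n : N, (χ : G → ℂ) n = (θ : N → ℂ) n) ∧
    ∀ χ ∈ principalBlock M G, ∀ χ' ∈ principalBlock M G, ∀ θ : IrrCharacter N,
      (∀ n : N, (χ : G → ℂ) n = (θ : N → ℂ) n) →
      haveI := Fintype.ofFinite N
      classInner (fun n : N => (χ' : G → ℂ) n) (θ : N → ℂ) ≠ 0 → χ' = χ := by
  classical
  haveI := Fintype.ofFinite G
  have hPN : (P : Subgroup G) ≤ N := H7.le_of_not_dvd_relIndex Subgroup.le_normalizer_of_normal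
    (by rwa [Subgroup.relIndex_top_right]) P.isPGroup' le_top
  constructor
  · intro θ hθ
    obtain ⟨u, hu⟩ := exists_Dd_of_sup hM hPN (fun h => P.not_dvd_index
      (h.trans (Subgroup.relIndex_dvd_index_of_le hPN))) hsup
    obtain ⟨χ, h1, h2⟩ := hu.exists_ext hM hidx hθ
    exact ⟨χ, hu.mem_principal hθ (chiL_mul_fb_of_res χ.2.isCharacter (e := 1) (by simpa using h1))
      h2 (MonoidHom.id G) (fun x _ => ⟨x, rfl⟩) fun _ => rfl, h1⟩
  · intro χ hχ χ' hχ' θ h1 h2
    letI := Fintype.ofFinite N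
    obtain ⟨β, hβ, hk, e⟩ := (H5.NEmb.ofNormal N).gallagher_surj θ.2 χ.2.isCharacter h1 χ'.2 h2
    have := eq_one_of_mul_mem_principal hM hidx (fun σ => ?_) hχ hχ' hβ
      (fun n hn => hβ.isCharacter.mem_charKer.2 (hk ⟨n, hn⟩)) e
    · apply Subtype.ext
      rw [← e, this]
      funext g
      simp
    · obtain ⟨g, rfl⟩ := QuotientGroup.mk_surjective σ
      have hg : g ∈ ((N ⊔ Subgroup.centralizer ((P : Subgroup G) : Set G) : Subgroup G) : Set G) := by
        rw [hsup]; trivial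
      rw [Subgroup.normal_mul] at hg
      obtain ⟨n, hn, x, hx, rfl⟩ := hg
      refine ⟨x, ?_, fun hd => P.not_dvd_index (hd.trans (Subgroup.index_dvd_of_le ?_))⟩
      · simp only [QuotientGroup.mk_mul, (QuotientGroup.eq_one_iff n).2 hn, one_mul]
      · intro y hy
        exact mem_centralizer_singleton.2 (hx y hy).symm

end Cfsg.Agent.H6
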