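import Cfsg.Agent.H1.Coprime
import Cfsg.Agent.H1.Frobenius
import Cfsg.Agent.H1.Frattini
import Cfsg.Agent.H26.Act

/-! A Frobenius group acting with vanishing complement norm has trivially acting kernel. -/

set_option autoImplicit false

namespace Cfsg.Agent.H6

open Subgroup
open scoped Pointwise commutatorElement

theorem frob_norm {Γ V : Type*} [Group Γ] [Finite Γ] [CommGroup V] (a : Γ →* Monoid.End V)
    {F H : Subgroup Γ} [Fintype F] [Fintype H] (hn : H ≤ normalizer (F : Set Γ))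
    (hfp : ∀ y ∈ H, y ≠ 1 → ∀ f ∈ F, f * y = y * f → f = 1) (h : ∀ v, ∏ y : H, a y v = 1) (v : V) :
    v ^ Nat.card F = ∏ f : F, a f v := by
  classical
  have h1 : ∏ y : H, ∏ f : F, a (f * y * (f : Γ)⁻¹) v = 1 := by
    rw [Finset.prod_comm]
    refine Finset.prod_eq_one fun f _ => ?_
    simp only [map_mul, Monoid.End.coe_mul, Function.comp_apply]
    rw [← map_prod, h, map_one]
  have h2 : ∏ y : H, ∏ f : F, a (f * y) v = 1 := by
    rw [Finset.prod_comm]
    refine Finset.prod_eq_one fun f _ => ?_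
    simp only [map_mul, Monoid.End.coe_mul, Function.comp_apply]
    rw [← map_prod, h, map_one]
  rw [← Finset.mul_prod_erase _ _ (Finset.mem_univ 1)] at h1 h2
  rw [Finset.prod_congr rfl (g := fun y : H => ∏ f : F, a (f * y) v)] at h1
  · simpa [Finset.card_univ, Nat.card_eq_fintype_card] using mul_right_cancel (h1.trans h2.symm)
  intro y hy
  refine Fintype.prod_bijective (fun f : F => (⟨f * (y * (f : Γ)⁻¹ * (y : Γ)⁻¹),
    mul_mem f.2 ((mem_normalizer_iff.1 (hn y.2) _).1 (inv_mem f.2))⟩ : F))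
    (Finite.injective_iff_bijective.1 fun f g e => ?_) _ _ fun f => by simp [mul_assoc]
  have e' : (f : Γ) * (y * (f : Γ)⁻¹ * (y : Γ)⁻¹) = g * (y * (g : Γ)⁻¹ * (y : Γ)⁻¹) := congrArg Subtype.val e
  have := hfp y y.2 (fun e => (Finset.mem_erase.1 hy).1 (Subtype.ext e)) _ (mul_mem (inv_mem g.2) f.2)
    (by calc (g : Γ)⁻¹ * f * y = (g : Γ)⁻¹ * (f * (y * (f : Γ)⁻¹ * (y : Γ)⁻¹)) * y * f := by group
      _ = y * ((g : Γ)⁻¹ * f) := by rw [e']; group)
  exact Subtype.ext (inv_mul_eq_one.1 this).symm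

theorem frob_norm_fix {Γ V : Type*} [Group Γ] [Finite Γ] [CommGroup V] [Finite V]
    (a : Γ →* Monoid.End V) {F H : Subgroup Γ} [Fintype H] (hn : H ≤ normalizer (F : Set Γ))
    (hfp : ∀ y ∈ H, y ≠ 1 → ∀ f ∈ F, f * y = y * f → f = 1) (h : ∀ v, ∏ y : H, a y v = 1)
    (hc : (Nat.card F).Coprime (Nat.card V)) {f : Γ} (hf : f ∈ F) (v : V) : a f v = v := by
  haveI := Fintype.ofFinite F
  refine (powCoprime hc.symm).injective ?_
  change a f v ^ _ = v ^ _
  rw [← map_pow, frob_norm a hn hfp h, map_prod]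
  exact Fintype.prod_equiv (Equiv.mulLeft (⟨f, hf⟩ : F)) _ _ fun g => by simp

/-- If all elements of the coset `P h` have order dividing that of `h`, where `F ⟨h⟩` is a Frobenius
group normalizing the `p`-group `P`, then `F` centralizes `P`. -/
theorem le_centralizer_of_split {G : Type*} [Group G] [Finite G] {p : ℕ} [Fact p.Prime]
    {P F : Subgroup G} {h : G} (hP : IsPGroup p P) (hF : F ≤ normalizer (P : Set G))
    (hh : h ∈ normalizer (P : Set G)) (hhF : h ∈ normalizer (F : Set G))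
    (hfp : ∀ y ∈ zpowers h, y ≠ 1 → F ⊓ centralizer {y} = ⊥)
    (hc : (Nat.card F).Coprime (Nat.card P)) (hs : ∀ w ∈ P, (w * h) ^ orderOf h = 1) :
    F ≤ centralizer (P : Set G) := by
  classical
  let φ := P.normalizerMonoidHom
  let a : normalizer (P : Set G) →* Monoid.End (Abelianization P) :=
    { toFun := fun g => Abelianization.map (φ g).toMonoidHom
      map_one' := by rw [map_one]; exact Abelianization.map_id
      map_mul' := fun g k => by rw [map_mul]; exact (Abelianization.map_comp (φ k).toMonoidHom (φ g).toMonoidHom).symm }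
  have ha : ∀ g x, a g (Abelianization.of x) = Abelianization.of (φ g x) := fun _ _ => rfl
  let h' : normalizer (P : Set G) := ⟨h, hh⟩
  have key : ∀ (w : P) (k : ℕ), ∃ u : P, (w * h) ^ k = u * h ^ k ∧
      Abelianization.of u = ∏ i ∈ Finset.range k, a (h' ^ i) (Abelianization.of w) := fun w k => by
    induction k with
    | zero => exact ⟨1, by simp, by simp⟩
    | succ k ih =>
      obtain ⟨u, h1, h2⟩ := ih
      refine ⟨u * φ (h' ^ k) w, ?_, by rw [Finset.prod_range_succ, map_mul, h2, ha]⟩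
      change _ = u * (h ^ k * w * (h ^ k)⁻¹) * _
      rw [pow_succ, h1]; group
  haveI := Fintype.ofFinite (zpowers h')
  have h1 := fun f hf => frob_norm_fix a (F := F.subgroupOf _) (H := zpowers h') (f := f)
    (zpowers_le.2 (subgroupOf_normalizer_eq hF ▸ hhF))
    (fun y hy hy1 f hf e => Subtype.ext (H1.eq_one_of_inf_centralizer_eq_bot (hfp y
      (by obtain ⟨k, rfl⟩ := hy; exact ⟨k, rfl⟩) fun e => hy1 (Subtype.ext e)) hf (congrArg Subtype.val e)))
    (fun v => by
      obtain ⟨w, rfl⟩ : ∃ w, Abelianization.of w = v := QuotientGroup.mk_surjective v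
      obtain ⟨u, h1, h2⟩ := key w (orderOf h)
      rw [hs w w.2, pow_orderOf_eq_one, mul_one] at h1
      rw [show u = 1 from Subtype.ext h1.symm, map_one, ← orderOf_mk (ha := hh), Finset.prod_range] at h2
      rw [h2]
      exact (Fintype.prod_equiv (finEquivZPowers (isOfFinOrder_of_finite h')) _ _ fun _ => rfl).symm)
    (by rw [Nat.card_congr (subgroupOfEquivOfLe hF).toEquiv]
        exact hc.of_dvd_right (card_quotient_dvd_card _)) hf
  refine H1.le_centralizer_of_commutator_le_frattini hF (hc.of_dvd_right (card_subgroup_dvd_card _)) ?_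
  rw [commutator_le]
  intro w hw f hf
  have h2 := h1 ⟨f, hF hf⟩ hf (Abelianization.of (⟨w, hw⟩ : P)⁻¹)
  rw [ha] at h2
  haveI := hP.isNilpotent
  refine ⟨⟨w, hw⟩ * φ ⟨f, hF hf⟩ (⟨w, hw⟩ : P)⁻¹, H1.commutator_le_frattini ?_, ?_⟩
  · rw [← Abelianization.ker_of, MonoidHom.mem_ker, map_mul, h2, ← map_mul, mul_inv_cancel, map_one]
  · change w * (f * w⁻¹ * f⁻¹) = _
    rw [commutatorElement_def]; group

end Cfsg.Agent.H6
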