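import Cfsg.Agent.H6.CoB
import Cfsg.Agent.H10.Xsp6

/-! Sections of `Co0` with a large extraspecial subgroup. -/

set_option autoImplicit false
set_option maxRecDepth 100000

namespace Cfsg.Agent.H6.CoA

open Cfsg Cfsg.Agent.H16 Cfsg.Agent.LL MulAction Subgroup

def negM : ℕ := nat_lit 0x442108421084210842108421084210822108421084210842108421084210841108421084210842108421084210842088421084210842108421084210842104421084210842108421084210842108221084210842108421084210842108411084210842108421084210842108420884210842108421084210842108421044210842108421084210842108421082210842108421084210842108421084110842108421084210842108421084208842108421084210842108421084210442108421084210842108421084210822108421084210842108421084210841108421084210842108421084210842088421084210842108421084210842104421084210842108421084210842108221084210842108421084210842108411084210842108421084210842108420884210842108421084210842108421044210842108421084210842108421082210842108421084210842108421084110842108421084210842108421084208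

theorem mIs_neg1 : MIs neg1 negM := by
  intro p
  rw [neg1_smul, AddSubgroup.coe_neg, coe_e8]
  revert p
  decide +kernel

instance finQ : Finite Lc.Q := Nat.finite_of_card_ne_zero (by rw [Lc.card_Q]; norm_num)

/-- `c` is fixed and `a` is negated -/
noncomputable def okN (mz mn c a : ℕ) : Bool := andB (isLv a) (andB (mv mz c c) (mv mn a a))

theorem cent2_le {α z : Co0} {ma mz mn : ℕ} (hα : MIs α ma) (hz : MIs z mz) (hU : z • U = U)
    (prog : List (ℕ × ℕ × List (ℕ × ℕ))) {N : ℕ} (hn : mm negM mz mn = true)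
    (h : chk [ma, mz] (okN mz mn) prog [aU] [] N = true) :
    Nat.card (((centralizer {α}).map Lc.ρ ⊓ centralizer {Lc.ρ z} : Subgroup _) ⊓
      stabilizer (Equiv.Perm Lc.Q) (U : Lc.Q) : Subgroup _) ≤ N := by
  have h1 := chk_sound (H := (centralizer {α} ⊓ centralizer {z}) ⊓ stabilizer Co0 U) prog (fun _ hg => hg.2)
    (List.forall_mem_cons.mpr ⟨⟨α, hα, fun _ hg => mem_centralizer_singleton_iff.mp hg.1.1⟩,
      List.forall_mem_cons.mpr ⟨⟨z, hz, fun _ hg => mem_centralizer_singleton_iff.mp hg.1.2⟩, by simp⟩⟩)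
    (fun c a e x hx g hg => by
      simp only [okN, andB_iff] at e
      have e1 : z • x = x := Subtype.ext ((Lc.mv_spec hz e.2.1 hx).trans hx.symm)
      have e2 : (neg1 * z) • vL a = vL a :=
        Subtype.ext ((Lc.mv_spec (mIs_neg1.mm hz hn) e.2.2 (coe_vL e.1)).trans (coe_vL e.1).symm)
      have k : ∀ v : L, z • v = v → dotInt (vec a) (v : V) = 0 := fun v hv => by
        have := dot_co (neg1 * z) (vL a) v
        rw [e2, mul_smul, hv, neg1_smul, AddSubgroup.coe_neg, dot_neg_right, coe_vL e.1] at this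
        omega
      rw [k x e1, k _ (by rw [← mul_smul, ← mem_centralizer_singleton_iff.mp hg.1.2, mul_smul, e1])])
    (fx_U fun _ hg => hg.2) (by simp) h
  refine (card_le_of_le ?_).trans ((Nat.le_of_dvd Nat.card_pos (card_map_dvd _ Lc.ρ)).trans h1)
  have key : ∀ g : Co0, g ∈ centralizer {α} → Lc.ρ g ∈ centralizer {Lc.ρ z} → g • U = U →
      Lc.ρ g ∈ ((centralizer {α} ⊓ centralizer {z}) ⊓ stabilizer Co0 U).map Lc.ρ := fun g h1 h2 h3 => by
    refine ⟨g, ⟨⟨h1, mem_centralizer_singleton_iff.mpr ?_⟩, h3⟩, rfl⟩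
    have h4 : g * z * (z * g)⁻¹ ∈ center Co0 := Lc.ker_ρ.le (by
      rw [MonoidHom.mem_ker, map_mul, map_inv, map_mul, map_mul, mem_centralizer_singleton_iff.mp h2, mul_inv_cancel])
    rcases LL.mem_center_iff.mp h4 with e | e
    · exact mul_inv_eq_one.mp e
    · have := congrArg (· • U) (mul_inv_eq_iff_eq_mul.mp e)
      simp only [mul_smul, hU, h3, neg1_smul] at this
      exact absurd this (by decide +kernel)
  rintro _ ⟨⟨⟨g, hg, rfl⟩, h2⟩, h3⟩
  rcases Lc.eq_or_neg (x := g • U) (y := U) (by rw [sqNorm_co, norm_U]; norm_num) (by rw [norm_U]; norm_num) h3 with e | e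
  · exact key g hg h2 e
  · have q : Lc.ρ (neg1 * g) = Lc.ρ g := by rw [map_mul, Lc.ρ_neg1, one_mul]
    exact q ▸ key _ (mul_mem (center_le_centralizer _ neg1_mem_center) hg) (q ▸ h2)
      (by rw [mul_smul, e, neg1_smul, neg_neg])

theorem rho_NC {α : Co0} {x : CC α} (hx : x ∈ NC α) : Lc.ρ x ∈ zpowers (Lc.ρ α) :=
  (sup_le (fun a ha => by obtain ⟨k, rfl⟩ := ha; exact ⟨k, (map_zpow _ _ _).symm⟩)
    (fun a ha => by rw [mem_comap, show Lc.ρ a = 1 from Lc.ker_ρ.ge ha]; exact one_mem _) :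
    _ ≤ (zpowers (Lc.ρ α)).comap Lc.ρ) hx

theorem simple_of_shape {G : Type*} [Group G] [Finite G] {z g : G} (o2 : orderOf z = 2)
    (a4 : generalizedFittingSubgroup (centralizer ({z} : Set G)) = pCore 2 _)
    (a1 : IsExtraspecial 2 (pCore 2 (centralizer ({z} : Set G)))) (m1 : g * z * g⁻¹ ∈ centralizer ({z} : Set G))
    (m2 : (⟨_, m1⟩ : centralizer ({z} : Set G)) ∈ pCore 2 _) (m3 : g * z * g⁻¹ ≠ z)
    (hC : centralizer ({z} : Set G) ≤ normalClosure {z}) : IsSimpleGroup G := by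
  have : Fact (Nat.Prime 2) := ⟨Nat.prime_two⟩
  obtain ⟨y, hy, -⟩ := H10.exists_xs a1
  have hF' : H10.FstarOf (centralizer ({z} : Set G)) = (pCore 2 (centralizer ({z} : Set G))).map (Subgroup.subtype _) := by
    rw [H10.FstarOf_def, a4]
  have l := H10.lx_of_fstar o2 hF' (hy.map (subtype_injective _)).isExtraspecial
  exact l.simple (l.large_of_conj ⟨_, m2, rfl⟩ m3) hC rfl

set_option maxHeartbeats 4000000 in
theorem sec_shape {α z : Co0} (hz : z ∈ centralizer {α}) (z2 : z * z = 1) (ho : orderOf (Lc.ρ α) = 3)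
    {D Q : Subgroup (Equiv.Perm Lc.Q)} (hD : D ≤ (centralizer {α}).map Lc.ρ ⊓ centralizer {Lc.ρ z}) (hw : Lc.ρ α ∉ D)
    (hc : Nat.card ((centralizer {α}).map Lc.ρ ⊓ centralizer {Lc.ρ z} : Subgroup _) ≤ 3 * Nat.card D)
    (hgen : ∀ N, NormBy ((centralizer {α}).map Lc.ρ) N → Lc.ρ z ∈ N → D ≤ N)
    (h : ESData Q (Lc.ρ z)) (hQ : Q ≤ D) {k : ℕ} (h1 : Nat.card Q = 2 ^ k)
    {A : Type*} [Group A] [IsSimpleGroup A] (θ : D →* A) (hs : Function.Surjective θ) (hk : ∀ x : D, x.1 ∈ Q → θ x = 1)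
    (hC : Nat.card D = 2 ^ k * Nat.card A) (h6 : 3 ∣ Nat.card A) (hd : ∃ d ∈ D, ∃ x ∈ Q, d * d * x ≠ x * (d * d))
    (hu : ∃ u ∈ (centralizer {α}).map Lc.ρ, u * Lc.ρ z * u⁻¹ ∈ Q ∧ u * Lc.ρ z * u⁻¹ ≠ Lc.ρ z) :
    IsSimpleGroup (CC α ⧸ NC α) ∧ ¬ IsMulCommutative (CC α ⧸ NC α) ∧
    ∃ z : CC α ⧸ NC α, orderOf z = 2 ∧ ∃ (Q : Subgroup (centralizer ({z} : Set (CC α ⧸ NC α)))) (_ : Q.Normal),
      generalizedFittingSubgroup (centralizer ({z} : Set (CC α ⧸ NC α))) = Q ∧ IsExtraspecial 2 Q ∧ Nat.card Q = 2 ^ k ∧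
      Nonempty (centralizer ({z} : Set (CC α ⧸ NC α)) ⧸ Q ≃* A) ∧ ∃ g : CC α ⧸ NC α,
        (∃ hq : g * z * g⁻¹ ∈ centralizer ({z} : Set (CC α ⧸ NC α)),
        (⟨g * z * g⁻¹, hq⟩ : centralizer ({z} : Set (CC α ⧸ NC α))) ∈ Q) ∧ g * z * g⁻¹ ≠ z := by
  have cz := centralizer_zpowers α
  let z' : CC α := ⟨z, cz.ge hz⟩
  have ht : Lc.ρ z ∈ D := hQ h.mem
  obtain ⟨f, hf⟩ := exists_sec α D.subtype fun d => (hD d.2).1
  obtain ⟨f1, hf1⟩ := exists_sec α ((centralizer {α}).map Lc.ρ ⊓ centralizer {Lc.ρ z} : Subgroup _).subtype fun d => d.2.1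
  have p3 : Lc.ρ α ^ 3 = 1 := ho ▸ pow_orderOf_eq_one _
  have hi : Function.Injective f := (injective_iff_map_eq_one f).mpr fun d e => by
    obtain ⟨x, hx, q⟩ := (hD d.2).1
    have h2 := rho_NC ((QuotientGroup.eq_one_iff _).mp ((hf d ⟨x, cz.ge hx⟩ q).symm.trans e))
    obtain ⟨j, hj⟩ := mem_zpowers_iff.mp h2
    rw [← zpow_mod_orderOf, ho, q] at hj
    obtain e | e | e : j % (3 : ℕ) = 0 ∨ j % (3 : ℕ) = 1 ∨ j % (3 : ℕ) = 2 := by omega
    · exact Subtype.ext (by rw [← hj, e, zpow_zero]; rfl)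
    · exact absurd (by rw [e, zpow_one] at hj; exact hj ▸ d.2) hw
    · refine absurd ?_ hw
      have := D.inv_mem d.2
      rwa [← hj, e, show (Lc.ρ α ^ (2 : ℤ))⁻¹ = Lc.ρ α from inv_eq_of_mul_eq_one_left (by
        rw [← p3, zpow_two, pow_three])] at this
  have fz : f ⟨_, ht⟩ = z' := hf _ z' rfl
  have hle : f.range ≤ centralizer {(z' : CC α ⧸ NC α)} := by
    rintro _ ⟨d, rfl⟩
    rw [mem_centralizer_singleton_iff, ← fz, ← map_mul, ← map_mul]
    exact congrArg f (Subtype.ext (mem_centralizer_singleton_iff.mp (hD d.2).2))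
  have hle1 : centralizer {(z' : CC α ⧸ NC α)} ≤ f1.range := fun c hc => by
    obtain ⟨x, rfl⟩ := QuotientGroup.mk_surjective c
    have h2 : (z' * x)⁻¹ * (x * z') ∈ NC α := QuotientGroup.eq.mp (mem_centralizer_singleton_iff.mp hc).symm
    have h3 := sec_comm (n := ((z' * x)⁻¹ * (x * z') : CC α)) z'.2 h2
    obtain ⟨j, hj⟩ := mem_zpowers_iff.mp (rho_NC h2)
    set n : Co0 := ((z' * x)⁻¹ * (x * z') : CC α).1 with hn
    have e1 : n * z = x.1⁻¹ * z * x := by
      rw [hn]; change (z * x.1)⁻¹ * (x.1 * z) * z = _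
      rw [mul_assoc, mul_assoc, z2, mul_one, mul_inv_rev, inv_eq_of_mul_eq_one_left z2]
    have e2 : n * n = 1 := by
      have : n * z * (n * z) = 1 := by rw [e1]; simp only [mul_assoc, mul_inv_cancel_left]; rw [← mul_assoc z, z2]; simp
      rwa [mul_assoc, ← mul_assoc z, show z * n = n * z from h3.symm, mul_assoc n, z2, mul_one] at this
    have e3 : Lc.ρ n = 1 := by
      have a : Lc.ρ n ^ 3 = 1 := by rw [← hj, ← zpow_natCast, ← zpow_mul, mul_comm, zpow_mul, zpow_natCast, p3, one_zpow]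
      rwa [pow_three', ← map_mul, e2, map_one, one_mul] at a
    refine ⟨⟨Lc.ρ x, ⟨x, cz.le x.2, rfl⟩, mem_centralizer_singleton_iff.mpr ?_⟩, hf1 _ x rfl⟩
    have e4 := congrArg Lc.ρ e1
    rw [map_mul, e3, one_mul, map_mul, map_mul, map_inv, mul_assoc, eq_inv_mul_iff_mul_eq] at e4
    exact e4
  have hα : α ∈ CC α := cz.ge (mem_centralizer_singleton_iff.mpr rfl)
  have c3 : 3 ≤ Nat.card f1.ker := by
    let w : ((centralizer {α}).map Lc.ρ ⊓ centralizer {Lc.ρ z} : Subgroup _) := ⟨Lc.ρ α, ⟨α, cz.le hα, rfl⟩,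
      mem_centralizer_singleton_iff.mpr (by rw [← map_mul, ← map_mul, mem_centralizer_singleton_iff.mp hz])⟩
    have : w ∈ f1.ker := (hf1 w ⟨α, hα⟩ rfl).trans ((QuotientGroup.eq_one_iff _).mpr (mem_sup_left (mem_zpowers α)))
    exact Nat.le_of_dvd Nat.card_pos (by rw [← ho, ← orderOf_mk _ w.2]; exact orderOf_dvd_natCard _ this)
  have e0 : f.range = centralizer {(z' : CC α ⧸ NC α)} := by
    refine eq_of_le_of_card_ge hle ((card_le_of_le hle1).trans ?_)
    rw [← Nat.card_congr (MonoidHom.ofInjective hi).toEquiv]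
    have := card_eq_card_quotient_mul_card_subgroup f1.ker
    rw [Nat.card_congr (QuotientGroup.quotientKerEquivRange f1).toEquiv] at this
    nlinarith
  let g : centralizer {(z' : CC α ⧸ NC α)} ≃* D := ((MonoidHom.ofInjective hi).trans (MulEquiv.subgroupCongr e0)).symm
  have hg : ∀ (d : D) hd, g ⟨f d, hd⟩ = d := fun d hd => by
    rw [MulEquiv.symm_apply_eq]; rfl
  obtain ⟨a0, a1, a2, a3, a4⟩ := es_quot h hQ h1 θ hs hk hC h6 hd g
  obtain ⟨_, ⟨x, hx, rfl⟩, h7, h8⟩ := hu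
  let x' : CC α := ⟨x, cz.ge hx⟩
  have q : f ⟨_, hQ h7⟩ = (x' : CC α ⧸ NC α) * z' * (x' : CC α ⧸ NC α)⁻¹ :=
    hf _ (x' * z' * x'⁻¹) (by simp [x', z'])
  have o2 : orderOf (z' : CC α ⧸ NC α) = 2 := by
    rw [← fz, orderOf_injective f hi, orderOf_mk]
    exact orderOf_eq_prime (by rw [pow_two, ← map_mul, z2, map_one]) h.ne
  have m1 : (x' : CC α ⧸ NC α) * z' * (x' : CC α ⧸ NC α)⁻¹ ∈ centralizer {(z' : CC α ⧸ NC α)} := hle ⟨_, q⟩
  have m2 : (⟨_, m1⟩ : centralizer {(z' : CC α ⧸ NC α)}) ∈ pCore 2 _ := (a0 _).mpr (by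
    rw [show (⟨_, m1⟩ : centralizer {(z' : CC α ⧸ NC α)}) = ⟨f ⟨_, hQ h7⟩, q ▸ m1⟩ from Subtype.ext q.symm, hg]; exact h7)
  have m3 : (x' : CC α ⧸ NC α) * z' * (x' : CC α ⧸ NC α)⁻¹ ≠ z' := fun e =>
    h8 (congrArg Subtype.val (hi (q.trans (e.trans fz.symm))))
  refine ⟨?_, fun hc => m3 (by rw [hc.is_comm.comm _ (z' : CC α ⧸ NC α), mul_inv_cancel_right]), z', o2, _, inferInstance,
    a4, a1, a2, a3, x', ⟨m1, m2⟩, m3⟩
  refine simple_of_shape o2 a4 a1 m1 m2 m3 ?_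
  rw [← e0]
  rintro _ ⟨d, rfl⟩
  obtain ⟨v, hv, e⟩ := hgen (((normalClosure {(z' : CC α ⧸ NC α)}).comap (QuotientGroup.mk' (NC α))).map
    (Lc.ρ.comp (CC α).subtype)) (by
      rintro _ ⟨a, ha, rfl⟩ _ ⟨b, hb, rfl⟩
      exact ⟨⟨a, cz.ge ha⟩ * b * ⟨a, cz.ge ha⟩⁻¹, Normal.conj_mem inferInstance b hb _, by simp⟩)
    ⟨z', subset_normalClosure (Set.mem_singleton _), rfl⟩ d.2
  rw [hf d v e]
  exact hv

end Cfsg.Agent.H6.CoA
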