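import Mathlib

/-! Serial Frobenius algebras: the abstract module theory behind blocks with cyclic defect groups -/

set_option autoImplicit false

namespace Cfsg.Agent.H6

section fac
variable {R A B C : Type*} [Ring R] [AddCommGroup A] [Module R A] [AddCommGroup B] [Module R B]
  [AddCommGroup C] [Module R C]

theorem exists_fac_range (f : A →ₗ[R] B) (g : A →ₗ[R] C) (h : ∀ a, f a = 0 → g a = 0) :
    ∃ κ : LinearMap.range f →ₗ[R] C, ∀ a, κ ⟨f a, LinearMap.mem_range_self f a⟩ = g a := by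
  refine ⟨((LinearMap.ker f).liftQ g (fun a ha => h a ha)) ∘ₗ f.quotKerEquivRange.symm.toLinearMap,
    fun a => ?_⟩
  have : f.quotKerEquivRange.symm ⟨f a, LinearMap.mem_range_self f a⟩ = Submodule.Quotient.mk a := by
    rw [LinearEquiv.symm_apply_eq]; rfl
  rw [LinearMap.comp_apply, LinearEquiv.coe_coe, this]
  rfl

theorem isSemisimple_of_jac [IsSemiprimaryRing R] (h : ∀ a ∈ Ring.jacobson R, ∀ x : A, a • x = 0) :
    IsSemisimpleModule R A := by
  have hT : Module.IsTorsionBySet R A (Ring.jacobson R) := fun x a => h a a.2 x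
  letI := hT.module
  exact hT.isSemisimpleModule_iff.mp inferInstance

end fac

/-- `R b` is a serial Frobenius algebra of Loewy length `q` with radical generated by `π` -/
structure Ser (k : Type*) {R : Type*} [Field k] [Ring R] [Algebra k R] (q : ℕ) (b π : R)
    (s : R →ₗ[k] k) : Prop where
  two : 2 ≤ q
  idem : b * b = b
  bc : ∀ a, b * a = a * b
  bπ : b * π = π
  pow : π ^ q = 0
  Nc : ∀ a, π ^ (q - 1) * a = a * π ^ (q - 1)
  kerL : ∀ a, π ^ (q - 1) * a = 0 → ∃ c, b * a = π * c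
  kerR : ∀ a, π ^ (q - 1) * a = 0 → ∃ c, b * a = c * π
  jac : ∀ a ∈ Ring.jacobson R, π ^ (q - 1) * a = 0
  nd : ∀ r, (∀ x, s (x * r) = 0) → r = 0

namespace Ser

variable {k R : Type*} [Field k] [Ring R] [Algebra k R] {q : ℕ} {b π : R} {s : R →ₗ[k] k}
  (S : Ser k q b π s)
include S

theorem N_mul_π : π ^ (q - 1) * π = 0 := by
  rw [← pow_succ, Nat.sub_add_cancel (by have := S.two; omega), S.pow]

theorem b_pow {j : ℕ} (hj : 0 < j) : b * π ^ j = π ^ j := by
  obtain ⟨j, rfl⟩ := Nat.exists_eq_add_of_le' hj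
  rw [pow_succ', ← mul_assoc, S.bπ]

theorem b_N : b * π ^ (q - 1) = π ^ (q - 1) := S.b_pow (by have := S.two; omega)

theorem N_b : π ^ (q - 1) * b = π ^ (q - 1) := by rw [← S.bc, S.b_N]

theorem N_mul_mul_π (x : R) : π ^ (q - 1) * (x * π) = 0 := by
  rw [← mul_assoc, S.Nc, mul_assoc, S.N_mul_π, mul_zero]

theorem N_mul_N : π ^ (q - 1) * π ^ (q - 1) = 0 := by
  have := S.two
  rw [← pow_add, show q - 1 + (q - 1) = q + (q - 2) by omega, pow_add, S.pow, zero_mul]

theorem comm1 (x : R) : ∃ y, π * x = y * π := by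
  obtain ⟨c, hc⟩ := S.kerR (π * x) (by rw [← mul_assoc, S.N_mul_π, zero_mul])
  exact ⟨c, by rw [← hc, ← mul_assoc, S.bπ]⟩

theorem comm2 (x : R) : ∃ y, x * π = π * y := by
  obtain ⟨c, hc⟩ := S.kerL (x * π) (S.N_mul_mul_π x)
  exact ⟨c, by rw [← hc, ← mul_assoc, S.bc, mul_assoc, S.bπ]⟩

theorem comm1' (j : ℕ) (x : R) : ∃ y, π ^ j * x = y * π ^ j := by
  induction j generalizing x with
  | zero => exact ⟨x, by simp⟩
  | succ j ih =>
    obtain ⟨y, hy⟩ := S.comm1 x
    obtain ⟨z, hz⟩ := ih y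
    exact ⟨z, by rw [pow_succ, mul_assoc, hy, ← mul_assoc, hz, mul_assoc]⟩

theorem comm2' (j : ℕ) (x : R) : ∃ y, x * π ^ j = π ^ j * y := by
  induction j generalizing x with
  | zero => exact ⟨x, by simp⟩
  | succ j ih =>
    obtain ⟨y, hy⟩ := ih x
    obtain ⟨z, hz⟩ := S.comm2 y
    exact ⟨z, by rw [pow_succ, ← mul_assoc, hy, mul_assoc, hz, mul_assoc]⟩

theorem kerL' (i : ℕ) (hi : i ≤ q) (a : R) (h : π ^ (q - i) * a = 0) : ∃ c, b * a = π ^ i * c := by
  induction i with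
  | zero => exact ⟨b * a, by simp⟩
  | succ i ih =>
    obtain ⟨c, hc⟩ := ih (by omega) (by
      rw [show q - i = 1 + (q - (i + 1)) by omega, pow_add, mul_assoc, h, mul_zero])
    have h1 : π ^ (q - 1) * c = 0 := by
      rw [show q - 1 = q - (i + 1) + i by omega, pow_add, mul_assoc, ← hc, ← mul_assoc, ← S.bc,
        mul_assoc, h, mul_zero]
    obtain ⟨d, hd⟩ := S.kerL c h1
    refine ⟨d, ?_⟩
    rw [pow_succ, mul_assoc, ← hd, ← mul_assoc, ← S.bc, mul_assoc, ← hc, ← mul_assoc, S.idem]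

theorem kerR' (i : ℕ) (hi : i ≤ q) (a : R) (h : a * π ^ (q - i) = 0) : ∃ c, b * a = c * π ^ i := by
  induction i with
  | zero => exact ⟨b * a, by simp⟩
  | succ i ih =>
    obtain ⟨c, hc⟩ := ih (by omega) (by
      rw [show q - i = q - (i + 1) + 1 by omega, pow_add, ← mul_assoc, h, zero_mul])
    have h1 : π ^ (q - 1) * c = 0 := by
      rw [S.Nc, show q - 1 = i + (q - (i + 1)) by omega, pow_add, ← mul_assoc, ← hc, mul_assoc, h,
        mul_zero]
    obtain ⟨d, hd⟩ := S.kerR c h1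
    refine ⟨d, ?_⟩
    rw [pow_succ', ← mul_assoc, ← hd, mul_assoc, ← hc, ← mul_assoc, S.idem]

theorem N_eq_zero_of {i : ℕ} (hi : i + 1 ≤ q - 1) {d : R} (h : π ^ i * (d * π ^ (q - (i + 1))) = 0) :
    π ^ (q - 1) * d = 0 := by
  obtain ⟨c, hc⟩ := S.kerL' (q - i) (by omega) _ (by rwa [show q - (q - i) = i by omega])
  obtain ⟨c', hc'⟩ := S.comm1' (q - i) c
  have h1 : (b * d - c' * π) * π ^ (q - (i + 1)) = 0 := by
    rw [sub_mul, mul_assoc, hc, hc', mul_assoc, ← pow_succ', show q - (i + 1) + 1 = q - i by omega,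
      sub_self]
  obtain ⟨c'', hc''⟩ := S.kerR' (i + 1) (by omega) _ h1
  have h2 : b * d = (b * c' + c'' * π ^ i) * π := by
    rw [add_mul, mul_assoc c'', ← pow_succ, ← hc'', mul_sub, ← mul_assoc, S.idem, mul_assoc]; abel
  rw [← S.N_b, mul_assoc, h2, S.N_mul_mul_π]

variable [FiniteDimensional k R]

theorem exists_hom {V : Type*} [AddCommGroup V] [Module k V] [Module R V] [IsScalarTower k R V]
    (μ : V →ₗ[k] k) : ∃ H : V →ₗ[R] R, ∀ x v, s (x * H v) = μ (x • v) := by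
  let B : R →ₗ[k] Module.Dual k R := (LinearMap.mul k R).flip.compr₂ s
  have hB : ∀ r x, B r x = s (x * r) := fun r x => rfl
  have hinj : Function.Injective B := by
    rw [← LinearMap.ker_eq_bot, LinearMap.ker_eq_bot']
    intro r hr
    exact S.nd r fun x => by rw [← hB, hr]; rfl
  have hsurj : Function.Surjective B :=
    (LinearMap.injective_iff_surjective_of_finrank_eq_finrank Subspace.dual_finrank_eq.symm).mp hinj
  have key : ∀ v : V, ∃ r, ∀ x, s (x * r) = μ (x • v) := fun v => by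
    obtain ⟨r, hr⟩ := hsurj (μ ∘ₗ (LinearMap.toSpanSingleton R V v).restrictScalars k)
    exact ⟨r, fun x => by rw [← hB, hr]; rfl⟩
  choose H hH using key
  have ext : ∀ r r' : R, (∀ x, s (x * r) = s (x * r')) → r = r' := fun r r' h => by
    rw [← sub_eq_zero]
    exact S.nd _ fun x => by rw [mul_sub, map_sub, h, sub_self]
  refine ⟨⟨⟨H, fun v w => ext _ _ fun x => ?_⟩, fun a v => ext _ _ fun x => ?_⟩, fun x v => hH v x⟩
  · rw [mul_add, map_add, hH, hH, hH, smul_add, map_add]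
  · simp only [RingHom.id_apply, smul_eq_mul]
    rw [← mul_assoc, hH, hH, mul_smul]

theorem exists_ext {V : Type*} [AddCommGroup V] [Module k V] [Module R V] [IsScalarTower k R V]
    (m : V) (r : R) (h : ∀ x : R, x • m = 0 → x * r = 0) : ∃ H : V →ₗ[R] R, H m = r := by
  let f : R →ₗ[k] V := (LinearMap.toSpanSingleton R V m).restrictScalars k
  have : s ∘ₗ (LinearMap.mul k R).flip r ∈ (LinearMap.ker f).dualAnnihilator := by
    rw [Submodule.mem_dualAnnihilator]
    intro x hx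
    have := h x hx
    simp [this]
  rw [← LinearMap.range_dualMap_eq_dualAnnihilator_ker] at this
  obtain ⟨μ, hμ⟩ := this
  obtain ⟨H, hH⟩ := S.exists_hom μ
  refine ⟨H, ?_⟩
  rw [← sub_eq_zero]
  refine S.nd _ fun x => ?_
  rw [mul_sub, map_sub, hH, sub_eq_zero]
  exact LinearMap.congr_fun hμ x

theorem semisimple {V : Type*} [AddCommGroup V] [Module R V]
    (h : ∀ a : R, π ^ (q - 1) * a = 0 → ∀ v : V, a • v = 0) : IsSemisimpleModule R V := by
  haveI := IsArtinianRing.of_finite k R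
  exact isSemisimple_of_jac fun a ha => h a (S.jac a ha)

omit [FiniteDimensional k R] in
/-- multiplication by a central element -/
def cmul (c : R) (hc : ∀ a, c * a = a * c) (V : Type*) [AddCommGroup V] [Module R V] : V →ₗ[R] V where
  toFun v := c • v
  map_add' := smul_add c
  map_smul' a v := by simp only [RingHom.id_apply, smul_smul, hc]

variable {U W : Type*} [AddCommGroup U] [Module R U] [AddCommGroup W] [Module R W]

theorem exists_extend (V₁ : Submodule R U) (f : U →ₗ[R] W)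
    (hf : ∀ v ∈ V₁, π ^ (q - 1) • v = 0 → f v = 0) :
    ∃ g : U →ₗ[R] W, (∀ v ∈ V₁, g v = f v) ∧ ∀ v, π ^ (q - 1) • v = 0 → g v = 0 := by
  let NL := cmul (π ^ (q - 1)) S.Nc U
  have hNL : ∀ v, NL v = π ^ (q - 1) • v := fun v => rfl
  haveI : IsSemisimpleModule R (LinearMap.range NL) := S.semisimple fun a ha v => by
    obtain ⟨_, v, rfl⟩ := v
    ext
    simp only [SetLike.mk_smul_mk, ZeroMemClass.coe_zero, hNL, smul_smul, ← S.Nc, ha, zero_smul]
  obtain ⟨κ, hκ⟩ := exists_fac_range (NL ∘ₗ V₁.subtype) (f ∘ₗ V₁.subtype) fun v hv => hf v v.2 hv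
  obtain ⟨g, hg⟩ := IsSemisimpleModule.extension_property
    (Submodule.inclusion (LinearMap.range_comp_le_range V₁.subtype NL))
    (Submodule.inclusion_injective _) κ
  refine ⟨g ∘ₗ NL.rangeRestrict, fun v hv => ?_, fun v hv => ?_⟩
  · have := hκ ⟨v, hv⟩
    rw [← hg] at this
    exact this
  · have : NL.rangeRestrict v = 0 := Subtype.ext hv
    rw [LinearMap.comp_apply, this, map_zero]

theorem exists_split (hW : ∀ a : R, π ^ (q - 1) * a = 0 → ∀ w : W, a • w = 0) (w : W) :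
    ∃ a : R, a • w = w ∧ ∀ x : R, x • w = 0 → π ^ (q - 1) * (x * a) = 0 := by
  let F := LinearMap.toSpanSingleton R R (π ^ (q - 1))
  have hF : ∀ x, F x = x * π ^ (q - 1) := fun x => rfl
  haveI : IsSemisimpleModule R (LinearMap.range F) := S.semisimple fun a ha v => by
    obtain ⟨_, v, rfl⟩ := v
    ext
    simp only [SetLike.mk_smul_mk, ZeroMemClass.coe_zero, hF, smul_eq_mul]
    rw [← S.Nc, ← mul_assoc, ← S.Nc, ha, zero_mul]
  obtain ⟨φ, hφ⟩ := exists_fac_range F (LinearMap.toSpanSingleton R W w) fun x hx =>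
    hW x (by rw [S.Nc]; exact hx) w
  obtain ⟨L, hL⟩ := exists_isCompl (LinearMap.ker φ)
  have h1 : (⟨F 1, LinearMap.mem_range_self F 1⟩ : LinearMap.range F) ∈ LinearMap.ker φ ⊔ L := by
    rw [hL.sup_eq_top]; trivial
  obtain ⟨n₁, hn₁, ⟨_, a, rfl⟩, hn₂, hsum⟩ := Submodule.mem_sup.mp h1
  refine ⟨a, ?_, fun x hx => ?_⟩
  · have := congrArg φ hsum
    rw [map_add, hn₁, zero_add, hφ, hφ] at this
    simpa using this
  · have h2 : x • (⟨F a, LinearMap.mem_range_self F a⟩ : LinearMap.range F) ∈ LinearMap.ker φ ⊓ L := by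
      refine ⟨?_, L.smul_mem x hn₂⟩
      rw [← eq_sub_iff_add_eq'] at hsum
      rw [hsum, smul_sub]
      refine sub_mem ?_ (Submodule.smul_mem _ x hn₁)
      rw [LinearMap.mem_ker, map_smul, hφ]
      simpa using hx
    rw [hL.inf_eq_bot, Submodule.mem_bot] at h2
    have h3 := congrArg Subtype.val h2
    simp only [SetLike.mk_smul_mk, hF, smul_eq_mul, ZeroMemClass.coe_zero] at h3
    rw [S.Nc, mul_assoc, h3]

omit [FiniteDimensional k R] in
/-- the submodule `π^j U` -/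
def pU (j : ℕ) (U : Type*) [AddCommGroup U] [Module R U] : Submodule R U where
  carrier := {u | ∃ v, π ^ j • v = u}
  add_mem' := by
    rintro _ _ ⟨v, rfl⟩ ⟨w, rfl⟩
    exact ⟨v + w, smul_add _ _ _⟩
  zero_mem' := ⟨0, smul_zero _⟩
  smul_mem' := by
    rintro x _ ⟨v, rfl⟩
    obtain ⟨y, hy⟩ := S.comm2' j x
    exact ⟨y • v, by rw [smul_smul, smul_smul, hy]⟩

variable [Module k U] [IsScalarTower k R U] [Module k W]

theorem core (f : U →ₗ[R] W) (hW : ∀ a : R, π ^ (q - 1) * a = 0 → ∀ w : W, a • w = 0)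
    (H1 : ∀ ψ : U →ₗ[R] U, (∀ v, b • ψ v = ψ v) →
      ∃ c : k, ∀ v, π ^ (q - 1) • v = 0 → f (ψ v) = c • f v)
    {i : ℕ} (hi : i + 1 ≤ q - 1) (hmin : ∀ x, π ^ i • x = 0 → f x = 0) {u : U}
    (hu : π ^ (i + 1) • u = 0) (hfu : f u ≠ 0) (v : U) (hv : π ^ (q - 1) • v = 0) :
    ∃ x : R, f v = x • f u := by
  have hbw : ∀ w : W, b • w = w := fun w => by
    have := hW (1 - b) (by rw [mul_sub, mul_one, S.N_b, sub_self]) w
    rwa [sub_smul, one_smul, sub_eq_zero, eq_comm] at this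
  have hπw : ∀ w : W, π • w = 0 := hW π S.N_mul_π
  set u' := b • u with hu'
  have hfu' : f u' = f u := by rw [hu', map_smul, hbw]
  have hbu : b • u' = u' := by rw [hu', smul_smul, S.idem]
  have hu2 : π ^ (i + 1) • u' = 0 := by rw [hu', smul_smul, ← S.bc, mul_smul, hu, smul_zero]
  obtain ⟨a', ha1, ha2⟩ := S.exists_split hW (f u)
  obtain ⟨H, hH⟩ := S.exists_ext (Submodule.Quotient.mk (π ^ i • u') : U ⧸ S.pU (i + 1) U)
    (π ^ i * (a' * π ^ (q - (i + 1)))) (by
      intro x hx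
      rw [← Submodule.Quotient.mk_smul, Submodule.Quotient.mk_eq_zero] at hx
      obtain ⟨w, hw⟩ := hx
      obtain ⟨x', hx'⟩ := S.comm2' i x
      have h1 := hmin (x' • u' - π • w) (by
        rw [smul_sub, smul_smul, ← hx', mul_smul, ← hw, smul_smul, ← pow_succ, sub_self])
      rw [map_sub, map_smul f π, hπw, sub_zero, map_smul f x', hfu'] at h1
      obtain ⟨c, hc⟩ := S.kerL _ (ha2 x' h1)
      obtain ⟨c', hc'⟩ := S.comm1' (i + 1) c
      rw [← mul_assoc, hx', mul_assoc, ← S.b_pow (j := q - (i + 1)) (by omega), ← mul_assoc a',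
        ← mul_assoc x', ← mul_assoc x', ← S.bc, hc, ← mul_assoc, ← mul_assoc, ← pow_succ, hc',
        mul_assoc, ← pow_add, show i + 1 + (q - (i + 1)) = q by omega, S.pow, mul_zero])
  let F := LinearMap.toSpanSingleton R R (π ^ (q - (i + 1)))
  have hF : ∀ x, F x = x * π ^ (q - (i + 1)) := fun x => rfl
  let h : U →ₗ[R] R := cmul b S.bc R ∘ₗ H ∘ₗ (S.pU (i + 1) U).mkQ
  have hh : ∀ v, h v = b * H (Submodule.Quotient.mk v) := fun v => rfl
  have hr : ∀ v, h v ∈ LinearMap.range F := fun v => by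
    obtain ⟨c, hc⟩ := S.kerL' (q - (i + 1)) (by omega) (H (Submodule.Quotient.mk v)) (by
      rw [show q - (q - (i + 1)) = i + 1 by omega, ← smul_eq_mul, ← map_smul,
        ← Submodule.Quotient.mk_smul,
        (Submodule.Quotient.mk_eq_zero (S.pU (i + 1) U)).mpr ⟨v, rfl⟩, map_zero])
    obtain ⟨c', hc'⟩ := S.comm1' (q - (i + 1)) c
    exact ⟨c', by rw [hF, hh, hc, hc']⟩
  obtain ⟨κ, hκ⟩ := exists_fac_range F (LinearMap.toSpanSingleton R U u') fun x hx => by
    obtain ⟨c, hc⟩ := S.kerR' (i + 1) (by omega) x hx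
    rw [LinearMap.toSpanSingleton_apply, ← hbu, smul_smul, ← S.bc, hc, mul_smul, hu2, smul_zero]
  let ψ : U →ₗ[R] U := κ ∘ₗ h.codRestrict _ hr
  have hψ : ∀ v, ∃ x : R, h v = x * π ^ (q - (i + 1)) ∧ ψ v = x • u' := fun v => by
    obtain ⟨x, hx⟩ := hr v
    refine ⟨x, hx.symm, ?_⟩
    have : h.codRestrict _ hr v = ⟨F x, LinearMap.mem_range_self F x⟩ := Subtype.ext hx.symm
    simp only [ψ, LinearMap.comp_apply, this, hκ, LinearMap.toSpanSingleton_apply]
  obtain ⟨c, hc⟩ := H1 ψ fun v => by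
    obtain ⟨x, -, hx⟩ := hψ v
    rw [hx, smul_smul, S.bc, mul_smul, hbu]
  obtain ⟨a'', ha'', hψu⟩ := hψ u'
  have h1 : π ^ (q - 1) * (a'' - a') = 0 := by
    refine S.N_eq_zero_of hi ?_
    rw [sub_mul, mul_sub, ← ha'', hh, ← mul_assoc, ← S.bc, mul_assoc, ← smul_eq_mul (π ^ i),
      ← map_smul, ← Submodule.Quotient.mk_smul, hH, ← mul_assoc, ← mul_assoc, ← mul_assoc,
      mul_assoc b, S.bc, mul_assoc _ b, S.b_pow (by omega), sub_self]
  have h2 : f (ψ u') = f u := by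
    have := hW _ h1 (f u)
    rw [sub_smul, sub_eq_zero, ha1] at this
    rw [hψu, map_smul, hfu', this]
  have hNu : π ^ (q - 1) • u' = 0 := by
    rw [show q - 1 = (q - 1 - (i + 1)) + (i + 1) by omega, pow_add, mul_smul, hu2, smul_zero]
  have hc1 : c = 1 := by
    have := hc u' hNu
    rw [h2, hfu'] at this
    have h3 : (c - 1) • f u = 0 := by rw [sub_smul, one_smul, ← this, sub_self]
    exact sub_eq_zero.mp ((smul_eq_zero.mp h3).resolve_right hfu)
  obtain ⟨x, -, hx⟩ := hψ v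
  refine ⟨x, ?_⟩
  have := hc v hv
  rw [hc1, one_smul, hx, map_smul, hfu'] at this
  exact this.symm

theorem simple_head (f : U →ₗ[R] W) (hW : ∀ a : R, π ^ (q - 1) * a = 0 → ∀ w : W, a • w = 0)
    (H1 : ∀ ψ : U →ₗ[R] U, (∀ v, b • ψ v = ψ v) →
      ∃ c : k, ∀ v, π ^ (q - 1) • v = 0 → f (ψ v) = c • f v) (a : R) :
    ∃ u, (∀ v, π ^ (q - 1) • v = 0 → ∃ x : R, f v = x • a • f u) ∨
      (∀ v, π ^ (q - 1) • v = 0 → ∃ x : R, f v = x • (1 - a) • f u) := by
  classical
  by_cases h0 : ∀ v, π ^ (q - 1) • v = 0 → f v = 0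
  · exact ⟨0, Or.inl fun v hv => ⟨0, by rw [h0 v hv, zero_smul]⟩⟩
  push Not at h0
  have hex : ∃ j, ∃ v, π ^ j • v = 0 ∧ f v ≠ 0 := ⟨q - 1, h0⟩
  have hle : Nat.find hex ≤ q - 1 := Nat.find_min' hex h0
  obtain ⟨u, hu, hfu⟩ := Nat.find_spec hex
  have hne : Nat.find hex ≠ 0 := fun h => by
    rw [h, pow_zero, one_smul] at hu
    exact hfu (by rw [hu, map_zero])
  obtain ⟨i, hi⟩ := Nat.exists_eq_succ_of_ne_zero hne
  have hmin : ∀ x, π ^ i • x = 0 → f x = 0 := fun x hx => by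
    by_contra hc
    exact Nat.find_min hex (m := i) (by omega) ⟨x, hx, hc⟩
  rw [hi] at hu hle
  have key : ∀ c : R, c • f u ≠ 0 → ∀ v, π ^ (q - 1) • v = 0 → ∃ x : R, f v = x • c • f u := by
    intro c hc v hv
    obtain ⟨c', hc'⟩ := S.comm1' (i + 1) c
    rw [← map_smul] at hc ⊢
    exact S.core f hW H1 hle hmin (by rw [smul_smul, hc', mul_smul, hu, smul_zero]) hc v hv
  refine ⟨u, ?_⟩
  by_cases h1 : a • f u = 0
  · exact Or.inr (key _ (by rwa [sub_smul, one_smul, h1, sub_zero]))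
  · exact Or.inl (key _ h1)

end Ser

end Cfsg.Agent.H6
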