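import Cfsg.Agent.H6.Cyc1
import Cfsg.Agent.H7.GAlg

/-! Stable homomorphisms between a group algebra and a local subgroup with a serial block -/

set_option autoImplicit false

namespace Cfsg.Agent.H6

open MonoidAlgebra
open Cfsg.Agent.H7 (Supp Invt cj Fix mem_Fix)

section wt

theorem exists_wt_free {Q Ω : Type*} [Group Q] [Fintype Q] (act : Q → Ω → Ω)
    (h1 : ∀ x, act 1 x = x) (hm : ∀ q q' x, act (q * q') x = act q (act q' x)) :
    ∃ d : Ω → ℕ, ∀ x, (∀ q, act q x = x → q = 1) → ∑ q, d (act q x) = 1 := by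
  classical
  letI : MulAction Q Ω := { smul := act, one_smul := h1, mul_smul := hm }
  have hs : ∀ q x, q • x = act q x := fun _ _ => rfl
  let r : Ω → Ω := fun x => (Quotient.mk (MulAction.orbitRel Q Ω) x).out
  refine ⟨fun x => if r x = x then 1 else 0, fun x hx => ?_⟩
  have hr : ∀ q : Q, r (q • x) = r x := fun q => by
    have : Quotient.mk (MulAction.orbitRel Q Ω) (q • x) = Quotient.mk (MulAction.orbitRel Q Ω) x :=
      Quotient.sound (MulAction.mem_orbit x q)
    simp only [r, this]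
  obtain ⟨q₀, hq₀⟩ : r x ∈ MulAction.orbit Q x := Quotient.mk_out (s := MulAction.orbitRel Q Ω) x
  simp only [← hs, hr]
  rw [Finset.sum_eq_single q₀ (fun q _ hq => if_neg fun h => hq ?_) (by simp), if_pos hq₀.symm]
  have := hx (q₀⁻¹ * q) (by rw [← hs, mul_smul, ← h, ← hq₀]; simp)
  rw [inv_mul_eq_one] at this
  exact this.symm

variable {G : Type*} [Group G]

theorem exists_wt (P : Subgroup G) [Fintype P] : ∃ c : G → ℕ, ∀ g, ∑ u : P, c (g * u) = 1 := by
  obtain ⟨d, hd⟩ := exists_wt_free (fun (u : P) (g : G) => g * (u : G)⁻¹) (by simp)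
    (by simp [mul_assoc])
  refine ⟨d, fun g => ?_⟩
  rw [← hd g (fun q hq => by simpa using hq)]
  exact Fintype.sum_equiv (Equiv.inv P) _ _ (by simp)

theorem wt_sum_eq [Fintype G] {k A : Type*} [CommRing k] [AddCommGroup A] [Module k A]
    {P : Subgroup G} [Fintype P] {c c' : G → k} (Φ : G → A) (hΦ : ∀ g, ∀ u : P, Φ (g * u) = Φ g)
    (hc : ∀ g, Φ g ≠ 0 → ∑ u : P, c (g * u) = 1) (hc' : ∀ g, Φ g ≠ 0 → ∑ u : P, c' (g * u) = 1) :
    ∑ g, c g • Φ g = ∑ g, c' g • Φ g := by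
  have h1 : ∀ c : G → k, (∀ g, Φ g ≠ 0 → ∑ u : P, c (g * u) = 1) → ∀ (a : k) (g : G),
      a • Φ g = ∑ u : P, (a * c (g * u)) • Φ g := fun c hc a g => by
    by_cases h : Φ g = 0
    · simp [h]
    · rw [← Finset.sum_smul, ← Finset.mul_sum, hc g h, mul_one]
  rw [Finset.sum_congr rfl fun g _ => h1 c' hc' (c g) g,
    Finset.sum_congr rfl fun g _ => h1 c hc (c' g) g, Finset.sum_comm, Finset.sum_comm (f := fun g (u : P) => (c' g * c (g * u)) • Φ g)]
  refine Fintype.sum_equiv (Equiv.inv P) _ _ fun u => ?_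
  refine Fintype.sum_equiv (Equiv.mulRight (u : G)) _ _ fun g => ?_
  simp [hΦ, mul_comm]

end wt

variable {k G : Type*} [Field k] [Group G]

/-- the group algebra of `T` inside `k[G]` -/
abbrev RT (k : Type*) [Field k] (T : Subgroup G) : Subalgebra k k[G] := Fix k T ⊥

theorem mem_RT {T : Subgroup G} {a : k[G]} : a ∈ RT k T ↔ Supp (T : Set G) a :=
  ⟨fun h => h.1, fun h => ⟨h, H7.invt_bot a⟩⟩

variable (k) in
/-- group elements in `RT` -/
noncomputable def sg (T : Subgroup G) : T →* RT k T where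
  toFun t := ⟨single t 1, mem_RT.mpr (H7.supp_single t.2 1)⟩
  map_one' := rfl
  map_mul' s t := Subtype.ext (by simp [single_mul_single])

theorem coe_sg {T : Subgroup G} (t : T) : (sg k T t : k[G]) = single (t : G) 1 := rfl

variable (k) in
/-- the standard symmetrizing form -/
noncomputable def sform (T : Subgroup G) : RT k T →ₗ[k] k where
  toFun a := (a : k[G]).coeff 1
  map_add' a b := by simp
  map_smul' c a := by simp

theorem sform_apply {T : Subgroup G} (a : RT k T) : sform k T a = (a : k[G]).coeff 1 := rfl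

theorem sform_sg_mul {T : Subgroup G} (t : T) (a : RT k T) :
    sform k T (sg k T t⁻¹ * a) = (a : k[G]).coeff t := by
  simp [sform_apply, coe_sg, coeff_single_mul_apply]

theorem RT_eq_sum {T : Subgroup G} [Fintype T] (a : RT k T) :
    a = ∑ t : T, (a : k[G]).coeff t • sg k T t := by
  classical
  apply Subtype.ext
  ext g
  simp only [AddSubmonoidClass.coe_finset_sum, SetLike.val_smul, coe_sg, H7.coeff_finset_sum,
    coeff_smul_apply, coeff_single, Finsupp.single_apply, smul_eq_mul, mul_ite, mul_one, mul_zero]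
  by_cases hg : g ∈ T
  · rw [Finset.sum_eq_single ⟨g, hg⟩ (fun t _ ht => if_neg fun h => ht (Subtype.ext h)) (by simp)]
    simp
  · rw [Finset.sum_eq_zero fun t _ => if_neg (by rintro rfl; exact hg t.2)]
    exact (mem_RT.mp a.2) g hg

theorem sform_nd {T : Subgroup G} [Fintype T] (r : RT k T) (h : ∀ x, sform k T (x * r) = 0) :
    r = 0 := by
  rw [RT_eq_sum r]
  exact Finset.sum_eq_zero fun t _ => by rw [← sform_sg_mul, h, zero_smul]

theorem exists_tr_of_free {P : Subgroup G} [Fintype P] [Fintype G] {y : k[G]} (hy : Invt P y)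
    (h : ∀ g, y.coeff g ≠ 0 → ∀ u ∈ P, u * g * u⁻¹ = g → u = 1) :
    ∃ y' : k[G], y = ∑ u : P, cj (u : G) y' := by
  obtain ⟨d, hd⟩ := exists_wt_free (fun (u : P) (g : G) => u * g * (u : G)⁻¹) (by simp)
    (by simp [mul_assoc])
  refine ⟨.ofCoeff (Finsupp.equivFunOnFinite.symm fun g => d g * y.coeff g), ?_⟩
  ext g
  rw [H7.coeff_finset_sum]
  simp only [H7.coeff_cj, coeff_ofCoeff, Finsupp.coe_equivFunOnFinite_symm, hy.coeff_conj' (Subtype.prop _)]
  by_cases hg : y.coeff g = 0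
  · simp [hg]
  · rw [← Finset.sum_mul, ← Nat.cast_sum]
    have := hd g fun u hu => Subtype.ext (h g hg u u.2 hu)
    rw [← Fintype.sum_equiv (Equiv.inv P) (fun u : P => d ((u : G)⁻¹ * g * u)) _ (by simp)] at this
    rw [this, Nat.cast_one, one_mul]

section neg
variable [Finite G] {T : Subgroup G} [Fintype T] {q : ℕ} {b π : RT k T}
  (S : Ser k q b π (sform k T))
  {V W : Type*} [AddCommGroup V] [Module k V] [Module (RT k T) V] [IsScalarTower k (RT k T) V]
  [AddCommGroup W] [Module k W] [Module (RT k T) W] [IsScalarTower k (RT k T) W]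
  [FiniteDimensional k W] (hW : ∀ a : RT k T, π ^ (q - 1) * a = 0 → ∀ w : W, a • w = 0)
include S hW

theorem Ser.neg (α : V →ₗ[k] W) {v : V} (hv : π ^ (q - 1) • v = 0) :
    ∑ t : T, sg k T t • α (sg k T t⁻¹ • v) = 0 := by
  let B := Module.finBasis k W
  have h1 : ∀ t : T, sg k T t • α (sg k T t⁻¹ • v) =
      ∑ i, (B.coord i (α (sg k T t⁻¹ • v)) • sg k T t) • B i := fun t => by
    conv_lhs => rw [← B.sum_repr (α (sg k T t⁻¹ • v)), Finset.smul_sum]
    exact Finset.sum_congr rfl fun i _ => by rw [smul_assoc, smul_comm]; rfl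
  rw [Finset.sum_congr rfl fun t _ => h1 t, Finset.sum_comm]
  refine Finset.sum_eq_zero fun i _ => ?_
  obtain ⟨H, hH⟩ := S.exists_hom (B.coord i ∘ₗ α)
  rw [← Finset.sum_smul]
  refine hW _ ?_ _
  have : ∑ t : T, B.coord i (α (sg k T t⁻¹ • v)) • sg k T t = H v := by
    rw [RT_eq_sum (H v)]
    exact Finset.sum_congr rfl fun t _ => by rw [← sform_sg_mul, hH]; rfl
  rw [this, ← smul_eq_mul, ← map_smul, hv, map_zero]

theorem Ser.neg2 {P : Subgroup G} [Fintype P] (hP : P ≤ T) {c : G → k}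
    (hc : ∀ g, ∑ u : P, c (g * u) = 1) {x : RT k T} (hx : Invt P (x : k[G]))
    (hb : b = ∑ t : T, c t • (sg k T t * x * sg k T t⁻¹)) (F β : V →ₗ[k] W)
    (hF : ∀ (t : T) v, F (sg k T t • v) = sg k T t • F v)
    (hβ : ∀ v, F v = ∑ u : P, sg k T ⟨u, hP u.2⟩ • β (sg k T ⟨u, hP u.2⟩⁻¹ • v))
    {v : V} (hv : π ^ (q - 1) • v = 0) : F v = 0 := by
  have hbw : ∀ w : W, b • w = w := fun w => by
    have := hW (1 - b) (by rw [mul_sub, mul_one, S.N_b, sub_self]) w
    rwa [sub_smul, one_smul, sub_eq_zero, eq_comm] at this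
  have hxu : ∀ u : P, x * sg k T ⟨u, hP u.2⟩ = sg k T ⟨u, hP u.2⟩ * x := fun u =>
    Subtype.ext (hx.commute_single u.2 1).eq
  rw [← S.neg hW (Algebra.lsmul k k W x ∘ₗ β) hv, ← hbw (F v), hb, Finset.sum_smul]
  have h1 : ∀ t : T, (c t • (sg k T t * x * sg k T t⁻¹)) • F v =
      ∑ u : P, c t • sg k T (t * ⟨u, hP u.2⟩) • x • β (sg k T (t * ⟨u, hP u.2⟩)⁻¹ • v) := fun t => by
    rw [smul_assoc, mul_smul, mul_smul, ← hF, hβ, Finset.smul_sum, Finset.smul_sum, Finset.smul_sum]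
    refine Finset.sum_congr rfl fun u _ => ?_
    rw [mul_inv_rev, map_mul, map_mul, mul_smul, mul_smul, smul_smul x, hxu, mul_smul]
  have h2 : ∀ t : T, sg k T t • (Algebra.lsmul k k W x ∘ₗ β) (sg k T t⁻¹ • v) =
      ∑ u : P, c (t * u) • sg k T t • x • β (sg k T t⁻¹ • v) := fun t => by
    rw [← Finset.sum_smul, hc, one_smul]; rfl
  rw [Finset.sum_congr rfl fun t _ => h1 t, Finset.sum_congr rfl fun t _ => h2 t, Finset.sum_comm,
    Finset.sum_comm (f := fun (t : T) (u : P) => c (t * u) • sg k T t • x • β (sg k T t⁻¹ • v))]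
  refine Fintype.sum_equiv (Equiv.inv P) _ _ fun u => ?_
  refine Fintype.sum_equiv (Equiv.mulRight (⟨u, hP u.2⟩ : T)) _ _ fun t => ?_
  simp

end neg

end Cfsg.Agent.H6
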