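import Cfsg.Agent.H6.Cyc2

/-! Counting simple modules from a local serial block -/

set_option autoImplicit false

namespace Cfsg.Agent.H6

open MonoidAlgebra
open Cfsg.Agent.H7 (Supp Invt cj Fix mem_Fix)

theorem exists_trace_coeff {k : Type*} [Field k] {n : Type*} [Fintype n] [DecidableEq n] [Nonempty n]
    (τ : Matrix n n k →ₗ[k] k) (h : ∀ x y, τ (x * y) = τ (y * x)) :
    ∃ c : k, ∀ x, τ x = c * x.trace := by
  obtain ⟨i₀⟩ := ‹Nonempty n›
  refine ⟨τ (Matrix.single i₀ i₀ 1), fun x => ?_⟩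
  have h1 : ∀ i j, τ (Matrix.single i j 1) = if i = j then τ (Matrix.single i₀ i₀ 1) else 0 := by
    intro i j
    have := h (Matrix.single i i₀ 1) (Matrix.single i₀ j 1)
    rw [Matrix.single_mul_single_same, mul_one] at this
    rw [this]
    split_ifs with hij
    · rw [hij, Matrix.single_mul_single_same, mul_one]
    · rw [Matrix.single_mul_single_of_ne _ _ _ _ (Ne.symm hij), map_zero]
  conv_lhs => rw [Matrix.matrix_eq_sum_single x]
  simp only [map_sum, Matrix.trace, Finset.mul_sum]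
  refine Finset.sum_congr rfl fun i _ => ?_
  have h2 : ∀ j, τ (Matrix.single i j (x i j)) = x i j * τ (Matrix.single i j 1) := fun j => by
    rw [← smul_eq_mul, ← map_smul, Matrix.smul_single, smul_eq_mul, mul_one]
  rw [Finset.sum_congr rfl fun j _ => (h2 j).trans (congrArg _ (h1 i j))]
  simp only [mul_ite, mul_zero, Finset.sum_ite_eq, Finset.mem_univ, if_true, Matrix.diag_apply]
  exact mul_comm _ _

theorem Ser.exists_idems {k R : Type*} [Field k] [IsAlgClosed k] [Ring R] [Algebra k R]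
    [FiniteDimensional k R] {q : ℕ} {b π : R} {s : R →ₗ[k] k} (S : Ser k q b π s)
    {ι : Type*} [Fintype ι] (τ : ι → R →ₗ[k] k) (hind : LinearIndependent k τ)
    (htr : ∀ i x y, τ i (x * y) = τ i (y * x)) (hI : ∀ i a, π ^ (q - 1) * a = 0 → τ i a = 0) :
    ∃ n, Fintype.card ι ≤ n ∧ ∃ a : Fin n → R, (∀ i, π ^ (q - 1) * a i ≠ 0) ∧
      (∀ i x, π ^ (q - 1) * (a i * (x * a i)) = π ^ (q - 1) * (x * a i)) ∧
      ∀ i j, i ≠ j → ∀ x, π ^ (q - 1) * (a i * (x * a j)) = 0 := by
  classical
  let I : Ideal R := LinearMap.ker (Ser.cmul (π ^ (q - 1)) S.Nc R)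
  have hI' : ∀ a, a ∈ I ↔ π ^ (q - 1) * a = 0 := fun a => Iff.rfl
  haveI : I.IsTwoSided := ⟨fun {a} b ha => by rw [hI'] at ha ⊢; rw [← mul_assoc, ha, zero_mul]⟩
  haveI := IsArtinianRing.of_finite k R
  haveI : IsSemisimpleRing (R ⧸ I) := RingHom.isSemisimpleRing_of_surjective
    (Ideal.Quotient.factor (show Ring.jacobson R ≤ I from fun a ha => S.jac a ha))
    (Ideal.Quotient.factor_surjective _)
  haveI : FiniteDimensional k (R ⧸ I) :=
    Module.Finite.of_surjective (Ideal.Quotient.mkₐ k I).toLinearMap Ideal.Quotient.mk_surjective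
  obtain ⟨n, d, hd, ⟨e⟩⟩ := IsSemisimpleRing.exists_algEquiv_pi_matrix_of_isAlgClosed k (R ⧸ I)
  let φ : R →ₐ[k] Π i, Matrix (Fin (d i)) (Fin (d i)) k := e.toAlgHom.comp (Ideal.Quotient.mkₐ k I)
  have hφ : Function.Surjective φ := e.surjective.comp Ideal.Quotient.mk_surjective
  have hker : ∀ a, φ a = 0 ↔ π ^ (q - 1) * a = 0 := fun a => by
    rw [← hI', ← Ideal.Quotient.eq_zero_iff_mem]
    exact map_eq_zero_iff e e.injective
  obtain ⟨σ, hσ⟩ := φ.toLinearMap.exists_rightInverse_of_surjective (LinearMap.range_eq_top.mpr hφ)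
  have hσ' : ∀ y, φ (σ y) = y := fun y => LinearMap.congr_fun hσ y
  have hτ : ∀ i a a', φ a = φ a' → τ i a = τ i a' := fun i a a' h => by
    rw [← sub_eq_zero, ← map_sub]
    exact hI i _ ((hker _).mp (by rw [map_sub, h, sub_self]))
  refine ⟨n, ?_, fun i => σ (Pi.single i 1), fun i => ?_, fun i x => ?_, fun i j hij x => ?_⟩
  · let tr : Fin n → R →ₗ[k] k := fun j =>
      Matrix.traceLinearMap (Fin (d j)) k k ∘ₗ LinearMap.proj j ∘ₗ φ.toLinearMap
    have hmem : ∀ i, τ i ∈ Submodule.span k (Set.range tr) := fun i => by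
      have : ∀ j, ∃ c : k, ∀ x : Matrix (Fin (d j)) (Fin (d j)) k,
          τ i (σ (Pi.single j x)) = c * x.trace := fun j => by
        haveI := hd j
        refine exists_trace_coeff (τ i ∘ₗ σ ∘ₗ LinearMap.single k (fun j => Matrix (Fin (d j)) (Fin (d j)) k) j) fun x y => ?_
        simp only [LinearMap.comp_apply, LinearMap.coe_single]
        rw [hτ i _ (σ (Pi.single j x) * σ (Pi.single j y)) (by simp [hσ', Pi.single_mul]), htr]
        exact hτ i _ _ (by simp [hσ', Pi.single_mul])
      choose c hc using this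
      rw [Submodule.mem_span_range_iff_exists_fun]
      refine ⟨c, LinearMap.ext fun a => ?_⟩
      rw [hτ i a (∑ j, σ (Pi.single j (φ a j))) (by
        rw [map_sum]; simp only [hσ']; exact (Finset.univ_sum_single _).symm), map_sum]
      simp [hc, tr]
    let τ' : ι → Submodule.span k (Set.range tr) := fun i => ⟨τ i, hmem i⟩
    have h1 : LinearIndependent k τ' := LinearIndependent.of_comp (Submodule.subtype _) hind
    haveI : FiniteDimensional k (Submodule.span k (Set.range tr)) :=
      FiniteDimensional.span_of_finite k (Set.finite_range tr)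
    exact h1.fintype_card_le_finrank.trans ((finrank_range_le_card tr).trans (by simp))
  · rw [Ne, ← hker, hσ']
    intro h
    have h1 := congrFun h i
    haveI := hd i
    rw [Pi.single_eq_same, Pi.zero_apply] at h1
    exact one_ne_zero h1
  · rw [← sub_eq_zero, ← mul_sub, ← hker]
    simp only [map_sub, map_mul, hσ']
    ext1 j
    by_cases h : j = i
    · subst h; simp
    · simp [Pi.single_eq_of_ne h]
  · rw [← hker]
    simp only [map_mul, hσ']
    ext1 l
    by_cases h : l = i
    · subst h; simp [Pi.single_eq_of_ne hij]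
    · simp [Pi.single_eq_of_ne h]

variable {k G : Type*} [Field k] [Group G]

/-- local data: `b` is a relative trace from `P` to `T`, orthogonal to its conjugates under `H`, and
`P` is TI outside `H` -/
structure GD (P T H : Subgroup G) [Fintype P] [Fintype T] (b x : RT k T) (c : G → k) : Prop where
  PT : P ≤ T
  TH : T ≤ H
  wt : ∀ g, ∑ u : P, c (g * u) = 1
  xP : Invt P (x : k[G])
  tr : b = ∑ t : T, c t • (sg k T t * x * sg k T t⁻¹)
  orth : ∀ g ∈ H, g ∉ T → (b : k[G]) * cj g (b : k[G]) = 0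
  free : ∀ g ∉ H, ∀ u ∈ P, g⁻¹ * u * g ∈ P → u = 1

section claims
variable [Fintype G] {P T H : Subgroup G} [Fintype P] [Fintype T] {q : ℕ} {b π x : RT k T}
  {c : G → k} (S : Ser k q b π (sform k T)) (D : GD P T H b x c)
  {V W : Type*} [AddCommGroup V] [Module k V] [Module k[G] V] [IsScalarTower k k[G] V]
  [AddCommGroup W] [Module k W] [Module (RT k T) W] [IsScalarTower k (RT k T) W]
  [FiniteDimensional k W] (hW : ∀ a : RT k T, π ^ (q - 1) * a = 0 → ∀ w : W, a • w = 0)

omit [Fintype G] in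
theorem single_smul_single_smul (g h : G) (v : V) :
    (single g 1 : k[G]) • (single h 1 : k[G]) • v = (single (g * h) 1 : k[G]) • v := by
  rw [smul_smul, single_mul_single, mul_one]

omit [Fintype G] [Fintype T] in
theorem sg_smul (t : T) (v : V) : sg k T t • v = (single (t : G) 1 : k[G]) • v := rfl

include S D hW

theorem Ser.claim1 [IsAlgClosed k] [FiniteDimensional k V] [IsSimpleModule k[G] V]
    (f : V →ₗ[RT k T] W) (ψ : V →ₗ[RT k T] V) (hψ : ∀ v, b • ψ v = ψ v) :
    ∃ l : k, ∀ v, π ^ (q - 1) • v = 0 → f (ψ v) = l • f v := by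
  classical
  have hbw : ∀ w : W, b • w = w := fun w => by
    have := hW (1 - b) (by rw [mul_sub, mul_one, S.N_b, sub_self]) w
    rwa [sub_smul, one_smul, sub_eq_zero, eq_comm] at this
  let Φ : G → V →ₗ[k] V := fun g => Algebra.lsmul k k V (single g 1 : k[G]) ∘ₗ
    ψ.restrictScalars k ∘ₗ Algebra.lsmul k k V ((x : k[G]) * single g⁻¹ 1)
  have hΦ : ∀ g v, Φ g v = (single g 1 : k[G]) • ψ (((x : k[G]) * single g⁻¹ 1) • v) :=
    fun g v => rfl
  have hΦr : ∀ g, ∀ u : P, Φ (g * u) = Φ g := fun g u => LinearMap.ext fun v => by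
    rw [hΦ, hΦ, ← single_smul_single_smul, ← sg_smul (T := T) ⟨u, D.PT u.2⟩, ← map_smul, sg_smul,
      smul_smul, ← mul_assoc, ← (D.xP.commute_single u.2 1).eq, mul_assoc, single_mul_single]
    simp
  have hΦl : ∀ g h v, Φ (h * g) ((single h 1 : k[G]) • v) = (single h 1 : k[G]) • Φ g v :=
    fun g h v => by
    rw [hΦ, hΦ, single_smul_single_smul, smul_smul ((x : k[G]) * _), mul_assoc, single_mul_single]
    simp
  -- invariance of partial sums
  have hinv : ∀ (X : Set G), (∀ g : G, ∀ u : P, g * (u : G) ∈ X ↔ g ∈ X) → ∀ h, (∀ g, h * g ∈ X ↔ g ∈ X) →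
      ∀ v, (∑ g, c g • X.indicator Φ g) ((single h 1 : k[G]) • v) =
        (single h 1 : k[G]) • (∑ g, c g • X.indicator Φ g) v := by
    intro X hX h hh v
    have e := wt_sum_eq (c := c) (c' := fun g => c (h⁻¹ * g)) (P := P)
      (fun g => X.indicator Φ g)
      (fun g u => by simp only [Set.indicator_apply, hX, hΦr]) (fun g _ => D.wt g)
      (fun g _ => by simp only [← mul_assoc]; exact D.wt _)
    conv_lhs => rw [e]
    simp only [LinearMap.sum_apply, Finset.smul_sum]
    refine (Fintype.sum_equiv (Equiv.mulLeft h) _ _ fun g => ?_).symm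
    simp only [Equiv.coe_mulLeft, inv_mul_cancel_left, Set.indicator_apply, hh, LinearMap.smul_apply]
    rw [smul_comm]
    split_ifs
    · rw [hΦl]
    · simp
  let Ψ : V →ₗ[k] V := ∑ g, c g • (Set.univ : Set G).indicator Φ g
  let Ψ' : Module.End k[G] V :=
    { toFun := Ψ
      map_add' := Ψ.map_add
      map_smul' := fun a v => by
        rw [RingHom.id_apply, H7.eq_sum_single a, Finset.sum_smul, Finset.sum_smul, map_sum]
        refine Finset.sum_congr rfl fun g _ => ?_
        rw [show (single g (a.coeff g) : k[G]) = a.coeff g • single g 1 by simp, smul_assoc,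
          smul_assoc, map_smul]
        exact congrArg _ (hinv Set.univ (by simp) g (by simp) v) }
  obtain ⟨l, hl⟩ := (IsSimpleModule.algebraMap_end_bijective_of_isAlgClosed k).2 Ψ'
  refine ⟨l, fun v hv => ?_⟩
  have h1 : Ψ v = l • v := (LinearMap.congr_fun hl v).symm
  let Θ : V →ₗ[k] V := ∑ g, c g • (H : Set G)ᶜ.indicator Φ g
  have h2 : f (Θ v) = 0 := by
    obtain ⟨d, hd⟩ := exists_wt_free (fun (u : P × P) (g : G) => u.1 * g * (u.2 : G)⁻¹) (by simp)
      (by simp [mul_assoc])
    have hPH : ∀ u : P, (u : G) ∈ H := fun u => D.TH (D.PT u.2)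
    let Θ' : V →ₗ[k] V := ∑ g, (d g : k) • (H : Set G)ᶜ.indicator Φ g
    refine S.neg2 hW D.PT D.wt D.xP D.tr (f.restrictScalars k ∘ₗ Θ) (f.restrictScalars k ∘ₗ Θ')
      (fun t v => ?_) (fun v => ?_) hv
    · simp only [LinearMap.comp_apply, LinearMap.restrictScalars_apply]
      rw [← map_smul, sg_smul, sg_smul]
      exact congrArg f (hinv _ (fun g u => by simp [H.mul_mem_cancel_right (hPH u)]) _
        (fun g => by simp [H.mul_mem_cancel_left (D.TH t.2)]) v)
    · simp only [LinearMap.comp_apply, LinearMap.restrictScalars_apply, ← map_smul, ← map_sum]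
      congr 1
      have e : Θ = ∑ g, (∑ u : P, (d ((u : G)⁻¹ * g) : k)) • (H : Set G)ᶜ.indicator Φ g := by
        refine wt_sum_eq (P := P) _ (fun g u => by
          simp [Set.indicator_apply, H.mul_mem_cancel_right (hPH u), hΦr])
          (fun g _ => D.wt g) fun g hg => ?_
        have hg' : g ∉ H := fun h => hg (Set.indicator_of_notMem (by simpa using h) _)
        have := hd g fun u hu => by
          have h3 : (u.1 : G) = 1 := D.free g hg' _ u.1.2 (by
            rw [mul_inv_eq_iff_eq_mul] at hu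
            rw [mul_assoc, hu]; simp)
          have h4 : (u.2 : G) = 1 := by simpa [h3] using hu
          exact Prod.ext (Subtype.ext h3) (Subtype.ext h4)
        rw [Fintype.sum_prod_type_right] at this
        rw [← Nat.cast_one, ← this]
        push_cast
        refine Fintype.sum_equiv (Equiv.inv P) _ _ fun u => ?_
        refine Fintype.sum_equiv (Equiv.inv P) _ _ fun u' => ?_
        simp [mul_assoc]
      rw [e]
      simp only [Θ', LinearMap.sum_apply, Finset.smul_sum, Finset.sum_smul]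
      rw [Finset.sum_comm]
      refine Finset.sum_congr rfl fun u _ => ?_
      refine (Fintype.sum_equiv (Equiv.mulLeft (u : G)) _ _ fun g => ?_).symm
      simp only [Equiv.coe_mulLeft, inv_mul_cancel_left, LinearMap.smul_apply, Set.indicator_apply,
        Set.mem_compl_iff,
        SetLike.mem_coe, H.mul_mem_cancel_left (hPH u), sg_smul]
      rw [smul_comm]
      split_ifs
      · simp
      · rw [← hΦl, single_smul_single_smul]
        simp [← one_def]
  have h3 : ∑ g, c g • (if g ∈ T then Φ g v else 0) = ψ v := by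
    have : ∑ g, c g • (if g ∈ T then Φ g v else 0) = ∑ t : T, c t • Φ t v := by
      rw [← Finset.sum_subtype (Finset.univ.filter (· ∈ T)) (p := (· ∈ T)) (by simp)
        (fun g => c g • Φ g v), Finset.sum_filter]
      exact Finset.sum_congr rfl fun g _ => by split_ifs <;> simp
    rw [this, ← hψ, ← map_smul, D.tr, Finset.sum_smul, map_sum]
    refine Finset.sum_congr rfl fun t _ => ?_
    rw [smul_assoc, LinearMap.map_smul_of_tower, mul_assoc, mul_smul, map_smul]
    rfl
  have h4 : ∀ g ∈ H, g ∉ T → f (Φ g v) = 0 := fun g hg hgT => by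
    rw [← hbw (f _), ← map_smul, hΦ, ← hψ]
    change f ((b : k[G]) • (single g 1 : k[G]) • (b : k[G]) • _) = 0
    rw [smul_smul (single g 1 : k[G]), H7.single_mul_eq_cj_mul, smul_smul, ← mul_assoc,
      D.orth g hg hgT, zero_mul, zero_smul, map_zero]
  rw [← LinearMap.map_smul_of_tower, ← h1, ← h3, ← add_zero (f _), ← h2]
  simp only [Ψ, Θ, LinearMap.sum_apply, map_sum, ← Finset.sum_add_distrib, LinearMap.smul_apply,
    LinearMap.map_smul_of_tower]
  refine Finset.sum_congr rfl fun g _ => ?_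
  by_cases hT : g ∈ T
  · simp [hT, D.TH hT]
  · by_cases hH : g ∈ H
    · simp [hT, hH, h4 g hH hT]
    · simp [hT, hH]

theorem Ser.claimB [IsSimpleModule k[G] V] (f : V →ₗ[RT k T] W) {v : V} (hv : π ^ (q - 1) • v = 0)
    (hf : f v ≠ 0) {E y : k[G]} (hE : ∀ a, E * a = a * E) (hi : E * E = E)
    (hy : (1 - E) * b = ∑ u : P, cj (u : G) y) (w : V) : E • w = w := by
  have hbw : ∀ w : W, b • w = w := fun w => by
    have := hW (1 - b) (by rw [mul_sub, mul_one, S.N_b, sub_self]) w
    rwa [sub_smul, one_smul, sub_eq_zero, eq_comm] at this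
  rcases eq_bot_or_eq_top (LinearMap.range (Ser.cmul E hE V)) with h | h
  · exfalso
    have h0 : ∀ v : V, E • v = 0 := fun v => LinearMap.congr_fun (LinearMap.range_eq_bot.mp h) v
    refine hf (S.neg2 hW D.PT D.wt D.xP D.tr (f.restrictScalars k)
      (f.restrictScalars k ∘ₗ Algebra.lsmul k k V y) (fun t v => f.map_smul _ _) (fun v => ?_) hv)
    simp only [LinearMap.comp_apply, LinearMap.restrictScalars_apply, ← map_smul, ← map_sum]
    rw [← hbw (f v), ← map_smul]
    congr 1
    have : b • v = ((1 - E) * (b : k[G])) • v := by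
      rw [mul_smul, sub_smul, one_smul, h0, sub_zero]; rfl
    rw [this, hy, Finset.sum_smul]
    refine Finset.sum_congr rfl fun u _ => ?_
    rw [H7.cj_eq_conj, mul_smul, mul_smul]
    rfl
  · obtain ⟨w, rfl⟩ := LinearMap.range_eq_top.mp h w
    change E • E • w = E • w
    rw [smul_smul, hi]

theorem Ser.claim2 [IsAlgClosed k] [FiniteDimensional k V] [IsSimpleModule k[G] V]
    {W' : Type*} [AddCommGroup W'] [Module k W'] [Module (RT k T) W'] [IsScalarTower k (RT k T) W']
    [FiniteDimensional k W'] (hW' : ∀ a : RT k T, π ^ (q - 1) * a = 0 → ∀ w : W', a • w = 0)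
    (f : V →ₗ[RT k T] W) {v : V} (hv : π ^ (q - 1) • v = 0) (hf : f v ≠ 0)
    (f' : V →ₗ[RT k T] W') {v' : V} (hv' : π ^ (q - 1) • v' = 0) (hf' : f' v' ≠ 0)
    {a : RT k T} (h1 : ∀ w : W, a • w = w) (h2 : ∀ w : W', a • w = 0) : False := by
  have hWW : ∀ r : RT k T, π ^ (q - 1) * r = 0 → ∀ w : W × W', r • w = 0 := fun r hr w =>
    Prod.ext (hW r hr _) (hW' r hr _)
  obtain ⟨u, h | h⟩ := S.simple_head (f.prod f') hWW
    (fun ψ hψ => S.claim1 D hWW (f.prod f') ψ hψ) a
  · obtain ⟨r, hr⟩ := h v' hv'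
    have := congrArg Prod.snd hr
    rw [Prod.smul_snd, Prod.smul_snd, h2, smul_zero] at this
    exact hf' this
  · obtain ⟨r, hr⟩ := h v hv
    have := congrArg Prod.fst hr
    rw [Prod.smul_fst, Prod.smul_fst, sub_smul, one_smul, h1, sub_self, smul_zero] at this
    exact hf this

end claims

universe w in
theorem Ser.claim3 [Finite G] {T : Subgroup G} {q : ℕ} {b π : RT k T}
    (S : Ser k q b π (sform k T)) {W : Type*} [AddCommGroup W] [Module (RT k T) W] (n : ℕ) :
    ∀ (V : Type w) [AddCommGroup V] [Module k V] [Module k[G] V] [IsScalarTower k k[G] V]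
      [FiniteDimensional k V], Module.finrank k V = n → ∀ (f : V →ₗ[RT k T] W) (v : V),
      π ^ (q - 1) • v = 0 → f v ≠ 0 →
      ∃ m : Submodule k[G] k[G], IsSimpleModule k[G] (k[G] ⧸ m) ∧
        ∃ (f : (k[G] ⧸ m) →ₗ[RT k T] W) (v : k[G] ⧸ m), π ^ (q - 1) • v = 0 ∧ f v ≠ 0 := by
  induction n using Nat.strong_induction_on with
  | _ n ih =>
  intro V _ _ _ _ _ hn f v hv hf
  by_cases hs : IsSimpleModule k[G] V
  · obtain ⟨m, -, ⟨e⟩⟩ := isSimpleModule_iff_quot_maximal.mp hs
    refine ⟨m, IsSimpleModule.congr e.symm, f ∘ₗ e.symm.toLinearMap.restrictScalars _, e v, ?_,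
      by simpa using hf⟩
    change ((π ^ (q - 1) : RT k T) : k[G]) • e v = 0
    rw [← map_smul]
    exact (congrArg e hv).trans (map_zero e)
  have hv0 : v ≠ 0 := fun h => hf (by rw [h, map_zero])
  haveI : Nontrivial V := ⟨v, 0, hv0⟩
  obtain ⟨V₁, h1, h2⟩ : ∃ V₁ : Submodule k[G] V, V₁ ≠ ⊥ ∧ V₁ ≠ ⊤ := by
    by_contra hc
    push Not at hc
    exact hs { eq_bot_or_eq_top := fun a => or_iff_not_imp_left.mpr (hc a) }
  by_cases h3 : ∀ v ∈ V₁, π ^ (q - 1) • v = 0 → f v = 0
  · obtain ⟨g, hg1, hg2⟩ := S.exists_extend (V₁.restrictScalars (RT k T)) f h3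
    let f' : (V ⧸ V₁) →ₗ[RT k T] W := (V₁.restrictScalars (RT k T)).liftQ (f - g) fun v hv => by
      rw [LinearMap.mem_ker, LinearMap.sub_apply, hg1 v hv, sub_self]
    refine ih _ ?_ (V ⧸ V₁) rfl f' (Submodule.Quotient.mk v) ?_ ?_
    · have := Submodule.finrank_quotient_add_finrank (V₁.restrictScalars k)
      have h4 : 0 < Module.finrank k (V₁.restrictScalars k) := by
        rw [Nat.pos_iff_ne_zero, Ne, Submodule.finrank_eq_zero]
        exact fun h => h1 (Submodule.restrictScalars_injective k _ _ h)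
      change Module.finrank k (V ⧸ V₁.restrictScalars k) < n
      omega
    · exact (congrArg Submodule.Quotient.mk hv).trans (Submodule.Quotient.mk_zero _)
    · change (f - g) v ≠ 0
      rwa [LinearMap.sub_apply, hg2 v hv, sub_zero]
  · push Not at h3
    obtain ⟨v, hv1, hv2, hv3⟩ := h3
    haveI : FiniteDimensional k V₁ :=
      Module.Finite.of_injective (V₁.subtype.restrictScalars k) Subtype.val_injective
    refine ih _ ?_ V₁ rfl (f ∘ₗ V₁.subtype.restrictScalars _) ⟨v, hv1⟩ (Subtype.ext hv2) hv3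
    rw [← hn]
    exact Submodule.finrank_lt (s := V₁.restrictScalars k)
      fun h => h2 (Submodule.restrictScalars_injective k _ _ h)

/-- the number of simple modules of the block `E` is at least the number of independent trace
forms of the local serial block -/
theorem Ser.exists_simples [IsAlgClosed k] [Fintype G] {P T H : Subgroup G} [Fintype P] [Fintype T]
    {q : ℕ} {b π x : RT k T} {c : G → k} (S : Ser k q b π (sform k T)) (D : GD P T H b x c)
    {E y : k[G]} (hE : ∀ a, E * a = a * E) (hi : E * E = E)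
    (hy : (1 - E) * b = ∑ u : P, cj (u : G) y)
    {ι : Type*} [Fintype ι] (τ : ι → RT k T →ₗ[k] k) (hind : LinearIndependent k τ)
    (htr : ∀ i x y, τ i (x * y) = τ i (y * x)) (hI : ∀ i a, π ^ (q - 1) * a = 0 → τ i a = 0) :
    ∃ n, Fintype.card ι ≤ n ∧ ∃ m : Fin n → Submodule k[G] k[G],
      (∀ i, IsSimpleModule k[G] (k[G] ⧸ m i)) ∧ (∀ i (w : k[G] ⧸ m i), E • w = w) ∧
      ∀ i j, i ≠ j → IsEmpty ((k[G] ⧸ m i) ≃ₗ[k[G]] (k[G] ⧸ m j)) := by
  obtain ⟨n, hn, a, ha0, ha1, ha2⟩ := S.exists_idems τ hind htr hI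
  let W : Fin n → Submodule (RT k T) (RT k T) := fun i =>
    LinearMap.range (LinearMap.toSpanSingleton _ _ (π ^ (q - 1) * a i))
  have hWm : ∀ i (w : W i), ∃ x, (w : RT k T) = π ^ (q - 1) * (x * a i) := by
    rintro i ⟨_, x, rfl⟩
    exact ⟨x, by rw [← mul_assoc, S.Nc x, mul_assoc]; rfl⟩
  haveI : ∀ i, FiniteDimensional k (W i) := fun i =>
    Module.Finite.of_injective ((W i).subtype.restrictScalars k) Subtype.val_injective
  have hW : ∀ i (r : RT k T), π ^ (q - 1) * r = 0 → ∀ w : W i, r • w = 0 := fun i r hr w => by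
    obtain ⟨x, hx⟩ := hWm i w
    apply Subtype.ext
    rw [Submodule.coe_smul, hx, smul_eq_mul, ← mul_assoc, ← S.Nc, hr, zero_mul]; rfl
  have hW1 : ∀ i (w : W i), a i • w = w := fun i w => by
    obtain ⟨x, hx⟩ := hWm i w
    apply Subtype.ext
    rw [Submodule.coe_smul, hx, smul_eq_mul, ← mul_assoc, ← S.Nc, mul_assoc, ha1]
  have hW2 : ∀ i j, i ≠ j → ∀ w : W j, a i • w = 0 := fun i j hij w => by
    obtain ⟨x, hx⟩ := hWm j w
    apply Subtype.ext
    rw [Submodule.coe_smul, hx, smul_eq_mul, ← mul_assoc, ← S.Nc, mul_assoc, ha2 i j hij]; rfl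
  have key : ∀ i, ∃ m : Submodule k[G] k[G], IsSimpleModule k[G] (k[G] ⧸ m) ∧
      ∃ (f : (k[G] ⧸ m) →ₗ[RT k T] W i) (v : k[G] ⧸ m), π ^ (q - 1) • v = 0 ∧ f v ≠ 0 := by
    intro i
    let z : k[G] := (π ^ (q - 1) * a i : RT k T)
    let V := LinearMap.range (LinearMap.toSpanSingleton k[G] k[G] z)
    haveI : FiniteDimensional k V :=
      Module.Finite.of_injective (V.subtype.restrictScalars k) Subtype.val_injective
    let f : V →ₗ[RT k T] W i :=
      { toFun := fun v => ⟨⟨H7.trunc T v, mem_RT.mpr (H7.supp_trunc _ _)⟩, by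
          obtain ⟨_, g, rfl⟩ := v
          refine ⟨⟨H7.trunc T g, mem_RT.mpr (H7.supp_trunc _ _)⟩, Subtype.ext ?_⟩
          exact (H7.trunc_mul_of_supp' g (mem_RT.mp (π ^ (q - 1) * a i).2)).symm⟩
        map_add' := fun v w => Subtype.ext (Subtype.ext
          ((H7.trunc (T : Set G)).map_add (v : k[G]) (w : k[G])))
        map_smul' := fun r v => Subtype.ext (Subtype.ext
          (H7.trunc_mul_of_supp (mem_RT.mp r.2) _)) }
    refine S.claim3 (W := W i) _ V rfl f ⟨z, 1, one_smul _ _⟩ (Subtype.ext ?_) fun h => ha0 i (Subtype.ext ?_)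
    · change ((π ^ (q - 1) * (π ^ (q - 1) * a i) : RT k T) : k[G]) = 0
      rw [← mul_assoc, S.N_mul_N, zero_mul]; rfl
    · have : H7.trunc T z = 0 := congrArg (fun w : W i => ((w : RT k T) : k[G])) h
      rwa [(mem_RT.mp (π ^ (q - 1) * a i).2).trunc_eq] at this
  choose m hm f v hv hf using key
  refine ⟨n, hn, m, hm, fun i w => ?_, fun i j hij => ⟨fun e => ?_⟩⟩
  · haveI := hm i
    exact S.claimB (W := W i) D (hW i) (f i) (hv i) (hf i) hE hi hy w
  · haveI := hm i
    exact S.claim2 (W := W i) (W' := W j) D (hW i) (hW j) (f i) (hv i) (hf i)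
      (f j ∘ₗ e.toLinearMap.restrictScalars _) (v' := e.symm (v j)) (by
        change ((π ^ (q - 1) : RT k T) : k[G]) • e.symm (v j) = 0
        rw [← map_smul]
        exact (congrArg e.symm (hv j)).trans (map_zero _))
      (fun h => hf j (by simpa using h)) (hW1 i) (hW2 i j hij)

end Cfsg.Agent.H6
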