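import Cfsg.Agent.H6.Cyc3
import Cfsg.Agent.H8.Princ

/-! Simple modules of a block bound its `p`-regular rank from below -/

set_option autoImplicit false

namespace Cfsg.Agent.H6

open MonoidAlgebra Cfsg Cfsg.Agent.H4

theorem exists_dual_traces {k A ι : Type*} [Field k] [IsAlgClosed k] [Ring A] [Algebra k A]
    [Fintype ι] [DecidableEq ι] (S : ι → Type*) [∀ i, AddCommGroup (S i)] [∀ i, Module k (S i)]
    [∀ i, Module A (S i)] [∀ i, IsScalarTower k A (S i)] [∀ i, FiniteDimensional k (S i)]
    [∀ i, IsSimpleModule A (S i)] (h : ∀ i j, i ≠ j → IsEmpty (S i ≃ₗ[A] S j)) (j : ι) :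
    ∃ a : A, ∀ i, LinearMap.trace k (S i) (Algebra.lsmul k k (S i) a) = if i = j then 1 else 0 := by
  haveI := IsSimpleModule.nontrivial A (S j)
  obtain ⟨v, hv⟩ := exists_ne (0 : S j)
  obtain ⟨μ, hμ⟩ := Module.Projective.exists_dual_eq_one k hv
  let f₀ : (Π i, S i) →ₗ[k] (Π i, S i) :=
    LinearMap.single k S j ∘ₗ LinearMap.smulRight μ v ∘ₗ LinearMap.proj j
  have hφ : ∀ φ : Module.End A (Π i, S i), ∃ c : ι → k, ∀ m i, φ m i = c i • m i := fun φ => by
    have h1 : ∀ i, ∃ c : k, ∀ x : S i, φ (Pi.single i x) i = c • x := fun i => by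
      obtain ⟨c, hc⟩ := (IsSimpleModule.algebraMap_end_bijective_of_isAlgClosed k).2
        (LinearMap.proj i ∘ₗ φ ∘ₗ LinearMap.single A S i : Module.End A (S i))
      exact ⟨c, fun x => (LinearMap.congr_fun hc x).symm⟩
    choose c hc using h1
    refine ⟨c, fun m i => ?_⟩
    conv_lhs => rw [← Finset.univ_sum_single m, map_sum, Finset.sum_apply]
    rw [Finset.sum_eq_single i (fun l _ hl => ?_) (by simp), hc]
    rcases (LinearMap.proj i ∘ₗ φ ∘ₗ LinearMap.single A S l : S l →ₗ[A] S i).bijective_or_eq_zero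
      with h2 | h2
    · exact (h l i hl).elim (LinearEquiv.ofBijective _ h2)
    · exact LinearMap.congr_fun h2 (m l)
  let f : Module.End (Module.End A (Π i, S i)) (Π i, S i) :=
    { toFun := f₀
      map_add' := f₀.map_add
      map_smul' := fun φ m => by
        obtain ⟨c, hc⟩ := hφ φ
        ext i
        simp only [RingHom.id_apply, Module.End.smul_def, hc, f₀, LinearMap.comp_apply,
          LinearMap.proj_apply, map_smul, LinearMap.coe_single, Pi.smul_apply]
        by_cases hi : i = j
        · subst hi; rfl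
        · simp [Pi.single_eq_of_ne hi] }
  classical
  let B := Module.finBasis k (Π i, S i)
  obtain ⟨a, ha⟩ := jacobson_density f (Finset.univ.image B)
  have h1 : f₀ = Algebra.lsmul k k (Π i, S i) a := B.ext fun l => ha _ (by simp)
  refine ⟨a, fun i => ?_⟩
  have h2 : ∀ x : S i, a • x = f₀ (Pi.single i x) i := fun x => by
    rw [h1]
    simp
  split_ifs with hi
  · subst hi
    have : Algebra.lsmul k k (S i) a = LinearMap.smulRight μ v := LinearMap.ext fun x => by
      rw [Algebra.lsmul_coe]; simp [h2, f₀]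
    rw [this, LinearMap.trace_smulRight, hμ]
  · have : Algebra.lsmul k k (S i) a = 0 := LinearMap.ext fun x => by
      rw [Algebra.lsmul_coe]; simp [h2, f₀, Pi.single_eq_of_ne hi]
    rw [this, map_zero]

theorem isNilpotent_single_sub_one_mul {k G : Type*} [Field k] [Group G] {p : ℕ} [Fact p.Prime]
    [CharP k p] {x y : G} (hc : Commute x y) {n : ℕ} (hx : x ^ p ^ n = 1) :
    IsNilpotent ((single (x * y) 1 : k[G]) - single y 1) := by
  haveI : CharP k[G] p := charP_of_injective_algebraMap (algebraMap k k[G]).injective p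
  have h1 : IsNilpotent ((single x 1 : k[G]) - 1) := ⟨p ^ n, by
    rw [sub_pow_char_pow_of_commute _ _ (Commute.one_right _), single_pow, hx, one_pow, one_pow,
      one_def, sub_self]⟩
  have h2 : Commute ((single x 1 : k[G]) - 1) (single y 1) :=
    Commute.sub_left (by rw [Commute, SemiconjBy, single_mul_single, single_mul_single, hc.eq])
      (Commute.one_left _)
  have := h2.isNilpotent_mul_right h1
  rwa [sub_mul, one_mul, single_mul_single, mul_one] at this

variable {M : Ideal AlgInt} [M.IsMaximal] {G : Type*} [Group G] [Fintype G] {p : ℕ} [Fact p.Prime]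

theorem redC_chiL {f : G → ℂ} (hf : ∀ g, f g ∈ locRing M) (τ : (Res M)[G] →ₗ[Res M] Res M)
    (h : ∀ g, redC M (f g) = τ (single g 1)) {a : ℂ[G]} (ha : a ∈ intAlg M G) :
    chiL f a ∈ locRing M ∧ redC M (chiL f a) = τ (redA M a) := by
  rw [chiL_apply]
  refine ⟨Subring.sum_mem _ fun g _ => mul_mem (ha g) (hf g), ?_⟩
  rw [redC_sum _ fun g _ => mul_mem (ha g) (hf g), eq_sum_smul_single (redA M a), map_sum]
  exact Finset.sum_congr rfl fun g _ => by
    rw [redC_mul (ha g) (hf g), map_smul, coeff_redA, h, smul_eq_mul]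

theorem card_le_blockRank_of_forms (hM : IsPModular p M) {B : Set (IrrCharacter G)}
    (hB : IsPBlock M B) {ι : Type*} [Fintype ι] [DecidableEq ι]
    (τ : ι → (Res M)[G] →ₗ[Res M] Res M) (htr : ∀ i a b, τ i (a * b) = τ i (b * a))
    (hn : ∀ i a, IsNilpotent a → τ i a = 0) (hb : ∀ i a, τ i (eB M B * a) = τ i a)
    (a : ι → (Res M)[G]) (ha : ∀ i j, τ i (a j) = if i = j then 1 else 0) :
    Fintype.card ι ≤ blockRank p B := by
  have hp : p.Prime := Fact.out
  haveI := charP_res hM
  have hr : ∀ g : G, ∃ y : G, ¬ p ∣ orderOf y ∧ ∀ i, τ i (single g 1) = τ i (single y 1) := by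
    intro g
    obtain ⟨x, y, rfl, hc, ⟨n, hx⟩, hy⟩ := exists_isPPart hp g
    refine ⟨y, hy, fun i => ?_⟩
    rw [← sub_eq_zero, ← map_sub]
    exact hn i _ (isNilpotent_single_sub_one_mul hc (n := n) (by rw [← hx, pow_orderOf_eq_one]))
  choose r hr1 hr2 using hr
  let t : ι → G → ℂ := fun i g => liftC (τ i (single g 1))
  have ht : ∀ i, IsClassFunction G (t i) := fun i g h => by
    simp only [t]
    rw [← mul_one (1 : Res M), ← single_mul_single, htr, single_mul_single, ← mul_assoc,
      inv_mul_cancel, one_mul]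
  let F : ι → G → ℂ := fun i => pRegularPart p (blockPart B (t i))
  have hF : ∀ i g, ¬ p ∣ orderOf g → F i g ∈ locRing M ∧ redC M (F i g) = τ i (single g 1) := by
    intro i g hg
    have := redC_chiL (f := t i) (fun g => liftC_mem _) (τ i) (fun g => redC_liftC _)
      (mul_mem (fB_mem_intAlg hB) (single_mem_intAlg g (one_mem _)))
    rw [redA_mul (fB_mem_intAlg hB) (single_mem_intAlg g (one_mem _)), redA_single, redC_one,
      show redA M (fB B) = eB M B by ext x; simp] at this
    simp only [F]
    rw [pRegularPart_of_not_dvd _ hg, blockPart_eq_chiL _ (ht i)]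
    exact ⟨this.1, this.2.trans (hb i (single g 1))⟩
  let X : Matrix ι ι ℂ := fun i j => ∑ g, liftC ((a j).coeff g) * F i (r g)
  have hX : X.det ≠ 0 := by
    have := det_one_add_ne_zero (M := M) (X - 1) fun i j => by
      have h1 : ∀ g, liftC ((a j).coeff g) * F i (r g) ∈ locRing M := fun g =>
        mul_mem (liftC_mem _) (hF i _ (hr1 g)).1
      have h2 : (1 : Matrix ι ι ℂ) i j ∈ locRing M := by
        rw [Matrix.one_apply]; split_ifs; exacts [one_mem _, zero_mem _]
      rw [Matrix.sub_apply, memLocalIdeal_sub_iff (Subring.sum_mem _ fun g _ => h1 g) h2,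
        redC_sum _ fun g _ => h1 g]
      have h3 := ha i j
      rw [eq_sum_smul_single (a j), map_sum] at h3
      rw [Finset.sum_congr rfl fun g _ => by
        rw [redC_mul (liftC_mem _) (hF i _ (hr1 g)).1, redC_liftC, (hF i _ (hr1 g)).2, ← hr2,
          ← smul_eq_mul, ← map_smul], h3, Matrix.one_apply]
      split_ifs <;> simp [redC_one, redC_zero]
    rwa [add_sub_cancel] at this
  have hind : LinearIndependent ℂ F := by
    rw [Fintype.linearIndependent_iff]
    intro c hc
    have : Matrix.vecMul c X = 0 := by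
      ext j
      simp only [Matrix.vecMul, dotProduct, X, Finset.mul_sum, Pi.zero_apply]
      rw [Finset.sum_comm]
      refine Finset.sum_eq_zero fun g _ => ?_
      have := congrFun hc (r g)
      simp only [Finset.sum_apply, Pi.smul_apply, smul_eq_mul, Pi.zero_apply] at this
      simp only [mul_left_comm (c _), ← Finset.mul_sum, this, mul_zero]
    exact fun i => congrFun (Matrix.eq_zero_of_vecMul_eq_zero hX this) i
  rw [H8.blockRank_eq]
  let F' : ι → (H8.bspan B).map (H8.pRegL p G) := fun i =>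
    ⟨F i, Submodule.mem_map_of_mem (H8.blockPart_mem_bspan (t i))⟩
  exact (LinearIndependent.of_comp (Submodule.subtype _) hind : LinearIndependent ℂ F').fintype_card_le_finrank

theorem card_le_blockRank_of_simples (hM : IsPModular p M) {B : Set (IrrCharacter G)}
    (hB : IsPBlock M B) {ι : Type*} [Fintype ι] (m : ι → Submodule (Res M)[G] (Res M)[G])
    (hs : ∀ i, IsSimpleModule (Res M)[G] ((Res M)[G] ⧸ m i))
    (hb : ∀ i (w : (Res M)[G] ⧸ m i), eB M B • w = w)
    (h : ∀ i j, i ≠ j → IsEmpty (((Res M)[G] ⧸ m i) ≃ₗ[(Res M)[G]] ((Res M)[G] ⧸ m j))) :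
    Fintype.card ι ≤ blockRank p B := by
  classical
  haveI : ∀ i, FiniteDimensional (Res M) ((Res M)[G] ⧸ m i) := fun i =>
    Module.Finite.of_surjective ((m i).mkQ.restrictScalars (Res M)) (m i).mkQ_surjective
  choose a ha using exists_dual_traces (k := Res M) (fun i => (Res M)[G] ⧸ m i) h
  refine card_le_blockRank_of_forms hM hB (fun i => LinearMap.trace _ _ ∘ₗ
    (Algebra.lsmul (Res M) (Res M) ((Res M)[G] ⧸ m i) (A := (Res M)[G])).toLinearMap)
    (fun i a b => ?_) (fun i a ha => ?_) (fun i a => ?_) a fun i j => ha j i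
  · simp only [LinearMap.comp_apply, AlgHom.toLinearMap_apply, map_mul]
    exact LinearMap.trace_mul_comm _ _ _
  · exact (LinearMap.isNilpotent_trace_of_isNilpotent (ha.map
      (Algebra.lsmul (Res M) (Res M) ((Res M)[G] ⧸ m i) (A := (Res M)[G])))).eq_zero
  · simp only [LinearMap.comp_apply, AlgHom.toLinearMap_apply]
    congr 1
    ext1 w
    simp [mul_smul, hb]

end Cfsg.Agent.H6
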