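import Cfsg.Agent.H6.Roots
import Cfsg.Agent.H6.Kernel
import Cfsg.Agent.H7.Local4
import Cfsg.Agent.H7.Cover2
import Cfsg.Agent.H5.Clifford2

/-!
The Alperin–Dade theory of principal blocks of `G` and `N` for `G = N C_G(P)`.
-/

set_option autoImplicit false
set_option linter.unusedSectionVars false

namespace Cfsg.Agent.H6

open MonoidAlgebra Cfsg.Agent.H4
open Cfsg.Agent.H7 (Supp Invt cj aug fb push pull ind orb)
open scoped ComplexConjugate

variable {G : Type*} [Group G] [Finite G] {N : Subgroup G} [hN : N.Normal]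

/-- a coset of `N` as a subset of `G` -/
def coset (N : Subgroup G) (σ : G ⧸ N) : Set G := {x | (x : G ⧸ N) = σ}

theorem coset_one : coset N 1 = (N : Set G) := by
  ext x
  exact QuotientGroup.eq_one_iff x

theorem supp_mul_coset {σ τ : G ⧸ N} {a b : ℂ[G]} (ha : Supp (coset N σ) a)
    (hb : Supp (coset N τ) b) : Supp (coset N (σ * τ)) (a * b) := by
  haveI := Fintype.ofFinite G
  intro x hx
  rw [H7.coeff_mul_fintype]
  refine Finset.sum_eq_zero fun y _ => ?_
  by_cases h1 : y ∈ coset N σ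
  · rw [hb (y⁻¹ * x), mul_zero]
    intro h2
    apply hx
    have h1' : (y : G ⧸ N) = σ := h1
    have h2' : ((y⁻¹ * x : G) : G ⧸ N) = τ := h2
    change (x : G ⧸ N) = σ * τ
    rw [← h1', ← h2', ← QuotientGroup.mk_mul, mul_inv_cancel_left]
  · rw [ha y h1, zero_mul]

theorem supp_mul_inv {σ : G ⧸ N} {a b : ℂ[G]} (ha : Supp (coset N σ) a)
    (hb : Supp (coset N σ⁻¹) b) : Supp (N : Set G) (a * b) := by
  have := supp_mul_coset ha hb
  rwa [mul_inv_cancel, coset_one] at this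

theorem supp_inv_mul {σ : G ⧸ N} {a b : ℂ[G]} (ha : Supp (coset N σ⁻¹) a)
    (hb : Supp (coset N σ) b) : Supp (N : Set G) (a * b) := by
  have := supp_mul_coset ha hb
  rwa [inv_mul_cancel, coset_one] at this

theorem sum_trunc_coset [Fintype (G ⧸ N)] (a : ℂ[G]) : ∑ σ, H7.trunc (coset N σ) a = a := by
  classical
  refine alg_ext fun g => ?_
  rw [coeff_sum', Finset.sum_eq_single (g : G ⧸ N)]
  · exact H7.coeff_trunc_of_mem _ rfl
  · exact fun σ _ h => H7.coeff_trunc_of_not_mem _ fun h' => h (Eq.symm h')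
  · simp

theorem invt_trunc_coset {a : ℂ[G]} (ha : Invt N a) (σ : G ⧸ N) :
    Invt N (H7.trunc (coset N σ) a) := by
  classical
  refine H7.invt_of_coeff fun h hh x => ?_
  have e : ((h * x * h⁻¹ : G) : G ⧸ N) = x := by
    rw [QuotientGroup.mk_mul, QuotientGroup.mk_mul, (QuotientGroup.eq_one_iff h).2 hh,
      (QuotientGroup.eq_one_iff h⁻¹).2 (N.inv_mem hh), one_mul, mul_one]
  have : h * x * h⁻¹ ∈ coset N σ ↔ x ∈ coset N σ := by
    change _ = σ ↔ _ = σ
    rw [e]
  simp only [H7.coeff_trunc, this, ha.coeff_conj hh]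

theorem Invt.smul' {H : Subgroup G} {a : ℂ[G]} (ha : Invt H a) (c : ℂ) : Invt H (c • a) :=
  fun h hh => by rw [map_smul, ha h hh]

theorem invt_sum {H : Subgroup G} {ι : Type*} (s : Finset ι) {f : ι → ℂ[G]}
    (h : ∀ i ∈ s, Invt H (f i)) : Invt H (∑ i ∈ s, f i) :=
  fun g hg => by rw [map_sum]; exact Finset.sum_congr rfl fun i hi => h i hi g hg

theorem chiL_one_eq_aug (a : ℂ[G]) : chiL (fun _ : G => (1 : ℂ)) a = aug ℂ G a := by
  haveI := Fintype.ofFinite G
  rw [chiL_apply, H7.aug_eq_sum]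
  simp

theorem chiL_mul_of_supp {σ : G ⧸ N} {a : ℂ[G]} (ha : Supp (coset N σ) a) (f : G ⧸ N → ℂ)
    (χ : G → ℂ) : chiL (fun g : G => f g * χ g) a = f σ * chiL χ a := by
  haveI := Fintype.ofFinite G
  rw [chiL_apply, chiL_apply, Finset.mul_sum]
  refine Finset.sum_congr rfl fun g _ => ?_
  by_cases h : g ∈ coset N σ
  · rw [show (g : G ⧸ N) = σ from h]; ring
  · rw [ha g h]; ring

omit hN in
theorem mul_fb_singleton {z : ℂ[G]} (hs : Supp (N : Set G) z) (hi : Invt N z)
    (θ : IrrCharacter N) :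
    z * fb N {θ} = omega (θ : N → ℂ) (pull ℂ N.subtype z) • fb N {θ} := by
  classical
  have hc := H7.pull_mem_center hi
  have e : push ℂ N.subtype (pull ℂ N.subtype z) = z := by
    rw [H7.push_pull_subtype, hs.trunc_eq]
  conv_lhs => rw [← e]
  rw [fb, ← map_mul, ← map_smul]
  congr 1
  refine center_ext (Subalgebra.mul_mem _ hc (fB_mem_center _))
    (Subalgebra.smul_mem _ (fB_mem_center _) _) fun χ => ?_
  rw [omega_center_mul χ.2 hc, map_smul, omega_fB]
  split_ifs with h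
  · rw [Set.mem_singleton_iff.1 h, smul_eq_mul]
  · simp

omit hN in
theorem fb_singleton_ne_zero (θ : IrrCharacter N) : fb N {θ} ≠ 0 := by
  rw [← H7.fb_empty N]
  intro h
  exact Set.singleton_ne_empty θ (H7.fb_injective h)

omit hN in
theorem coeff_one_fb_singleton (θ : IrrCharacter N) :
    (fb N {θ}).coeff 1 = (Nat.card N : ℂ)⁻¹ * ((θ : N → ℂ) 1 * (θ : N → ℂ) 1) := by
  have := H7.coeff_fb_coe ({θ} : Set (IrrCharacter N)) 1
  rw [blockCoeff_singleton, θ.2.isCharacter.conj_apply_one] at this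
  exact this

theorem chiL_mul_idem_eq_zero {χ : G → ℂ} (hχ : IsCharacter G χ) {x : ℂ[G]}
    (hi : IsIdempotentElem x) (h : chiL χ x = 0) (a : ℂ[G]) : chiL χ (a * x) = 0 := by
  obtain ⟨n, ρ, rfl⟩ := hχ
  rw [chiL_character] at h ⊢
  rw [map_mul, LinearMap.IsIdempotentElem.eq_zero_of_trace_eq_zero (hi.map ρ.asAlgebraHom) h,
    mul_zero, map_zero]

omit hN in
theorem chiL_mul_fb_of_res {χ : G → ℂ} (hχ : IsCharacter G χ) {θ : IrrCharacter N} {e : ℂ}
    (h : ∀ n : N, χ n = e * (θ : N → ℂ) n) (a : ℂ[G]) : chiL χ (a * fb N {θ}) = chiL χ a := by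
  have h1 := chiL_mul_idem_eq_zero hχ (H7.fb_idem ({θ} : Set (IrrCharacter N))).one_sub (by
    have e1 : (fun x : N => χ (N.subtype x)) = e • (θ : N → ℂ) := funext h
    rw [map_sub, chiL_one, fb, H7.chiL_push, e1, chiL_smul_fun, ← mul_one (fB _),
      chiL_fB_mul_of_mem (Set.mem_singleton θ), chiL_one, ← h 1]
    simp) a
  rw [mul_sub, mul_one, map_sub, sub_eq_zero] at h1
  exact h1.symm

omit hN in
/-- Schur's lemma for a character with irreducible restriction to `N`. -/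
theorem chiL_mul_of_invt {χ : G → ℂ} (hχ : IsCharacter G χ)
    (h : IsIrrCharacter N fun n : N => χ n) {a : ℂ[G]} (ha : Invt N a) (b : ℂ[G]) :
    chiL χ (a * b) = omega χ a * chiL χ b := by
  obtain ⟨n, ρ, rfl⟩ := hχ
  haveI : Representation.IsIrreducible (ρ.comp N.subtype : Representation ℂ N _) :=
    isIrreducible_of_isIrrCharacter _ h
  obtain ⟨c, hc⟩ := schur_scalar (ρ.comp N.subtype : Representation ℂ N _) (ρ.asAlgebraHom a)
    fun g => by
      have h1 : (ρ.comp N.subtype : Representation ℂ N _) g =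
          ρ.asAlgebraHom (single (g : G) 1) := by simp
      rw [h1, ← Module.End.mul_eq_comp, ← Module.End.mul_eq_comp, ← map_mul, ← map_mul,
        (ha.commute_single g.2 1).eq]
  have h0 : ρ.character 1 ≠ 0 := h.apply_one_ne_zero
  have h2 : omega ρ.character a = c := by
    rw [omega_apply, chiL_character, hc, div_eq_iff h0]
    simp
  rw [h2, chiL_character, chiL_character, map_mul, hc, smul_mul_assoc, map_smul]
  rfl

variable {M : Ideal AlgInt} [hMm : M.IsMaximal] {p : ℕ}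

theorem aug_mem {a : ℂ[G]} (ha : a ∈ intAlg M G) : aug ℂ G a ∈ locRing M := by
  rw [← chiL_one_eq_aug]
  exact chiL_mem isCharacter_one ha

theorem redC_aug_mul {a b : ℂ[G]} (ha : a ∈ intAlg M G) (hb : b ∈ intAlg M G) :
    redC M (aug ℂ G (a * b)) = redC M (aug ℂ G a) * redC M (aug ℂ G b) := by
  rw [map_mul, redC_mul (aug_mem ha) (aug_mem hb)]

omit hN in
theorem redC_omega_pull {z : ℂ[G]} (hz : z ∈ intAlg M G) (hs : Supp (N : Set G) z)
    (hi : Invt N z) {θ : IrrCharacter N} (hθ : θ ∈ principalBlock M N) :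
    redC M (omega (θ : N → ℂ) (pull ℂ N.subtype z)) = redC M (aug ℂ G z) := by
  have e : push ℂ N.subtype (pull ℂ N.subtype z) = z := by
    rw [H7.push_pull_subtype, hs.trunc_eq]
  rw [← redC_omega_eq_of_sameBlock isIrrCharacter_one θ.2 hθ (H7.pull_mem_center hi)
    (H7.pull_mem_intAlg _ hz), omega_apply, div_one, chiL_one_eq_aug,
    ← H7.aug_push N.subtype, e]

/-- a family of `N`-invariant elements of augmentation one, one in each coset -/
structure Dd (M : Ideal AlgInt) [M.IsMaximal] (N : Subgroup G) (u : G ⧸ N → ℂ[G]) : Prop where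
  mem : ∀ σ, u σ ∈ intAlg M G
  supp : ∀ σ, Supp (coset N σ) (u σ)
  invt : ∀ σ, Invt N (u σ)
  aug_eq : ∀ σ, aug ℂ G (u σ) = 1

theorem exists_Dd (hM : IsPModular p M)
    (h : ∀ σ : G ⧸ N, ∃ x : G, (x : G ⧸ N) = σ ∧
      ¬ p ∣ (Subgroup.centralizer ({x} : Set G)).relIndex N) : ∃ u, Dd M N u := by
  classical
  haveI := Fintype.ofFinite G
  choose x hx hx' using h
  refine ⟨fun σ => (((Subgroup.centralizer ({x σ} : Set G)).relIndex N : ℂ))⁻¹ •
    ind ℂ (orb N (x σ)), fun σ => ?_, fun σ => ?_, fun σ => ?_, fun σ => ?_⟩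
  · refine smul_mem_intAlg (inv_natCast_mem hM (hx' σ)) (mem_intAlg.2 fun g => ?_)
    rw [H7.coeff_ind]
    split_ifs
    · exact (locRing M).one_mem
    · exact (locRing M).zero_mem
  · refine ((H7.supp_ind _).mono ?_).smul _
    rintro _ ⟨h, hh, rfl⟩
    change ((h * x σ * h⁻¹ : G) : G ⧸ N) = σ
    rw [QuotientGroup.mk_mul, QuotientGroup.mk_mul, (QuotientGroup.eq_one_iff h).2 hh,
      (QuotientGroup.eq_one_iff h⁻¹).2 (N.inv_mem hh), one_mul, mul_one, hx]
  · exact Invt.smul' (H7.invt_ind_orb _ _) _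
  · have h0 : ((Subgroup.centralizer ({x σ} : Set G)).relIndex N : ℂ) ≠ 0 := by
      rw [Nat.cast_ne_zero]
      intro h
      exact hx' σ (h ▸ dvd_zero p)
    rw [map_smul, H7.aug_eq_sum, smul_eq_mul, inv_mul_eq_one₀ h0, ← H7.ncard_orb]
    simp only [H7.coeff_ind, Finset.sum_boole]
    rw [Set.ncard_eq_toFinset_card']
    congr 2
    ext y
    simp

theorem exists_Dd_of_sup [Fact p.Prime] (hM : IsPModular p M) {P : Subgroup G} (hPN : P ≤ N)
    (hP : ¬ p ∣ P.relIndex N) (h : N ⊔ Subgroup.centralizer (P : Set G) = ⊤) :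
    ∃ u, Dd M N u := by
  refine exists_Dd hM fun σ => ?_
  obtain ⟨g, rfl⟩ := QuotientGroup.mk_surjective σ
  have hg : g ∈ ((N ⊔ Subgroup.centralizer (P : Set G) : Subgroup G) : Set G) := by
    rw [h]; trivial
  rw [Subgroup.normal_mul] at hg
  obtain ⟨n, hn, x, hx, rfl⟩ := hg
  refine ⟨x, ?_, fun hd => hP (hd.trans (Subgroup.relIndex_dvd_of_le_left N ?_))⟩
  · simp only [QuotientGroup.mk_mul, (QuotientGroup.eq_one_iff n).2 hn, one_mul]
  · intro y hy
    exact mem_centralizer_singleton.2 (hx y hy).symm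

variable {u : G ⧸ N → ℂ[G]} {θ : IrrCharacter N}

theorem Dd.exists_inv_mul (hu : Dd M N u) (hθ : θ ∈ principalBlock M N) (σ : G ⧸ N) :
    ∃ d : ℂ, redC M d = 1 ∧ u σ⁻¹ * u σ * fb N {θ} = d • fb N {θ} := by
  have hs := supp_inv_mul (hu.supp σ⁻¹) (hu.supp σ)
  have hi := (hu.invt σ⁻¹).mul (hu.invt σ)
  refine ⟨_, ?_, mul_fb_singleton hs hi θ⟩
  rw [redC_omega_pull ((intAlg M G).mul_mem (hu.mem _) (hu.mem _)) hs hi hθ, map_mul, hu.aug_eq,
    hu.aug_eq, mul_one, redC_one]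

theorem Dd.mul_fb_ne_zero (hu : Dd M N u) (hθ : θ ∈ principalBlock M N) (σ : G ⧸ N) :
    u σ * fb N {θ} ≠ 0 := by
  intro h
  obtain ⟨d, hd, e⟩ := hu.exists_inv_mul hθ σ
  rw [mul_assoc, h, mul_zero, eq_comm, smul_eq_zero] at e
  rcases e with e | e
  · rw [e, redC_zero] at hd
    exact zero_ne_one hd
  · exact fb_singleton_ne_zero θ e

theorem Dd.exists_eq_smul (hu : Dd M N u) (hθ : θ ∈ principalBlock M N) {σ : G ⧸ N} {a : ℂ[G]}
    (ha : a ∈ intAlg M G) (hs : Supp (coset N σ) a) (hi : Invt N a) :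
    ∃ c ∈ locRing M, redC M c = redC M (aug ℂ G a) ∧
      a * fb N {θ} = c • (u σ * fb N {θ}) := by
  obtain ⟨d, hd, e⟩ := hu.exists_inv_mul hθ σ
  have hd0 : redC M d ≠ 0 := by rw [hd]; exact one_ne_zero
  have hs' := supp_mul_inv hs (hu.supp σ⁻¹)
  have hi' := hi.mul (hu.invt σ⁻¹)
  have hm := (intAlg M G).mul_mem ha (hu.mem σ⁻¹)
  have e2 := mul_fb_singleton hs' hi' θ
  have hc : Commute (u σ) (fb N {θ}) := (hu.invt σ).commute (H7.fb_mem_Fix _).1
  refine ⟨omega (θ : N → ℂ) (pull ℂ N.subtype (a * u σ⁻¹)) / d,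
    div_mem_of_redC_ne_zero (H7.omega_pull_mem hi' hm) hd0, ?_, ?_⟩
  · rw [redC_div (H7.omega_pull_mem hi' hm) hd0, hd, div_one, redC_omega_pull hm hs' hi' hθ,
      map_mul, hu.aug_eq, mul_one]
  · have h1 : d • (a * fb N {θ}) =
        omega (θ : N → ℂ) (pull ℂ N.subtype (a * u σ⁻¹)) • (u σ * fb N {θ}) := by
      rw [← mul_smul_comm, ← e, hc.eq, ← smul_mul_assoc, ← e2]
      simp only [mul_assoc, hc.eq]
    rw [div_eq_inv_mul, mul_smul, ← h1, smul_smul, inv_mul_cancel₀ (ne_zero_of_redC_ne_zero hd0),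
      one_smul]

/-- A character over `θ` on which all `u σ` are one-units has central character congruent to the
augmentation on everything that commutes with `N`. -/
theorem Dd.redC_omega (hu : Dd M N u) (hθ : θ ∈ principalBlock M N) {χ : G → ℂ}
    (h1 : ∀ a, chiL χ (a * fb N {θ}) = chiL χ a) (h2 : ∀ σ, redC M (omega χ (u σ)) = 1)
    {z : ℂ[G]} (hz : z ∈ intAlg M G) (hi : Invt N z) :
    omega χ z ∈ locRing M ∧ redC M (omega χ z) = redC M (aug ℂ G z) := by
  classical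
  haveI := Fintype.ofFinite (G ⧸ N)
  have key : ∀ σ, omega χ (H7.trunc (coset N σ) z) ∈ locRing M ∧
      redC M (omega χ (H7.trunc (coset N σ) z)) = redC M (aug ℂ G (H7.trunc (coset N σ) z)) := by
    intro σ
    obtain ⟨c, hc, hc', e⟩ := hu.exists_eq_smul hθ (H7.trunc_mem_intAlg' _ hz)
      (H7.supp_trunc _ _) (invt_trunc_coset hi σ)
    have e2 : omega χ (H7.trunc (coset N σ) z) = c * omega χ (u σ) := by
      rw [omega_apply, omega_apply, ← h1, e, map_smul, h1, smul_eq_mul, mul_div_assoc]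
    have hm : omega χ (u σ) ∈ locRing M := mem_of_redC_ne_zero (by rw [h2]; exact one_ne_zero)
    rw [e2, redC_mul hc hm, h2, mul_one, hc']
    exact ⟨(locRing M).mul_mem hc hm, rfl⟩
  rw [← sum_trunc_coset (N := N) z, map_sum, map_sum, redC_sum _ fun σ _ => (key σ).1,
    redC_sum _ fun σ _ => aug_mem (H7.trunc_mem_intAlg' _ hz)]
  exact ⟨(locRing M).sum_mem fun σ _ => (key σ).1, Finset.sum_congr rfl fun σ _ => (key σ).2⟩

theorem Dd.mem_principal (hu : Dd M N u) (hθ : θ ∈ principalBlock M N) {χ : G → ℂ}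
    (h1 : ∀ a, chiL χ (a * fb N {θ}) = chiL χ a) (h2 : ∀ σ, redC M (omega χ (u σ)) = 1)
    {J : Type*} [Group J] [Finite J] (f : J →* G) (hf : N ≤ f.range) {ξ : IrrCharacter J}
    (hξ : ∀ y : J, (ξ : J → ℂ) y = χ (f y)) : ξ ∈ principalBlock M J := by
  refine (sameBlock_iff_redC isIrrCharacter_one ξ.2).2 fun g => ?_
  have hi : Invt N (push ℂ f (classSum ℂ g)) := by
    have := (H7.mem_Fix_top_iff.2 (classSum_mem_center (R := ℂ) g)).2.push f
    rw [← MonoidHom.range_eq_map] at this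
    exact this.mono hf
  have := (hu.redC_omega hθ h1 h2 (H7.push_mem_intAlg f (classSum_mem_intAlg g)) hi).2
  rw [H7.aug_push, ← chiL_one_eq_aug, omega_apply, H7.chiL_push] at this
  have e : (fun x => χ (f x)) = (ξ : J → ℂ) := (funext hξ).symm
  have e1 : χ 1 = (ξ : J → ℂ) 1 := by rw [hξ, map_one]
  rw [e, e1, ← omega_apply, omega_classSum ξ.2.isClassFunction] at this
  rw [this, ← omega_classSum (isClassFunction_const 1), omega_apply, div_one]

end Cfsg.Agent.H6
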