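import Cfsg.Agent.H4.Galois
import Cfsg.Agent.H4.Integral

/-!
# Integer vectors with few unequal pairs; Gram matrices `I + e J`
-/

set_option autoImplicit false
set_option linter.unusedSectionVars false
set_option linter.style.haveILetI false

namespace Cfsg.Agent.H6

open Finset

theorem one_le_sq_int {a : ℤ} (h : a ≠ 0) : 1 ≤ a ^ 2 := Int.add_one_le_of_lt (sq_pos_of_ne_zero h)

theorem sum_sum_sub_sq {ι : Type*} (L : Finset ι) (b : ι → ℤ) :
    ∑ i ∈ L, ∑ j ∈ L, (b i - b j) ^ 2 = 2 * (L.card * ∑ i ∈ L, b i ^ 2 - (∑ i ∈ L, b i) ^ 2) := by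
  have h : ∀ i, ∑ j ∈ L, (b i - b j) ^ 2 =
      L.card * b i ^ 2 - 2 * b i * ∑ j ∈ L, b j + ∑ j ∈ L, b j ^ 2 := fun i => by
    rw [mul_sum, ← nsmul_eq_mul, ← sum_const, ← sum_sub_distrib, ← sum_add_distrib]
    exact sum_congr rfl fun j _ => by ring
  rw [sum_congr rfl fun i _ => h i, sum_add_distrib, sum_sub_distrib, ← mul_sum, ← sum_mul,
    ← mul_sum, sum_const, nsmul_eq_mul]
  ring

/-- A nonconstant integer vector has at least `N - 1` unequal pairs. -/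
theorem pair_bound {ι : Type*} [DecidableEq ι] (L : Finset ι) (b : ι → ℤ)
    (h : ∃ i ∈ L, ∃ j ∈ L, b i ≠ b j) :
    (L.card : ℤ) - 1 ≤ L.card * ∑ i ∈ L, b i ^ 2 - (∑ i ∈ L, b i) ^ 2 ∧
    ((L.card : ℤ) * ∑ i ∈ L, b i ^ 2 - (∑ i ∈ L, b i) ^ 2 ≤ L.card - 1 →
      ∃ i₀ ∈ L, ∃ t δ : ℤ, (δ = 1 ∨ δ = -1) ∧ ∀ i ∈ L, b i = t + if i = i₀ then δ else 0) := by
  obtain ⟨i₁, hi₁, j₁, hj₁, hne⟩ := h
  obtain ⟨m, hm, hmax⟩ := L.exists_max_image b ⟨i₁, hi₁⟩
  set S := L.filter fun i => b i = b m with hS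
  set T := L.filter fun i => ¬ b i = b m with hT
  have hST : S.card + T.card = L.card := card_filter_add_card_filter_not _
  have hS0 : 0 < S.card := card_pos.2 ⟨m, mem_filter.2 ⟨hm, rfl⟩⟩
  have hT0 : 0 < T.card := card_pos.2 (by
    by_cases h1 : b i₁ = b m
    · exact ⟨j₁, mem_filter.2 ⟨hj₁, fun h2 => hne (h1.trans h2.symm)⟩⟩
    · exact ⟨i₁, mem_filter.2 ⟨hi₁, h1⟩⟩)
  set w : ι → ι → ℤ := fun i j => (if b i = b m then 1 else 0) * (if ¬ b j = b m then 1 else 0) +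
    (if ¬ b i = b m then 1 else 0) * (if b j = b m then 1 else 0) with hw
  have hle : ∀ i ∈ L, ∀ j ∈ L, w i j ≤ (b i - b j) ^ 2 := fun i _ j _ => by
    by_cases h1 : b i = b m <;> by_cases h2 : b j = b m <;> simp only [hw, h1, h2, not_true,
      not_false_iff, if_true, if_false, mul_zero, mul_one, zero_mul, add_zero, zero_add]
    · positivity
    · exact one_le_sq_int (sub_ne_zero.2 (Ne.symm h2))
    · exact one_le_sq_int (sub_ne_zero.2 h1)
    · positivity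
  have hsum : ∑ i ∈ L, ∑ j ∈ L, w i j = 2 * (S.card * T.card) := by
    simp only [hw, sum_add_distrib, ← mul_sum, ← sum_mul, sum_boole]
    rw [← hS, ← hT]; ring
  have h1 : (L.card : ℤ) - 1 ≤ S.card * T.card := by
    rw [← hST]; push_cast
    nlinarith [Int.natCast_pos.2 hS0, Int.natCast_pos.2 hT0]
  have h2 : ∑ i ∈ L, ∑ j ∈ L, w i j ≤ ∑ i ∈ L, ∑ j ∈ L, (b i - b j) ^ 2 :=
    sum_le_sum fun i hi => sum_le_sum (hle i hi)
  rw [hsum, sum_sum_sub_sq] at h2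
  refine ⟨by linarith, fun h3 => ?_⟩
  have h4 : ∑ i ∈ L, ∑ j ∈ L, w i j = ∑ i ∈ L, ∑ j ∈ L, (b i - b j) ^ 2 := by
    rw [hsum, sum_sum_sub_sq]; linarith
  have h5 := (sum_eq_sum_iff_of_le fun i hi => sum_le_sum (hle i hi)).1 h4 m hm
  have h6 : ∀ j ∈ T, b j = b m - 1 := fun j hj => by
    obtain ⟨hjL, hj'⟩ := mem_filter.1 hj
    have h7 := (sum_eq_sum_iff_of_le (hle m hm)).1 h5 j hjL
    simp only [hw, hj', not_true, not_false_iff, if_true, if_false, mul_one, zero_mul,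
      add_zero] at h7
    have h8 := hmax j hjL
    have h9 : b j < b m := lt_of_le_of_ne h8 hj'
    nlinarith
  have h7 : ((S.card : ℤ) - 1) * (T.card - 1) = 0 := by
    have : (S.card : ℤ) * T.card = L.card - 1 := by linarith
    rw [← hST] at this; push_cast at this; linarith
  rcases mul_eq_zero.1 h7 with h8 | h8
  · obtain ⟨a, ha⟩ := card_eq_one.1 (show S.card = 1 by omega)
    have hma : m = a := mem_singleton.1 (ha ▸ mem_filter.2 ⟨hm, rfl⟩)
    refine ⟨m, hm, b m - 1, 1, Or.inl rfl, fun i hi => ?_⟩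
    split_ifs with h9
    · rw [h9]; ring
    · rw [add_zero]
      refine h6 i (mem_filter.2 ⟨hi, fun h10 => h9 ?_⟩)
      rw [hma]; exact mem_singleton.1 (ha ▸ mem_filter.2 ⟨hi, h10⟩)
  · obtain ⟨a, ha⟩ := card_eq_one.1 (show T.card = 1 by omega)
    have haT : a ∈ T := ha ▸ mem_singleton_self a
    refine ⟨a, (mem_filter.1 haT).1, b m, -1, Or.inr rfl, fun i hi => ?_⟩
    split_ifs with h9
    · rw [h9, h6 a haT]; ring
    · rw [add_zero]
      by_contra h10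
      exact h9 (mem_singleton.1 (ha ▸ mem_filter.2 ⟨hi, h10⟩))

section gram

variable {ι κ : Type*} [Fintype ι] [DecidableEq ι] {K : Finset κ} {a : ι → κ → ℤ} {e : ℤ}
  (hG : ∀ i j, ∑ χ ∈ K, a i χ * a j χ = (if i = j then 1 else 0) + e)
include hG

theorem gram_sum_sq : ∑ χ ∈ K, ∑ i, a i χ ^ 2 = Fintype.card ι * (1 + e) := by
  rw [sum_comm, sum_congr rfl fun i _ => (sum_congr rfl fun χ _ => sq (a i χ)).trans (hG i i)]
  simp

theorem gram_sq_sum : ∑ χ ∈ K, (∑ i, a i χ) ^ 2 = Fintype.card ι + Fintype.card ι ^ 2 * e := by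
  simp only [sq, sum_mul_sum]
  rw [sum_comm, sum_congr rfl fun i _ => sum_comm.trans (sum_congr rfl fun j _ => hG i j)]
  simp only [sum_add_distrib, sum_ite_eq, mem_univ, if_true, sum_const, card_univ, nsmul_eq_mul]
  ring

theorem gram_card_le [Nonempty ι] (h0 : ∀ χ ∈ K, ∃ i, a i χ ≠ 0) :
    (K.card : ℤ) ≤ Fintype.card ι + e ∧ ((K.card : ℤ) = Fintype.card ι + e → ∀ χ ∈ K, ∃ δ : ℤ,
      (δ = 1 ∨ δ = -1) ∧ ((∀ i, a i χ = δ) ∨ ∃ i₀, ∀ i, a i χ = if i = i₀ then δ else 0)) := by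
  have hm : (0 : ℤ) < Fintype.card ι := Int.natCast_pos.2 Fintype.card_pos
  have h1 := fun χ (hχ : χ ∈ K) => pair_bound (univ : Finset (Option ι))
    (fun o => o.elim 0 fun i => a i χ) (by
      obtain ⟨i, hi⟩ := h0 χ hχ
      exact ⟨some i, mem_univ _, none, mem_univ _, hi⟩)
  simp only [card_univ, Fintype.card_option, Fintype.sum_option, Option.elim_none,
    Option.elim_some, Nat.cast_add, Nat.cast_one, add_sub_cancel_right, zero_add,
    zero_pow two_ne_zero] at h1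
  have h2 : ∑ χ ∈ K, ((Fintype.card ι + 1 : ℤ) * ∑ i, a i χ ^ 2 - (∑ i, a i χ) ^ 2) =
      Fintype.card ι * (Fintype.card ι + e) := by
    rw [sum_sub_distrib, ← mul_sum, gram_sum_sq hG, gram_sq_sum hG]; ring
  have h3 : ∑ _χ ∈ K, (Fintype.card ι : ℤ) = Fintype.card ι * K.card := by
    rw [sum_const, nsmul_eq_mul, mul_comm]
  have h4 := sum_le_sum fun χ hχ => (h1 χ hχ).1
  rw [h2, h3] at h4
  refine ⟨le_of_mul_le_mul_left h4 hm, fun h5 χ hχ => ?_⟩
  have h6 := (sum_eq_sum_iff_of_le fun χ hχ => (h1 χ hχ).1).1 (by rw [h2, h3, h5]) χ hχ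
  obtain ⟨i₀, -, t, δ, hδ, h7⟩ := (h1 χ hχ).2 h6.ge
  have h8 := h7 none (mem_univ _)
  cases i₀ with
  | none =>
    refine ⟨-δ, by omega, Or.inl fun i => ?_⟩
    have := h7 (some i) (mem_univ _)
    simp at h8 this
    omega
  | some i₀ =>
    refine ⟨δ, hδ, Or.inr ⟨i₀, fun i => ?_⟩⟩
    have := h7 (some i) (mem_univ _)
    simp at h8 this
    rw [this, ← h8, zero_add]

theorem gram_struct [Nonempty ι] (he : 0 ≤ e) (h0 : ∀ χ ∈ K, ∃ i, a i χ ≠ 0)
    (hK : (K.card : ℤ) = Fintype.card ι + e) : ∃ (ψ : ι → κ) (δ : κ → ℤ),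
      Function.Injective ψ ∧ (∀ i, ψ i ∈ K) ∧ (∀ χ ∈ K, δ χ = 1 ∨ δ χ = -1) ∧
      (∀ i j, a i (ψ j) = if i = j then δ (ψ j) else 0) ∧
      ∀ χ ∈ K, (∀ j, ψ j ≠ χ) → ∀ i, a i χ = δ χ := by
  classical
  choose! δ hδ h1 using (gram_card_le hG h0).2 hK
  rcases subsingleton_or_nontrivial ι with hι | hι
  · have h2 : ∀ χ ∈ K, ∀ i, a i χ = δ χ := fun χ hχ i => by
      rcases h1 χ hχ with h | ⟨i₀, h⟩
      · exact h i
      · rw [h i, if_pos (Subsingleton.elim _ _)]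
    obtain ⟨χ, hχ⟩ : K.Nonempty := card_pos.1 (by
      have : (0 : ℤ) < Fintype.card ι := Int.natCast_pos.2 Fintype.card_pos
      omega)
    exact ⟨fun _ => χ, δ, fun _ _ _ => Subsingleton.elim _ _, fun _ => hχ, hδ, fun i j => by
      rw [h2 χ hχ, if_pos (Subsingleton.elim _ _)], fun χ hχ _ => h2 χ hχ⟩
  have hδ2 : ∀ χ ∈ K, δ χ * δ χ = 1 := fun χ hχ => by rcases hδ χ hχ with h | h <;> rw [h] <;> rfl
  have hδ0 : ∀ χ ∈ K, δ χ ≠ 0 := fun χ hχ h => by simpa [h] using hδ2 χ hχ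
  set C := K.filter fun χ => ∀ i, a i χ = δ χ with hC
  have h2 : ∀ i j, ∑ χ ∈ K, a i χ * a j χ =
      C.card + ∑ χ ∈ K.filter fun χ => ¬ ∀ i, a i χ = δ χ, a i χ * a j χ := fun i j => by
    rw [← sum_filter_add_sum_filter_not K fun χ => ∀ i, a i χ = δ χ, card_eq_sum_ones]
    push_cast
    congr 1
    exact sum_congr rfl fun χ hχ => by
      obtain ⟨h3, h4⟩ := mem_filter.1 hχ
      rw [h4, h4, hδ2 χ h3]
  have h3 : (C.card : ℤ) = e := by
    obtain ⟨i, j, hij⟩ := exists_pair_ne ι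
    have h4 := h2 i j
    rw [hG, if_neg hij, zero_add, sum_eq_zero, add_zero] at h4
    · exact h4.symm
    · intro χ hχ
      obtain ⟨h5, h6⟩ := mem_filter.1 hχ
      obtain ⟨i₀, h7⟩ := (h1 χ h5).resolve_left h6
      rw [h7 i, h7 j]
      split_ifs with h8 h9
      · exact absurd (h8.trans h9.symm) hij
      all_goals simp
  have h4 : ∀ i, ∃ χ, (χ ∈ K ∧ ¬ ∀ i, a i χ = δ χ) ∧ a i χ ≠ 0 ∧
      ∀ χ', χ' ∈ K → (¬ ∀ i, a i χ' = δ χ') → a i χ' ≠ 0 → χ' = χ := fun i => by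
    have h5 := h2 i i
    rw [hG, if_pos rfl, h3, add_comm, add_right_inj, ← sum_coe_sort] at h5
    obtain ⟨χ, h6, h7⟩ := H4.exists_of_sum_mul_self_eq_one _ h5.symm
    refine ⟨χ, mem_filter.1 χ.2, by omega, fun χ' h8 h9 h10 => ?_⟩
    by_contra h11
    exact h10 (h7 ⟨χ', mem_filter.2 ⟨h8, h9⟩⟩ fun h => h11 (congrArg Subtype.val h))
  choose ψ h5 h6 h7 using h4
  have h8 : ∀ i j, a i (ψ j) = if i = j then δ (ψ j) else 0 := fun i j => by
    obtain ⟨i₀, h9⟩ := (h1 _ (h5 j).1).resolve_left (h5 j).2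
    have h10 := h6 j
    rw [h9 j] at h10
    obtain rfl : j = i₀ := by by_contra h; exact h10 (if_neg h)
    exact h9 i
  refine ⟨ψ, δ, fun i j h => ?_, fun i => (h5 i).1, hδ, h8, fun χ hχ h => ?_⟩
  · have h9 := h6 i
    rw [h, h8] at h9
    by_contra h10
    exact h9 (if_neg h10)
  · by_contra h9
    obtain ⟨i, hi⟩ := h0 χ hχ
    exact h i (h7 i χ hχ h9 hi).symm

theorem gram_card_ge (he : 0 ≤ e) : Fintype.card ι ≤ K.card := by
  have h1 : LinearIndependent ℚ fun i => fun χ : K => (a i χ : ℚ) := by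
    rw [Fintype.linearIndependent_iff]
    intro c hc
    have h2 : ∀ χ ∈ K, ∑ i, c i * (a i χ : ℚ) = 0 := fun χ hχ => by
      simpa using congrFun hc ⟨χ, hχ⟩
    have h3 : ∑ χ ∈ K, (∑ i, c i * (a i χ : ℚ)) ^ 2 = ∑ i, c i ^ 2 + e * (∑ i, c i) ^ 2 := by
      simp only [sq, sum_mul_sum]
      rw [sum_comm, mul_sum, ← sum_add_distrib]
      refine sum_congr rfl fun i _ => ?_
      rw [sum_comm]
      have h4 : ∀ j, ∑ χ ∈ K, c i * (a i χ : ℚ) * (c j * a j χ) =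
          (if i = j then c i * c j else 0) + e * (c i * c j) := fun j => by
        have h5 := congrArg (fun z : ℤ => c i * c j * (z : ℚ)) (hG i j)
        push_cast at h5
        rw [mul_sum] at h5
        rw [sum_congr rfl fun χ _ => mul_mul_mul_comm _ _ _ _, h5]
        split_ifs <;> ring
      rw [sum_congr rfl fun j _ => h4 j, sum_add_distrib, sum_ite_eq, if_pos (mem_univ _), mul_sum]
    rw [sum_eq_zero fun χ hχ => by rw [h2 χ hχ, zero_pow two_ne_zero]] at h3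
    have h4 : (0 : ℚ) ≤ e * (∑ i, c i) ^ 2 := mul_nonneg (by exact_mod_cast he) (sq_nonneg _)
    have h5 : ∑ i, c i ^ 2 = 0 :=
      le_antisymm (by linarith) (sum_nonneg fun i _ => sq_nonneg _)
    intro i
    exact pow_eq_zero_iff two_ne_zero |>.1
      ((sum_eq_zero_iff_of_nonneg fun i _ => sq_nonneg _).1 h5 i (mem_univ _))
  simpa using h1.fintype_card_le_finrank

end gram

theorem card_eq_of_sum_sq_le {κ : Type*} (K : Finset κ) (c : κ → ℤ) (h0 : ∀ χ ∈ K, c χ ≠ 0)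
    (h : ∑ χ ∈ K, c χ ^ 2 ≤ K.card + 2) : ∑ χ ∈ K, c χ ^ 2 = K.card := by
  have h1 : ∑ χ ∈ K, (c χ ^ 2 - 1) ≤ 2 := by
    rw [sum_sub_distrib, sum_const, nsmul_eq_mul, mul_one]; linarith
  rw [card_eq_sum_ones]
  push_cast
  refine sum_congr rfl fun χ hχ => ?_
  have h2 := (single_le_sum (f := fun χ => c χ ^ 2 - 1)
    (fun χ hχ => sub_nonneg.2 (one_le_sq_int (h0 χ hχ))) hχ).trans h1
  have h3 := h0 χ hχ
  have h4 : -2 < c χ ∧ c χ < 2 := by constructor <;> nlinarith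
  have : c χ = 1 ∨ c χ = -1 := by omega
  rcases this with h | h <;> rw [h] <;> rfl

theorem gram_two_aux {u v w z e : ℤ} (he : e = 1 ∨ e = 2) (h1 : u * u + v * v = 1 + e)
    (h2 : w * w + z * z = 1 + e) (h3 : u * w + v * z = 0 + e) : False := by
  have b0 : e ≤ 2 := by omega
  have b1 : -2 < u ∧ u < 2 := by constructor <;> nlinarith [sq_nonneg v]
  have b2 : -2 < v ∧ v < 2 := by constructor <;> nlinarith [sq_nonneg u]
  have b3 : -2 < w ∧ w < 2 := by constructor <;> nlinarith [sq_nonneg z]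
  have b4 : -2 < z ∧ z < 2 := by constructor <;> nlinarith [sq_nonneg w]
  obtain ⟨_, _⟩ := b1; obtain ⟨_, _⟩ := b2; obtain ⟨_, _⟩ := b3; obtain ⟨_, _⟩ := b4
  interval_cases u <;> interval_cases v <;> interval_cases w <;> interval_cases z <;> omega

theorem gram_three_aux {m τ e : ℤ} (hm : 3 ≤ m) (h : m * τ ^ 2 + 2 * τ = e) (h1 : 1 ≤ e)
    (h2 : e ≤ 2) : m = e + 2 := by
  have h20 : -2 < τ ∧ τ < 1 := by constructor <;> nlinarith
  have h21 : τ ≠ 0 := fun h3 => by rw [h3] at h; omega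
  obtain rfl : τ = -1 := by omega
  linarith

theorem gram_small {ι κ : Type*} [Fintype ι] [DecidableEq ι] [Nonempty ι] {K : Finset κ}
    {a : ι → κ → ℤ} {e : ℤ} (hG : ∀ i j, ∑ χ ∈ K, a i χ * a j χ = (if i = j then 1 else 0) + e)
    (he : e ≤ 3) (h0 : ∀ χ ∈ K, ∃ i, a i χ ≠ 0) (hk : Fintype.card ι < K.card) :
    (K.card : ℤ) = Fintype.card ι + e ∨ Fintype.card ι = 3 ∨ (Fintype.card ι = 4 ∧ e = 3) := by
  classical
  obtain ⟨i₁⟩ := ‹Nonempty ι›
  rcases subsingleton_or_nontrivial ι with hι | hι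
  · have h1 : Fintype.card ι = 1 := Fintype.card_eq_one_iff.2 ⟨i₁, fun _ => Subsingleton.elim _ _⟩
    have h2 : ∑ χ ∈ K, a i₁ χ ^ 2 = 1 + e := by
      rw [sum_congr rfl fun χ _ => sq (a i₁ χ), hG, if_pos rfl]
    left
    rw [← card_eq_of_sum_sq_le K (a i₁) (fun χ hχ => ?_) (by omega), h2, h1, Nat.cast_one]
    obtain ⟨i, hi⟩ := h0 χ hχ
    rwa [Subsingleton.elim i₁ i]
  set K₀ := K.filter fun χ => ∀ i, a i χ = a i₁ χ with hK₀
  set K₁ := K.filter fun χ => ¬ ∀ i, a i χ = a i₁ χ with hK₁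
  have hc : K₀.card + K₁.card = K.card := card_filter_add_card_filter_not _
  set s := ∑ χ ∈ K₀, a i₁ χ ^ 2 with hs
  have hG₁ : ∀ i j, ∑ χ ∈ K₁, a i χ * a j χ = (if i = j then 1 else 0) + (e - s) := fun i j => by
    have h1 := hG i j
    rw [← sum_filter_add_sum_filter_not K fun χ => ∀ i, a i χ = a i₁ χ] at h1
    have h2 : ∑ χ ∈ K₀, a i χ * a j χ = s := sum_congr rfl fun χ hχ => by
      rw [(mem_filter.1 hχ).2 i, (mem_filter.1 hχ).2 j, sq]
    rw [h2] at h1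
    linarith
  have hm : 2 ≤ Fintype.card ι := Fintype.one_lt_card
  have hm' : (2 : ℤ) ≤ Fintype.card ι := by exact_mod_cast hm
  have h1 := fun χ (hχ : χ ∈ K₁) => pair_bound (univ : Finset ι) (fun i => a i χ) (by
    obtain ⟨i, hi⟩ := not_forall.1 (mem_filter.1 hχ).2
    exact ⟨i, mem_univ _, i₁, mem_univ _, hi⟩)
  simp only [card_univ] at h1
  have h2 : ∑ χ ∈ K₁, ((Fintype.card ι : ℤ) * ∑ i, a i χ ^ 2 - (∑ i, a i χ) ^ 2) =
      (Fintype.card ι - 1) * Fintype.card ι := by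
    rw [sum_sub_distrib, ← mul_sum, gram_sum_sq hG₁, gram_sq_sum hG₁]; ring
  have h3 : ∑ _χ ∈ K₁, (Fintype.card ι - 1 : ℤ) = (Fintype.card ι - 1) * K₁.card := by
    rw [sum_const, nsmul_eq_mul, mul_comm]
  have h4 := sum_le_sum fun χ hχ => (h1 χ hχ).1
  rw [h2, h3] at h4
  have h5 : (K₁.card : ℤ) ≤ Fintype.card ι := le_of_mul_le_mul_left h4 (by omega)
  have h6 : 0 ≤ e - s := by
    have h7 := gram_sq_sum hG₁
    have h8 : 0 ≤ ∑ χ ∈ K₁, (∑ i, a i χ) ^ 2 := sum_nonneg fun _ _ => sq_nonneg _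
    by_contra h9
    nlinarith
  have h7 := gram_card_ge hG₁ h6
  have h8 : (K₁.card : ℤ) = Fintype.card ι := by omega
  have h9 : s = K₀.card := card_eq_of_sum_sq_le K₀ (a i₁) (fun χ hχ => by
    obtain ⟨i, hi⟩ := h0 χ (mem_filter.1 hχ).1
    rwa [(mem_filter.1 hχ).2 i] at hi) (by rw [← hs]; omega)
  by_cases h10 : e - s = 0
  · left; omega
  right
  have h11 := (sum_eq_sum_iff_of_le fun χ hχ => (h1 χ hχ).1).1 (by rw [h2, h3, h8])
  choose! o _ t δ hδ ho using fun χ hχ => (h1 χ hχ).2 (h11 χ hχ).ge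
  simp only [mem_univ, forall_true_left] at ho
  have hδ2 : ∀ χ ∈ K₁, δ χ ^ 2 = 1 := fun χ hχ => by rcases hδ χ hχ with h | h <;> rw [h] <;> rfl
  have h12 : ∀ i j, i ≠ j →
      (K₁.filter fun χ => o χ = i).card + (K₁.filter fun χ => o χ = j).card = 2 := fun i j hij => by
    have h13 : ∑ χ ∈ K₁, (a i χ - a j χ) ^ 2 = 2 := by
      rw [sum_congr rfl fun χ _ => (by ring : (a i χ - a j χ) ^ 2 =
        a i χ * a i χ - 2 * (a i χ * a j χ) + a j χ * a j χ), sum_add_distrib, sum_sub_distrib,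
        ← mul_sum, hG₁, hG₁, hG₁, if_pos rfl, if_pos rfl, if_neg hij]
      ring
    have h14 : ∑ χ ∈ K₁, (a i χ - a j χ) ^ 2 =
        ∑ χ ∈ K₁, ((if o χ = i then 1 else 0) + if o χ = j then 1 else 0) :=
      sum_congr rfl fun χ hχ => by
        rw [ho χ hχ i, ho χ hχ j]
        by_cases h15 : o χ = i
        · have h16 : ¬ o χ = j := fun h => hij (h15.symm.trans h)
          rw [if_pos h15.symm, if_neg (Ne.symm h16), if_pos h15, if_neg h16]
          simpa using hδ2 χ hχ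
        · rw [if_neg (Ne.symm h15), if_neg h15]
          by_cases h16 : o χ = j
          · rw [if_pos h16.symm, if_pos h16]
            simpa using hδ2 χ hχ
          · rw [if_neg (Ne.symm h16), if_neg h16]; simp
    rw [h14, sum_add_distrib, sum_boole, sum_boole] at h13
    exact_mod_cast h13
  by_cases h13 : Fintype.card ι = 2
  · exfalso
    obtain ⟨i, j, hij⟩ := exists_pair_ne ι
    obtain ⟨x, y, hxy, hK⟩ := card_eq_two.1 (show K₁.card = 2 by omega)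
    have h14 := hG₁ i i
    have h15 := hG₁ i j
    have h16 := hG₁ j j
    rw [hK, sum_pair hxy] at h14 h15 h16
    rw [if_pos rfl] at h14 h16
    rw [if_neg hij] at h15
    have h17 : e - s = 1 ∨ e - s = 2 := by omega
    exact gram_two_aux h17 h14 h16 h15
  have h14 : ∀ i, (K₁.filter fun χ => o χ = i).card = 1 := fun i => by
    obtain ⟨j, hj⟩ := exists_ne i
    obtain ⟨l, -, hl⟩ : ∃ l ∈ (univ : Finset ι), l ∉ ({i, j} : Finset ι) :=
      exists_mem_notMem_of_card_lt_card (by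
        rw [card_univ]; exact lt_of_le_of_lt card_le_two (by omega))
    rw [mem_insert, mem_singleton, not_or] at hl
    have := h12 i j hj.symm
    have := h12 i l (Ne.symm hl.1)
    have := h12 j l (Ne.symm hl.2)
    omega
  have h15 : ∀ χ ∈ K₁, ∑ χ ∈ K₁, t χ ^ 2 + 2 * (t χ * δ χ) = e - s := fun χ hχ => by
    have h16 := hG₁ (o χ) (o χ)
    obtain ⟨x, hx⟩ := card_eq_one.1 (h14 (o χ))
    have h17 : χ = x := mem_singleton.1 (hx ▸ mem_filter.2 ⟨hχ, rfl⟩)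
    rw [if_pos rfl, sum_congr rfl (g := fun χ' => t χ' ^ 2 +
      if o χ' = o χ then 2 * (t χ' * δ χ') + 1 else 0) fun χ' hχ' => ?_, sum_add_distrib,
      ← sum_filter, hx, sum_singleton, ← h17] at h16
    · linarith
    · rw [ho χ' hχ']
      by_cases h18 : o χ' = o χ
      · rw [if_pos h18.symm, if_pos h18]; linear_combination hδ2 χ' hχ'
      · rw [if_neg (Ne.symm h18), if_neg h18]; ring
  obtain ⟨x, hx⟩ : K₁.Nonempty := card_pos.1 (by omega)
  have h16 : ∑ χ ∈ K₁, t χ ^ 2 = Fintype.card ι * (t x * δ x) ^ 2 := by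
    rw [← h8, ← nsmul_eq_mul, ← sum_const]
    refine sum_congr rfl fun χ hχ => ?_
    have h17 : t χ * δ χ = t x * δ x := by linarith [h15 χ hχ, h15 x hx]
    rw [← h17, mul_pow, hδ2 χ hχ, mul_one]
  have h17 := h15 x hx
  rw [h16] at h17
  have := gram_three_aux (by omega) h17 (by omega) (by omega)
  omega

end Cfsg.Agent.H6
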