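import Cfsg.Agent.H6.Fr1

/-!
# Functions on an abelian group extending to generalized characters; gluing of signs
-/

set_option autoImplicit false
set_option linter.unusedSectionVars false
set_option linter.style.haveILetI false

namespace Cfsg.Agent.H6

open Finset Cfsg Cfsg.Agent.H4
open scoped ComplexConjugate

variable {P : Type*} [Group P] [Fintype P]

/-- invariance under translation by a subgroup -/
def QInv (Q : Subgroup P) (f : P → ℂ) : Prop := ∀ v, ∀ q ∈ Q, f (v * q) = f v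

/-- agreeing outside `Q` with a `Q`-invariant generalized character -/
def ExtQ (Q : Subgroup P) (f : P → ℂ) : Prop :=
  ∃ η, IsGeneralizedCharacter P η ∧ QInv Q η ∧ ∀ v ∉ Q, η v = f v

open Classical in
/-- the irreducible characters trivial on `Q` -/
noncomputable def perp (Q : Subgroup P) : Finset (IrrCharacter P) :=
  univ.filter fun l => ∀ q ∈ Q, (l : P → ℂ) q = 1

theorem mem_perp {Q : Subgroup P} {l : IrrCharacter P} :
    l ∈ perp Q ↔ ∀ q ∈ Q, (l : P → ℂ) q = 1 := by simp [perp]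

theorem irrOne_mem_perp (Q : Subgroup P) : irrOne P ∈ perp Q := mem_perp.2 fun _ _ => rfl

/-- the function cut to zero on `Q` -/
noncomputable def cut (Q : Subgroup P) (f : P → ℂ) : P → ℂ := Set.indicator (Q : Set P)ᶜ f

theorem cut_of_mem {Q : Subgroup P} (f : P → ℂ) {v : P} (h : v ∈ Q) : cut Q f v = 0 :=
  Set.indicator_of_notMem (by simpa using h) _

theorem cut_of_not_mem {Q : Subgroup P} (f : P → ℂ) {v : P} (h : v ∉ Q) : cut Q f v = f v :=
  Set.indicator_of_mem (by simpa using h) _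

theorem cut_smul (Q : Subgroup P) (c : ℂ) (f : P → ℂ) : cut Q (fun v => c * f v) = c • cut Q f := by
  funext v
  by_cases h : v ∈ Q
  · simp [cut_of_mem _ h]
  · simp [cut_of_not_mem _ h]

section ExtQ

variable {Q : Subgroup P} {f g : P → ℂ}

theorem ExtQ.congr (h : ExtQ Q f) (h' : ∀ v ∉ Q, f v = g v) : ExtQ Q g := by
  obtain ⟨η, h1, h2, h3⟩ := h
  exact ⟨η, h1, h2, fun v hv => (h3 v hv).trans (h' v hv)⟩

theorem ExtQ.mul (h : ExtQ Q f) (h' : ExtQ Q g) : ExtQ Q fun v => f v * g v := by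
  obtain ⟨η, h1, h2, h3⟩ := h
  obtain ⟨η', h1', h2', h3'⟩ := h'
  exact ⟨η * η', h1.mul h1', fun v q hq => by simp [h2 v q hq, h2' v q hq],
    fun v hv => by simp [h3 v hv, h3' v hv]⟩

theorem ExtQ.add (h : ExtQ Q f) (h' : ExtQ Q g) : ExtQ Q fun v => f v + g v := by
  obtain ⟨η, h1, h2, h3⟩ := h
  obtain ⟨η', h1', h2', h3'⟩ := h'
  exact ⟨η + η', h1.add h1', fun v q hq => by simp [h2 v q hq, h2' v q hq],
    fun v hv => by simp [h3 v hv, h3' v hv]⟩

theorem extQ_int (Q : Subgroup P) (c : ℤ) : ExtQ Q fun _ => (c : ℂ) :=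
  ⟨(c : ℂ) • fun _ => 1, isGen_one.intCast_smul c, fun _ _ _ => rfl, fun _ _ => by simp⟩

theorem ExtQ.conj (h : ExtQ Q f) : ExtQ Q fun v => conj (f v) := by
  obtain ⟨η, h1, h2, h3⟩ := h
  exact ⟨fun v => conj (η v), h1.conj, fun v q hq => by simp [h2 v q hq],
    fun v hv => by simp [h3 v hv]⟩

theorem extQ_prod {ι : Type*} (s : Finset ι) (F : ι → P → ℂ) (h : ∀ i ∈ s, ExtQ Q (F i)) :
    ExtQ Q fun v => ∏ i ∈ s, F i v := by
  classical
  induction s using Finset.induction_on with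
  | empty => simpa using extQ_int Q 1
  | insert a s ha ih =>
    simp only [prod_insert ha]
    exact (h a (mem_insert_self _ _)).mul (ih fun i hi => h i (mem_insert_of_mem hi))

theorem ExtQ.inv (h : ExtQ Q f) {v : P} (hv : v ∉ Q) {q : P} (hq : q ∈ Q) : f (v * q) = f v := by
  obtain ⟨η, -, h2, h3⟩ := h
  rw [← h3 v hv, ← h3 _ fun h => hv ((Q.mul_mem_cancel_right hq).1 h), h2 v q hq]

theorem ExtQ.comp (h : ExtQ ⊥ f) (σ : P ≃* P) : ExtQ ⊥ fun v => f (σ v) := by
  obtain ⟨η, h1, -, h3⟩ := h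
  exact ⟨fun v => η (σ v), h1.comp σ.toMonoidHom, fun v q hq => by
    rw [Subgroup.mem_bot.1 hq, mul_one], fun v hv => h3 _ (by simpa using hv)⟩

theorem ExtQ.inner_int (h : ExtQ Q f) {l : IrrCharacter P} (hl : l ∈ perp Q) :
    ∃ n : ℤ, classInner (cut Q f) ((l : P → ℂ) - fun _ => 1) = n := by
  obtain ⟨η, h1, -, h3⟩ := h
  obtain ⟨n, hn⟩ := h1.classInner_int (l.2.isGen.sub isGen_one)
  refine ⟨n, hn ▸ ?_⟩
  rw [classInner_def, classInner_def]
  congr 1
  refine sum_congr rfl fun v _ => ?_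
  by_cases hv : v ∈ Q
  · simp [mem_perp.1 hl v hv]
  · rw [cut_of_not_mem _ hv, h3 v hv]

/-- a multiple of `f` by the norm of `x` extends when `x` and `x f` do -/
theorem ExtQ.exists_cofactor {x : P → ℂ} (hx : ExtQ Q x) (hxi : ∀ w ∉ Q, ∃ n : ℤ, x w = n)
    (s : Finset P) (hs : ∀ w ∈ s, w ∉ Q) :
    ∃ h, ExtQ Q h ∧ ∀ v, ∏ w ∈ s, (x w - x v) = ∏ w ∈ s, x w - x v * h v := by
  classical
  induction s using Finset.induction_on with
  | empty => exact ⟨fun _ => 0, by simpa using extQ_int Q 0, fun v => by simp⟩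
  | insert a s ha ih =>
    obtain ⟨h, h1, h2⟩ := ih fun w hw => hs w (mem_insert_of_mem hw)
    obtain ⟨n, hn⟩ := hxi a (hs a (mem_insert_self _ _))
    choose! m hm using hxi
    refine ⟨fun v => ((∏ w ∈ s, m w : ℤ) : ℂ) + (n + (-1 : ℤ) * x v) * h v,
      (extQ_int Q _).add (((extQ_int Q n).add ((extQ_int Q _).mul hx)).mul h1), fun v => ?_⟩
    rw [prod_insert ha, prod_insert ha, h2, hn]
    push_cast
    rw [← prod_congr rfl fun w hw => hm w (hs w (mem_insert_of_mem hw))]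
    ring

end ExtQ

variable (hc : ∀ a b : P, a * b = b * a)
include hc

theorem irr_mul_of_comm (l : IrrCharacter P) (a b : P) :
    (l : P → ℂ) (a * b) = (l : P → ℂ) a * (l : P → ℂ) b :=
  l.2.isCharacter.map_mul_of_apply_one (l.2.apply_one_eq_one_of_comm hc) a b

theorem irr_one_of_comm (l : IrrCharacter P) : (l : P → ℂ) 1 = 1 :=
  l.2.apply_one_eq_one_of_comm hc

theorem irr_mul_conj_of_comm (l : IrrCharacter P) (a : P) :
    (l : P → ℂ) a * conj ((l : P → ℂ) a) = 1 := by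
  rw [← l.2.isCharacter.apply_inv, ← irr_mul_of_comm hc, mul_inv_cancel, irr_one_of_comm hc]

theorem isClassFunction_of_comm (f : P → ℂ) : IsClassFunction P f := fun g x => by
  rw [hc x g, mul_inv_cancel_right]

theorem inner_shift {f : P → ℂ} {q : P} {c : ℂ} (h : ∀ v, f (v * q) = f v * c)
    (l : IrrCharacter P) (h0 : classInner f l ≠ 0) : (l : P → ℂ) q = c := by
  have h1 : classInner f l = c * conj ((l : P → ℂ) q) * classInner f l := by
    conv_lhs => rw [← classInner_comp_equiv _ _ (Equiv.mulRight q)]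
    rw [classInner_def, classInner_def, mul_left_comm, mul_sum (a := c * _)]
    congr 1
    exact sum_congr rfl fun v _ => by
      rw [Equiv.coe_mulRight, h, irr_mul_of_comm hc, map_mul]; ring
  have h2 : c * conj ((l : P → ℂ) q) = 1 := mul_right_cancel₀ h0 (by rw [← h1, one_mul])
  rw [← one_mul (l.1 q), ← h2, mul_assoc, mul_comm (conj _), irr_mul_conj_of_comm hc, mul_one]

theorem QInv.eq_sum {Q : Subgroup P} {f : P → ℂ} (h : QInv Q f) (v : P) :
    f v = ∑ l ∈ perp Q, classInner f l * (l : P → ℂ) v := by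
  rw [(isClassFunction_of_comm hc f).apply_eq_sum v]
  refine (sum_subset (subset_univ _) fun l _ hl => ?_).symm
  rw [mul_eq_zero]
  left
  by_contra h0
  exact hl (mem_perp.2 fun q hq => inner_shift hc (fun v => by rw [h v q hq, mul_one]) l h0)

theorem qInv_irr {Q : Subgroup P} {l : IrrCharacter P} (hl : l ∈ perp Q) : QInv Q l :=
  fun v q hq => by rw [irr_mul_of_comm hc, mem_perp.1 hl q hq, mul_one]

theorem sum_perp (Q : Subgroup P) (v : P) [Decidable (v ∈ Q)] :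
    ∑ l ∈ perp Q, (l : P → ℂ) v = if v ∈ Q then (Q.index : ℂ) else 0 := by
  classical
  have h1 : QInv Q fun v => if v ∈ Q then (Q.index : ℂ) else 0 := fun v q hq => by
    simp only [Q.mul_mem_cancel_right hq]
  have h2 := h1.eq_sum hc v
  refine Eq.trans (sum_congr rfl fun l hl => ?_) (by convert h2.symm)
  rw [classInner_def, sum_congr rfl (g := fun v => if v ∈ Q then (Q.index : ℂ) else 0)
    fun v _ => ?_, ← sum_filter, sum_const, nsmul_eq_mul, ← Fintype.card_subtype,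
    ← Nat.card_eq_fintype_card, ← Nat.cast_mul, Subgroup.card_mul_index,
    inv_mul_cancel₀ natCard_ne_zero', one_mul]
  split_ifs with hv
  · rw [mem_perp.1 hl v hv, map_one, mul_one]
  · rw [zero_mul]

theorem card_perp (Q : Subgroup P) : (perp Q).card = Q.index := by
  classical
  have h := sum_perp hc Q 1
  rw [if_pos Q.one_mem, sum_congr rfl fun l _ => irr_one_of_comm hc l, sum_const, nsmul_one] at h
  exact_mod_cast h

theorem isGen_indicator (Q : Subgroup P) [DecidablePred (· ∈ Q)] :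
    IsGeneralizedCharacter P fun v => if v ∈ Q then (Q.index : ℂ) else 0 := by
  have := isGen_sum (perp Q) (fun l => (l : P → ℂ)) fun l _ => l.2.isGen
  convert this using 1
  funext v
  rw [Finset.sum_apply, sum_perp hc]

theorem eq_sum_of_inv {Q : Subgroup P} {f : P → ℂ} (h : ∀ v ∉ Q, ∀ q ∈ Q, f (v * q) = f v)
    {v : P} (hv : v ∉ Q) : f v =
      ∑ l ∈ perp Q, classInner (cut Q f) ((l : P → ℂ) - fun _ => 1) * (l : P → ℂ) v := by
  classical
  have h1 : QInv Q (cut Q f) := fun v q hq => by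
    by_cases hv : v ∈ Q
    · rw [cut_of_mem _ hv, cut_of_mem _ (Q.mul_mem hv hq)]
    · rw [cut_of_not_mem _ hv, cut_of_not_mem _ fun h => hv ((Q.mul_mem_cancel_right hq).1 h),
        h v hv q hq]
  simp only [classInner_sub_right, sub_mul, sum_sub_distrib, ← mul_sum]
  rw [← h1.eq_sum hc, sum_perp hc, if_neg hv, mul_zero, sub_zero, cut_of_not_mem _ hv]

theorem extQ_of_int {Q : Subgroup P} {f : P → ℂ} (h : ∀ v ∉ Q, ∀ q ∈ Q, f (v * q) = f v)
    (h' : ∀ l ∈ perp Q, ∃ n : ℤ, classInner (cut Q f) ((l : P → ℂ) - fun _ => 1) = n) :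
    ExtQ Q f := by
  choose! n hn using h'
  refine ⟨∑ l ∈ perp Q, (n l : ℂ) • (l : P → ℂ),
    isGen_sum _ _ fun l _ => l.2.isGen.intCast_smul _, fun v q hq => ?_, fun v hv => ?_⟩
  · simp only [Finset.sum_apply, Pi.smul_apply]
    exact sum_congr rfl fun l hl => by rw [qInv_irr hc hl v q hq]
  · rw [eq_sum_of_inv hc h hv, Finset.sum_apply]
    exact sum_congr rfl fun l hl => by rw [hn l hl]; rfl

theorem ExtQ.of_coprime {Q : Subgroup P} {f : P → ℂ} {c : ℤ} (h : ExtQ Q fun v => c * f v)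
    (hcop : IsCoprime c (Nat.card P)) (hf : ∀ v ∉ Q, IsIntegral ℤ (f v)) (hQ : Q ≠ ⊤) :
    ExtQ Q f := by
  have hc0 : c ≠ 0 := by
    rintro rfl
    rw [isCoprime_zero_left, Int.isUnit_iff_natAbs_eq, Int.natAbs_natCast] at hcop
    haveI := (Nat.card_eq_one_iff_unique.1 hcop).1
    exact hQ (Subsingleton.elim _ _)
  have hc1 : (c : ℂ) ≠ 0 := Int.cast_ne_zero.2 hc0
  refine extQ_of_int hc (fun v hv q hq => mul_left_cancel₀ hc1 (h.inv hv hq)) fun l hl => ?_
  obtain ⟨n, hn⟩ := h.inner_int hl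
  rw [cut_smul, classInner_smul_left] at hn
  have h1 : IsIntegral ℤ ((Nat.card P : ℂ) * classInner (cut Q f) ((l : P → ℂ) - fun _ => 1)) := by
    rw [card_mul_classInner]
    refine IsIntegral.sum _ fun v _ => IsIntegral.mul ?_
      (isIntegral_conj ((l.2.isGen.sub isGen_one).isIntegral v))
    by_cases hv : v ∈ Q
    · rw [cut_of_mem _ hv]; exact isIntegral_zero
    · rw [cut_of_not_mem _ hv]; exact hf v hv
  have h2 : c ∣ Nat.card P * n := int_dvd_of_isIntegral_div hc0 (by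
    convert h1 using 1
    push_cast
    rw [← hn]; field_simp)
  obtain ⟨m, rfl⟩ := hcop.dvd_of_dvd_mul_left h2
  exact ⟨m, mul_left_cancel₀ hc1 (by rw [hn, Int.cast_mul])⟩

theorem ExtQ.of_mul {Q : Subgroup P} {f : P → ℂ} {x : P → ℤ} (hx : ExtQ Q fun v => x v)
    (h : ExtQ Q fun v => x v * f v) (hcop : ∀ v ∉ Q, IsCoprime (x v) (Nat.card P))
    (hf : ∀ v ∉ Q, IsIntegral ℤ (f v)) (hQ : Q ≠ ⊤) : ExtQ Q f := by
  classical
  obtain ⟨y, h1, h2⟩ := hx.exists_cofactor (fun w _ => ⟨_, rfl⟩) (univ.filter (· ∉ Q))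
    fun w hw => (mem_filter.1 hw).2
  refine ExtQ.of_coprime hc (c := ∏ w ∈ univ.filter (· ∉ Q), x w) ((h.mul h1).congr fun v hv => ?_)
    (IsCoprime.prod_left fun w hw => hcop w (mem_filter.1 hw).2) hf hQ
  have h3 := h2 v
  rw [prod_eq_zero (mem_filter.2 ⟨mem_univ v, hv⟩) (sub_self _), eq_comm, sub_eq_zero] at h3
  push_cast
  rw [h3]; ring

/-- An extendable function of absolute value one is a linear character up to sign. -/
theorem ExtQ.exists_eq_irr {Q : Subgroup P} {g : P → ℂ} (h : ExtQ Q g)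
    (h1 : ∀ v ∉ Q, g v * conj (g v) = 1) (hQ : Q ≠ ⊤) :
    ∃ l ∈ perp Q, ∃ δ : ℤ, (δ = 1 ∨ δ = -1) ∧ ∀ v ∉ Q, g v = δ * (l : P → ℂ) v := by
  classical
  obtain ⟨η, hη, h2, h3⟩ := h
  choose a ha using fun l : IrrCharacter P => hη.classInner_int l.2.isGen
  have h4 : ∀ v, η v = ∑ l ∈ perp Q, (a l : ℂ) * (l : P → ℂ) v := fun v => by
    rw [h2.eq_sum hc v]; simp only [ha]
  have h5 : ∀ v ∈ Q, η v = ((∑ l ∈ perp Q, a l : ℤ) : ℂ) := fun v hv => by
    rw [h4]; push_cast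
    exact sum_congr rfl fun l hl => by rw [mem_perp.1 hl v hv, mul_one]
  have h6 : classInner η η = ((∑ l ∈ perp Q, a l ^ 2 : ℤ) : ℂ) := by
    have h7 : η = ∑ l ∈ perp Q, (a l : ℂ) • (l : P → ℂ) := funext fun v => by
      rw [h4, Finset.sum_apply]; rfl
    conv_lhs => enter [2]; rw [h7]
    rw [classInner_sum_right]
    push_cast
    exact sum_congr rfl fun l _ => by rw [classInner_smul_right, ha, map_intCast, sq]
  have h7 : (Nat.card Q : ℂ) * (Q.index * ((∑ l ∈ perp Q, a l ^ 2 : ℤ) : ℂ)) =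
      Nat.card Q * (((∑ l ∈ perp Q, a l : ℤ) : ℂ) ^ 2 + (Q.index - 1)) := by
    rw [← mul_assoc, ← Nat.cast_mul, Subgroup.card_mul_index, ← h6, card_mul_classInner,
      sum_congr rfl (g := fun v => (if v ∈ Q then ((∑ l ∈ perp Q, a l : ℤ) : ℂ) ^ 2 - 1 else 0) + 1)
        fun v _ => ?_, sum_add_distrib, ← sum_filter, sum_const, sum_const, card_univ,
      ← Fintype.card_subtype, ← Nat.card_eq_fintype_card, ← Nat.card_eq_fintype_card,
      ← Q.card_mul_index, nsmul_eq_mul, nsmul_eq_mul]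
    · push_cast; ring
    · split_ifs with hv
      · rw [h5 v hv, map_intCast]; ring
      · rw [h3 v hv, h1 v hv, zero_add]
  have h8 : ((perp Q).card : ℤ) * ∑ l ∈ perp Q, a l ^ 2 - (∑ l ∈ perp Q, a l) ^ 2 =
      (perp Q).card - 1 := by
    have h9 := mul_left_cancel₀ natCard_ne_zero' h7
    rw [card_perp hc]
    have : ((Q.index * ∑ l ∈ perp Q, a l ^ 2 : ℤ) : ℂ) =
        (((∑ l ∈ perp Q, a l) ^ 2 + (Q.index - 1) : ℤ) : ℂ) := by
      rw [Int.cast_mul, Int.cast_natCast, h9]; push_cast; rfl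
    have := Int.cast_injective this
    linarith
  obtain ⟨v₀, hv₀⟩ : ∃ v, v ∉ Q := by
    by_contra! h; exact hQ ((Subgroup.eq_top_iff' Q).2 h)
  have h9 : ∀ (t : ℤ) v, v ∉ Q → ∑ l ∈ perp Q, (t : ℂ) * (l : P → ℂ) v = 0 := fun t v hv => by
    rw [← mul_sum, sum_perp hc, if_neg hv, mul_zero]
  obtain ⟨l₀, hl₀, t, δ, hδ, h10⟩ := (pair_bound (perp Q) a (by
    by_contra! h
    have h10 := h1 v₀ hv₀
    rw [← h3 v₀ hv₀, h4, sum_congr rfl fun l hl => by rw [h l hl _ (irrOne_mem_perp Q)],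
      h9 _ _ hv₀, zero_mul] at h10
    exact zero_ne_one h10)).2 h8.le
  refine ⟨l₀, hl₀, δ, hδ, fun v hv => ?_⟩
  rw [← h3 v hv, h4, sum_congr rfl fun l hl => by rw [h10 l hl, Int.cast_add, add_mul],
    sum_add_distrib, h9 _ _ hv, zero_add, sum_eq_single_of_mem l₀ hl₀ fun l _ hl => by
      rw [if_neg hl, Int.cast_zero, zero_mul], if_pos rfl]

omit hc in
theorem sup_zpowers_mul (Q : Subgroup P) (v : P) {q : P} (hq : q ∈ Q) :
    Q ⊔ Subgroup.zpowers (v * q) = Q ⊔ Subgroup.zpowers v := by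
  refine le_antisymm (sup_le le_sup_left (Subgroup.zpowers_le.2 ?_))
    (sup_le le_sup_left (Subgroup.zpowers_le.2 ?_))
  · exact Subgroup.mul_mem _ (Subgroup.mem_sup_right (Subgroup.mem_zpowers v))
      (Subgroup.mem_sup_left hq)
  · have := Subgroup.mul_mem _ (Subgroup.mem_sup_right (S := Q) (Subgroup.mem_zpowers (v * q)))
      (Subgroup.mem_sup_left (Q.inv_mem hq))
    rwa [mul_inv_cancel_right] at this

omit hc in
theorem lt_sup_zpowers {Q : Subgroup P} {v : P} (hv : v ∉ Q) : Q < Q ⊔ Subgroup.zpowers v :=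
  lt_of_le_of_ne le_sup_left fun h => hv (h ▸ Subgroup.mem_sup_right (Subgroup.mem_zpowers v))

omit hc in
theorem sum_ite_mem {R : Type*} [Semiring R] (Q : Subgroup P) [DecidablePred (· ∈ Q)] (c : R) :
    ∑ v, (if v ∈ Q then c else 0) = Nat.card Q * c := by
  rw [← sum_filter, sum_const, nsmul_eq_mul, ← Fintype.card_subtype, ← Nat.card_eq_fintype_card]

open Classical in
/-- coefficients of a function on subgroups with respect to the marks of transitive sets -/
noncomputable def bcoef (F : Subgroup P → ℤ) : Subgroup P → ℤ :=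
  WellFoundedGT.fix fun R ih =>
    (F R - ∑ Q : {Q // R < Q}, ih Q Q.2 * (Q.1.index : ℤ)) / R.index

omit hc in
open Classical in
theorem bcoef_eq (F : Subgroup P → ℤ) (R : Subgroup P) : bcoef F R =
    (F R - ∑ Q ∈ univ.filter (R < ·), bcoef F Q * (Q.index : ℤ)) / R.index := by
  rw [bcoef, WellFoundedGT.fix_eq, sum_subtype (p := (R < ·)) _ (by simp)]

omit hc in
open Classical in
theorem bcoef_spec {F : Subgroup P → ℤ} {Q₀ : Subgroup P}
    (h : ∀ R, Q₀ < R → (Nat.card P : ℤ) ∣ ∑ v, F (R ⊔ Subgroup.zpowers v)) (R : Subgroup P)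
    (hR : Q₀ < R) : F R = ∑ Q ∈ univ.filter (R ≤ ·), bcoef F Q * (Q.index : ℤ) := by
  induction R using WellFoundedGT.induction with
  | ind R ih =>
  set S := ∑ Q ∈ univ.filter (R < ·), bcoef F Q * (Q.index : ℤ) with hS
  have h1 : ∑ v, F (R ⊔ Subgroup.zpowers v) =
      Nat.card P * ∑ Q ∈ univ.filter (R < ·), bcoef F Q + Nat.card R * (F R - S) := by
    rw [← sum_ite_mem, mul_sum, sum_congr rfl (s₂ := univ.filter (R < ·))
      (g := fun Q : Subgroup P => ∑ v, if v ∈ Q then bcoef F Q * (Q.index : ℤ) else 0)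
      fun Q _ => by rw [sum_ite_mem, ← Q.card_mul_index]; push_cast; ring, sum_comm,
      ← sum_add_distrib]
    refine sum_congr rfl fun v _ => ?_
    by_cases hv : v ∈ R
    · rw [if_pos hv, sup_eq_left.2 (Subgroup.zpowers_le.2 hv), sum_congr rfl fun Q hQ =>
        if_pos ((mem_filter.1 hQ).2.le hv), ← hS]
      ring
    · rw [if_neg hv, add_zero, ih _ (lt_sup_zpowers hv) (hR.trans (lt_sup_zpowers hv)),
        ← sum_filter, filter_filter]
      refine sum_congr (filter_congr fun Q _ => ?_) fun _ _ => rfl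
      rw [sup_le_iff, Subgroup.zpowers_le]
      exact ⟨fun h => ⟨lt_of_le_of_ne h.1 fun h' => hv (h' ▸ h.2), h.2⟩, fun h => ⟨h.1.le, h.2⟩⟩
  have h2 : (R.index : ℤ) ∣ F R - S := by
    have h3 := h R hR
    rw [h1, dvd_add_right (dvd_mul_right _ _), ← R.card_mul_index, Nat.cast_mul] at h3
    exact Int.dvd_of_mul_dvd_mul_left (Nat.cast_ne_zero.2 Nat.card_pos.ne') h3
  rw [show univ.filter (R ≤ ·) = insert R (univ.filter (R < ·)) by
    ext Q; simp [le_iff_lt_or_eq, or_comm, eq_comm], sum_insert (by simp), bcoef_eq, ← hS,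
    Int.ediv_mul_cancel h2, sub_add_cancel]

theorem extQ_of_dvd {F : Subgroup P → ℤ} {Q₀ : Subgroup P}
    (h : ∀ R, Q₀ < R → (Nat.card P : ℤ) ∣ ∑ v, F (R ⊔ Subgroup.zpowers v)) :
    ExtQ Q₀ fun v => F (Q₀ ⊔ Subgroup.zpowers v) := by
  classical
  refine ⟨∑ Q ∈ univ.filter (Q₀ < ·), (bcoef F Q : ℂ) • fun v => if v ∈ Q then (Q.index : ℂ) else 0,
    isGen_sum _ _ fun Q _ => (isGen_indicator hc Q).intCast_smul _, fun v q hq => ?_,
    fun v hv => ?_⟩
  · simp only [Finset.sum_apply, Pi.smul_apply]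
    exact sum_congr rfl fun Q hQ => by
      simp only [Q.mul_mem_cancel_right ((mem_filter.1 hQ).2.le hq)]
  · simp only [Finset.sum_apply, Pi.smul_apply, smul_eq_mul, mul_ite, mul_zero]
    rw [bcoef_spec h _ (lt_sup_zpowers hv), ← sum_filter, filter_filter]
    push_cast
    refine sum_congr (filter_congr fun Q _ => ?_) fun _ _ => rfl
    rw [sup_le_iff, Subgroup.zpowers_le]
    exact ⟨fun h => ⟨h.1.le, h.2⟩, fun h => ⟨lt_of_le_of_ne h.1 fun h' => hv (h' ▸ h.2), h.2⟩⟩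

open Classical in
/-- the glued signs -/
noncomputable def gsign (n : Subgroup P → ℤ) : Subgroup P → ℤ :=
  WellFoundedGT.fix fun Q ih => if (Nat.card P : ℤ) ∣ ∑ v : {v // v ∉ Q},
    ih (Q ⊔ Subgroup.zpowers v.1) (lt_sup_zpowers v.2) * n (Q ⊔ Subgroup.zpowers v.1) +
      Nat.card Q * n Q then 1 else -1

omit hc in
open Classical in
theorem gsign_eq (n : Subgroup P → ℤ) (Q : Subgroup P) : gsign n Q =
    if (Nat.card P : ℤ) ∣ ∑ v ∈ univ.filter (· ∉ Q), gsign n (Q ⊔ Subgroup.zpowers v) *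
      n (Q ⊔ Subgroup.zpowers v) + Nat.card Q * n Q then 1 else -1 := by
  rw [gsign, WellFoundedGT.fix_eq, sum_subtype (p := (· ∉ Q)) _ (by simp)]

omit hc in
theorem gsign_cases (n : Subgroup P → ℤ) (Q : Subgroup P) : gsign n Q = 1 ∨ gsign n Q = -1 := by
  rw [gsign_eq]; split_ifs <;> simp

theorem dvd_sum_gsign {n : Subgroup P → ℤ} (hn : ∀ R, R ≠ ⊥ → IsCoprime (n R) (Nat.card P))
    (hω : ∀ Q : Subgroup P, Q ≠ ⊥ → ∃ ω : P → ℂ, (∀ v, IsIntegral ℤ (ω v)) ∧
      (∀ v, ω v * conj (ω v) = 1) ∧ (∀ v, ∀ q ∈ Q, ω (v * q) = ω v * ω q) ∧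
      IsGeneralizedCharacter P fun v => ω v * n (Q ⊔ Subgroup.zpowers v))
    (Q : Subgroup P) (hQ : Q ≠ ⊥) : (Nat.card P : ℤ) ∣
      ∑ v, gsign n (Q ⊔ Subgroup.zpowers v) * n (Q ⊔ Subgroup.zpowers v) := by
  classical
  induction Q using WellFoundedGT.induction with
  | ind Q ih =>
  by_cases hT : Q = ⊤
  · simp [hT]
  have hF := extQ_of_dvd hc (F := fun R => gsign n R * n R) (Q₀ := Q)
    fun R hR => ih R hR (ne_bot_of_gt hR)
  obtain ⟨ω, h1, h2, h3, h4⟩ := hω Q hQ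
  have hne : ∀ v, Q ⊔ Subgroup.zpowers v ≠ ⊥ := fun v h => hQ (le_bot_iff.1 (h ▸ le_sup_left))
  have hε : ∀ R, (gsign n R : ℂ) * gsign n R = 1 := fun R => by
    rcases gsign_cases n R with h | h <;> simp [h]
  obtain ⟨l₁, hl₁⟩ : ∃ l : IrrCharacter P,
      classInner (fun v => ω v * n (Q ⊔ Subgroup.zpowers v)) l ≠ 0 := by
    by_contra! h
    have h5 := congrFun (h4.isClassFunction.eq_zero_of_forall_irr fun χ hχ => h ⟨χ, hχ⟩) 1
    have h6 := hn _ (hne 1)
    rcases mul_eq_zero.1 h5 with h7 | h7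
    · simpa [h7] using h2 1
    · rw [Int.cast_eq_zero.1 h7, isCoprime_zero_left, Int.isUnit_iff_natAbs_eq,
        Int.natAbs_natCast] at h6
      haveI := (Nat.card_eq_one_iff_unique.1 h6).1
      exact hT (Subsingleton.elim _ _)
  have h5 : ∀ q ∈ Q, (l₁ : P → ℂ) q = ω q := fun q hq => inner_shift hc (fun v => by
    rw [h3 v q hq, sup_zpowers_mul Q v hq]; ring) l₁ hl₁
  have h6 := h4.mul l₁.2.isGen.conj
  have h7 : ExtQ Q fun v => ω v * n (Q ⊔ Subgroup.zpowers v) * conj ((l₁ : P → ℂ) v) :=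
    ⟨_, h6, fun v q hq => by
      simp only [Pi.mul_apply]
      rw [h3 v q hq, sup_zpowers_mul Q v hq, irr_mul_of_comm hc, h5 q hq, map_mul]
      linear_combination (ω v * n (Q ⊔ Subgroup.zpowers v) * conj (l₁.1 v)) * h2 q,
      fun _ _ => rfl⟩
  have h8 : ExtQ Q fun v => ω v * conj ((l₁ : P → ℂ) v) * gsign n (Q ⊔ Subgroup.zpowers v) := by
    refine ExtQ.of_mul hc (x := fun v => (gsign n (Q ⊔ Subgroup.zpowers v) *
      n (Q ⊔ Subgroup.zpowers v)) ^ 2) ((hF.mul hF).congr fun v _ => by push_cast; ring)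
      ((hF.mul h7).congr fun v _ => ?_) (fun v _ => IsCoprime.pow_left (IsCoprime.mul_left ?_
        (hn _ (hne v)))) (fun v _ => ((h1 v).mul (isIntegral_conj
          (l₁.2.isGen.isIntegral v))).mul (isIntegral_algebraMap (R := ℤ))) hT
    · push_cast
      linear_combination (-(ω v * conj (l₁.1 v) * gsign n (Q ⊔ Subgroup.zpowers v) *
        (n (Q ⊔ Subgroup.zpowers v) : ℂ) ^ 2)) * hε (Q ⊔ Subgroup.zpowers v)
    · rcases gsign_cases n (Q ⊔ Subgroup.zpowers v) with h | h <;> rw [h]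
      · exact isCoprime_one_left
      · exact isCoprime_one_left.neg_left
  obtain ⟨l, hl, δ, hδ, h9⟩ := h8.exists_eq_irr hc (fun v _ => by
    rw [map_mul, map_mul, Complex.conj_conj, map_intCast]
    linear_combination (conj (l₁.1 v) * l₁.1 v * (gsign n (Q ⊔ Subgroup.zpowers v) : ℂ) ^ 2) * h2 v +
      (gsign n (Q ⊔ Subgroup.zpowers v) : ℂ) ^ 2 * irr_mul_conj_of_comm hc l₁ v +
      hε (Q ⊔ Subgroup.zpowers v)) hT
  set S := ∑ v ∈ univ.filter (· ∉ Q), gsign n (Q ⊔ Subgroup.zpowers v) *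
    n (Q ⊔ Subgroup.zpowers v) with hS
  have h10 : (Nat.card P : ℤ) ∣ δ * S + Nat.card Q * n Q := by
    obtain ⟨m, hm⟩ := h6.classInner_int l.2.isGen
    refine ⟨m, Int.cast_injective (α := ℂ) ?_⟩
    rw [Int.cast_mul, Int.cast_natCast, ← hm, card_mul_classInner, hS]
    push_cast
    rw [← sum_ite_mem, mul_sum, sum_filter, ← sum_add_distrib]
    refine sum_congr rfl fun v _ => ?_
    simp only [Pi.mul_apply]
    by_cases hv : v ∈ Q
    · rw [if_neg (not_not.2 hv), if_pos hv, sup_eq_left.2 (Subgroup.zpowers_le.2 hv), h5 v hv,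
        mem_perp.1 hl v hv, map_one]
      linear_combination (-(n Q : ℂ)) * h2 v
    · rw [if_pos hv, if_neg hv]
      linear_combination (-(δ * gsign n (Q ⊔ Subgroup.zpowers v) *
        (n (Q ⊔ Subgroup.zpowers v) : ℂ))) * irr_mul_conj_of_comm hc l v -
        (conj (l.1 v) * gsign n (Q ⊔ Subgroup.zpowers v) * (n (Q ⊔ Subgroup.zpowers v) : ℂ)) *
          h9 v hv + (ω v * n (Q ⊔ Subgroup.zpowers v) * conj (l₁.1 v) * conj (l.1 v)) *
          hε (Q ⊔ Subgroup.zpowers v)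
  have h11 : ∑ v, gsign n (Q ⊔ Subgroup.zpowers v) * n (Q ⊔ Subgroup.zpowers v) =
      S + Nat.card Q * (gsign n Q * n Q) := by
    rw [← sum_ite_mem, hS, sum_filter, ← sum_add_distrib]
    refine sum_congr rfl fun v _ => ?_
    by_cases hv : v ∈ Q
    · rw [if_neg (not_not.2 hv), if_pos hv, sup_eq_left.2 (Subgroup.zpowers_le.2 hv), zero_add]
    · rw [if_pos hv, if_neg hv, add_zero]
  rw [h11, gsign_eq n Q, ← hS]
  split_ifs with h12
  · rwa [one_mul]
  · rcases hδ with rfl | rfl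
    · exact absurd (by simpa using h10) h12
    · exact (dvd_neg.2 h10).trans (dvd_of_eq (by ring))

/-- Gluing of signs over the nontrivial subgroups of an abelian group. -/
theorem extQ_gsign {n : Subgroup P → ℤ} (hn : ∀ R, R ≠ ⊥ → IsCoprime (n R) (Nat.card P))
    (hω : ∀ Q : Subgroup P, Q ≠ ⊥ → ∃ ω : P → ℂ, (∀ v, IsIntegral ℤ (ω v)) ∧
      (∀ v, ω v * conj (ω v) = 1) ∧ (∀ v, ∀ q ∈ Q, ω (v * q) = ω v * ω q) ∧
      IsGeneralizedCharacter P fun v => ω v * n (Q ⊔ Subgroup.zpowers v)) :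
    ExtQ (⊥ : Subgroup P) fun v =>
      ((gsign n (Subgroup.zpowers v) * n (Subgroup.zpowers v) : ℤ) : ℂ) := by
  have h := extQ_of_dvd hc (F := fun R => gsign n R * n R) (Q₀ := ⊥)
    fun R hR => dvd_sum_gsign hc hn hω R hR.ne'
  simpa only [bot_sup_eq] using h

theorem extQ_card_mul (F : Subgroup P → ℤ) :
    ExtQ (⊥ : Subgroup P) fun v => (Nat.card P : ℂ) * F (Subgroup.zpowers v) := by
  have h := extQ_of_dvd hc (F := fun R => Nat.card P * F R) (Q₀ := ⊥)
    fun R _ => dvd_sum fun _ _ => dvd_mul_right _ _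
  simpa only [bot_sup_eq, Int.cast_mul, Int.cast_natCast] using h

end Cfsg.Agent.H6
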