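import Cfsg.Agent.H6.Fr2
import Cfsg.Agent.H6.Cyc4
import Cfsg.Agent.H7.Wat
import Cfsg.Agent.H7.Local5

/-!
# Blocks with a single Brauer character which is the restriction of every member
-/

set_option autoImplicit false
set_option linter.unusedSectionVars false
set_option linter.style.haveILetI false
set_option warn.classDefReducibility false

namespace Cfsg.Agent.H6

open MonoidAlgebra Cfsg Cfsg.Agent.H3 Cfsg.Agent.H4 Cfsg.Agent.H7
open Cfsg.Agent.H8 (SecData sec sub bspan bfin indBlocks msub)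
open scoped Pointwise ComplexConjugate

variable {M : Ideal AlgInt} [hMm : M.IsMaximal] {G : Type*} [Group G] [Fintype G] {p : ℕ}
  [Fact p.Prime]

theorem chiL_pReg_idem (hM : IsPModular p M) {f : G → ℂ} (hf : IsClassFunction G f) {E : ℂ[G]}
    (hE : E ∈ intAlg M G) (hE2 : IsIdempotentElem E) :
    chiL (pRegularPart p f) E = chiL f E := by
  have hp : p.Prime := Fact.out
  have hr := pRegularPart_isClassFunction (p := p) hf
  have h1 : ∑ g : G, ∑ y : G, E.coeff (g * y * g⁻¹) * (f y - pRegularPart p f y) = 0 := by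
    rw [Finset.sum_comm]
    refine Finset.sum_eq_zero fun y _ => ?_
    by_cases hy : p ∣ orderOf y
    · have := sum_coeff_idem_eq_zero hM hE hE2.eq (x := 1) (y := y)
        (by rw [← one_def, mul_one, one_mul]) (by simp [hp.ne_one]) hy
      simp only [inv_one, mul_one] at this
      rw [← Finset.sum_mul, this, zero_mul]
    · simp [pRegularPart_of_not_dvd f hy]
  have h2 : ∀ g : G, ∑ y : G, E.coeff (g * y * g⁻¹) * (f y - pRegularPart p f y) =
      chiL f E - chiL (pRegularPart p f) E := fun g => by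
    rw [chiL_apply, chiL_apply, ← Finset.sum_sub_distrib]
    refine Fintype.sum_equiv (MulAut.conj g).toEquiv _ _ fun y => ?_
    change _ = E.coeff (g * y * g⁻¹) * f (g * y * g⁻¹) -
      E.coeff (g * y * g⁻¹) * pRegularPart p f (g * y * g⁻¹)
    rw [hf, hr, mul_sub]
  simp only [h2, Finset.sum_const, nsmul_eq_mul, mul_eq_zero, Nat.cast_eq_zero,
    Finset.card_univ, Fintype.card_ne_zero, false_or] at h1
  exact (sub_eq_zero.1 h1).symm

variable (p) in
/-- all members agree on `p`-regular elements and their number is `N = p ^ d` -/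
structure Uni (b : Set (IrrCharacter G)) (N : ℕ) : Prop where
  eq : ∀ ψ ∈ b, ∀ ψ' ∈ b, pRegularPart p (ψ : G → ℂ) = pRegularPart p (ψ' : G → ℂ)
  card : Nat.card b = N
  defect : p ^ blockDefect p b = N

section uni
variable {b : Set (IrrCharacter G)} {N : ℕ}

theorem Uni.cast_ne_zero (h : Uni p b N) : (N : ℂ) ≠ 0 := by
  rw [← h.defect]; exact H8.pow_cast_ne_zero _

theorem Uni.apply_one (h : Uni p b N) {ψ ψ' : IrrCharacter G} (hψ : ψ ∈ b) (hψ' : ψ' ∈ b) :
    (ψ : G → ℂ) 1 = (ψ' : G → ℂ) 1 := by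
  have := congrFun (h.eq ψ hψ ψ' hψ') 1
  rwa [H8.pReg_one_apply Fact.out, H8.pReg_one_apply Fact.out] at this

theorem Uni.height (h : Uni p b N) {ψ : IrrCharacter G} (hψ : ψ ∈ b) :
    blockHeight p b (ψ : G → ℂ) = 0 := by
  obtain ⟨χ, hχ, h0⟩ := H8.exists_height_zero (p := p) ⟨ψ, hψ⟩
  have : charDegree (ψ : G → ℂ) = charDegree (χ : G → ℂ) := by
    apply Nat.cast_injective (R := ℂ)
    rw [H8.irr_coe_charDegree, H8.irr_coe_charDegree, h.apply_one hψ hχ]
  rwa [H8.blockHeight_eq, ← this, ← H8.blockHeight_eq] at h0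

theorem Uni.inner (hM : IsPModular p M) (hb : IsPBlock M b) (h : Uni p b N)
    {ψ ψ' : IrrCharacter G} (hψ : ψ ∈ b) (hψ' : ψ' ∈ b) :
    classInner (pRegularPart p (ψ : G → ℂ)) ψ' = (N : ℂ)⁻¹ := by
  have h1 : ∀ ξ ∈ b, classInner (pRegularPart p (ψ : G → ℂ)) ξ =
      classInner (pRegularPart p (ψ : G → ℂ)) ψ' := fun ξ hξ => by
    rw [← H8.classInner_pReg_pReg, h.eq ξ hξ ψ' hψ', H8.classInner_pReg_pReg]
  have h2 := congrFun (H8.pReg_eq_sum_block hM hb hψ) 1
  rw [H8.pReg_one_apply Fact.out, Finset.sum_apply, Finset.sum_congr rfl fun ξ hξ => by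
    rw [Pi.smul_apply, h1 ξ (H8.mem_bfin.1 hξ), h.apply_one (H8.mem_bfin.1 hξ) hψ],
    Finset.sum_const, H8.card_bfin, h.card, smul_eq_mul, nsmul_eq_mul, ← mul_assoc] at h2
  have h3 := mul_right_cancel₀ (H8.irr_one_ne_zero ψ) ((one_mul _).trans h2)
  exact eq_inv_of_mul_eq_one_right h3.symm

theorem Uni.sum_eq (hM : IsPModular p M) (hb : IsPBlock M b) (h : Uni p b N)
    {ψ : IrrCharacter G} (hψ : ψ ∈ b) :
    ∑ ξ ∈ bfin b, (ξ : G → ℂ) = (N : ℂ) • pRegularPart p (ψ : G → ℂ) := by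
  rw [H8.pReg_eq_sum_block hM hb hψ, Finset.smul_sum]
  exact Finset.sum_congr rfl fun ξ hξ => by
    rw [h.inner hM hb hψ (H8.mem_bfin.1 hξ), smul_smul, mul_inv_cancel₀ h.cast_ne_zero, one_smul]

theorem Uni.chiL_eq (hM : IsPModular p M) (h : Uni p b N) {ψ ψ' : IrrCharacter G} (hψ : ψ ∈ b)
    (hψ' : ψ' ∈ b) {y : ℂ[G]} (hy : y ∈ intAlg M G) (hi : IsIdempotentElem y) :
    chiL ψ y = chiL ψ' y := by
  rw [← chiL_pReg_idem hM ψ.2.isClassFunction hy hi, h.eq ψ hψ ψ' hψ',
    chiL_pReg_idem hM ψ'.2.isClassFunction hy hi]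

theorem Uni.blockRank (hM : IsPModular p M) (hb : IsPBlock M b) (h : Uni p b N) :
    blockRank p b = 1 := by
  apply Nat.cast_injective (R := ℂ)
  rw [H8.blockRank_eq_sum hM hb, Finset.sum_congr rfl fun ξ hξ =>
    h.inner hM hb (H8.mem_bfin.1 hξ) (H8.mem_bfin.1 hξ), Finset.sum_const, H8.card_bfin, h.card,
    nsmul_eq_mul, mul_inv_cancel₀ h.cast_ne_zero, Nat.cast_one]

theorem Uni.image {L : Type*} [Group L] [Fintype L] (φ : G ≃* L) (h : Uni p b N) :
    Uni p (irrMap φ '' b) N := by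
  refine ⟨?_, (card_image_irrMap φ b).trans h.card, ?_⟩
  · rintro _ ⟨ψ, hψ, rfl⟩ _ ⟨ψ', hψ', rfl⟩
    ext x
    have := congrFun (h.eq ψ hψ ψ' hψ') (φ.symm x)
    simpa only [H8.pReg_eq_ite, irrMap_apply, MulEquiv.orderOf_eq] using this
  · rw [← h.defect, H8.blockDefect_eq, H8.blockDefect_eq, Nat.card_congr φ.toEquiv]
    congr 2
    simp only [H8.bmin, Set.image_image]
    congr 2
    ext χ
    simp only [charDegree, irrMap_apply, map_one]

end uni

section dd
variable {u : G} {C : Subgroup G} [Fintype C] {b : Set (IrrCharacter C)} {N : ℕ}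

/-- the generalized decomposition number -/
noncomputable def dd (u : G) (b : Set (IrrCharacter C)) (θ : G → ℂ) : ℂ :=
  ∑ ξ ∈ bfin b, classInner (sec u C θ) ξ

theorem dd_add (θ η : G → ℂ) : dd u b (θ + η) = dd u b θ + dd u b η := by
  simp only [dd, H8.sec_add, classInner_add_left, Finset.sum_add_distrib]

theorem dd_smul (c : ℂ) (θ : G → ℂ) : dd u b (c • θ) = c * dd u b θ := by
  simp only [dd, H8.sec_smul, classInner_smul_left, Finset.mul_sum]

theorem dd_sum {ι : Type*} (s : Finset ι) (f : ι → G → ℂ) :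
    dd u b (∑ i ∈ s, f i) = ∑ i ∈ s, dd u b (f i) := by
  simp only [dd, H8.sec_sum, classInner_sum_left]
  exact Finset.sum_comm

theorem Uni.sub_eq (h : Uni p b N) {ψ : IrrCharacter C} (hψ : ψ ∈ b) (θ : G → ℂ) :
    sub p u b θ = dd u b θ • pRegularPart p (ψ : C → ℂ) := by
  rw [H8.sub_eq_sum, dd, Finset.sum_smul]
  exact Finset.sum_congr rfl fun ξ hξ => by rw [h.eq ξ (H8.mem_bfin.1 hξ) ψ hψ]

theorem Uni.inner_sub (hM : IsPModular p M) (hb : IsPBlock M b) (h : Uni p b N) (θ η : G → ℂ) :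
    classInner (sub p u b θ) (sub p u b η) = dd u b θ * conj (dd u b η) / N := by
  obtain ⟨ψ, hψ⟩ := H8.block_nonempty hb
  rw [h.sub_eq hψ, h.sub_eq hψ, classInner_smul_left, classInner_smul_right,
    H8.classInner_pReg_pReg, h.inner hM hb hψ hψ, div_eq_mul_inv, mul_assoc]

theorem Uni.msub_eq (hM : IsPModular p M) (hb : IsPBlock M b) (h : Uni p b N) (θ η : G → ℂ) :
    msub p u b θ η = dd u b θ * conj (dd u b η) := by
  rw [msub, h.inner_sub hM hb, h.defect, mul_div_cancel₀ _ h.cast_ne_zero]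

theorem dd_isIntegral (hs : SecData p u C) {θ : G → ℂ} (hθ : IsGeneralizedCharacter G θ) :
    IsIntegral ℤ (dd u b θ) :=
  IsIntegral.sum _ fun ξ _ =>
    H8.isIntegral_classInner_shift C.subtype (fun k => hs.commute k) hθ ξ.2.isGen

theorem Uni.chiL_push_mul (hM : IsPModular p M) (hs : SecData p u C) (h : Uni p b N)
    {ψ : IrrCharacter C} (hψ : ψ ∈ b) {θ : G → ℂ} (hθ : IsClassFunction G θ) {y : ℂ[C]}
    (hy : y ∈ intAlg M C) (hi : IsIdempotentElem y) (hb : fB b * y = y) :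
    chiL θ (push ℂ C.subtype y * single u 1) = dd u b θ * chiL ψ y := by
  have h1 : chiL θ (push ℂ C.subtype y * single u 1) = chiL (sec u C θ) y := by
    rw [eq_sum_smul_single y]
    simp only [map_sum, map_smul, push_single, Finset.sum_mul, smul_mul_assoc, single_mul_single,
      chiL_single, mul_one, one_mul, H8.sec_apply, Subgroup.coe_subtype, (hs.commute _).eq]
  have h2 := hs.isClassFunction_sec hθ
  rw [h1, ← hb, ← chiL_blockPart b h2, hb,
    ← chiL_pReg_idem hM (blockPart_isClassFunction b _) hy hi,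
    ← chiL_pReg_idem hM ψ.2.isClassFunction hy hi, ← chiL_smul_fun, ← h.sub_eq hψ, sub]

end dd

theorem fB_mul_eq_of_redA {b : Set (IrrCharacter G)} (hb : IsPBlock M b) {y : ℂ[G]}
    (hy : y ∈ intAlg M G) (hi : IsIdempotentElem y) (h : eB M b * redA M y = redA M y) :
    fB b * y = y := by
  have h1 := fB_mem_intAlg hb
  refine idem_eq_of_redA_eq (mul_mem h1 hy) hy
    (IsIdempotentElem.mul_of_commute (center_comm (fB_mem_center b) y) (fB_mul_self b) hi) hi
    ?_ (by rw [redA_mul h1 hy, redA_fB, h])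
  rw [Commute, SemiconjBy, mul_assoc, hi.eq, ← mul_assoc, ← center_comm (fB_mem_center b) y,
    mul_assoc, hi.eq]

attribute [local instance] H8.subFintype

section nil
variable (hM : IsPModular p M) {P : Subgroup G} {e : (Res M)[G]}
  (hab : P ≤ Subgroup.centralizer (P : Set G))

omit hMm [Fintype G] in
include hab in
theorem comm_of_le_centralizer (a b : P) : a * b = b * a :=
  Subtype.ext (hab b.2 a a.2)

include hM hab

theorem uni_of_nilB {B : Set (IrrCharacter G)} (hB : IsPBlock M B)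
    (S : MaxP p ⊤ ⊤ (eB M B) P e) (hn : NilB p ⊤ ⊤ (eB M B)) : Uni p B (Nat.card P) := by
  obtain ⟨χ, hχ, h0⟩ := H8.exists_height_zero (p := p) (H8.block_nonempty hB)
  obtain ⟨T, hT⟩ := S.exists_equiv_of_nilB hM hB hn hχ h0
  have hc := comm_of_le_centralizer hab
  have h1 : ∀ ψ ∈ B, pRegularPart p (ψ : G → ℂ) = pRegularPart p (χ : G → ℂ) := fun ψ hψ => by
    obtain ⟨η, hη⟩ := T.surjective ⟨ψ, hψ⟩
    have h2 := hT η
    rw [hη] at h2
    rw [h2, S.pReg_starP hM hB (S.stable_of_nilB hM hn η.2.isClassFunction)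
      (H8.mem_bspan_of_mem hχ), irr_one_of_comm hc, one_smul]
  exact ⟨fun ψ hψ ψ' hψ' => (h1 ψ hψ).trans (h1 ψ' hψ').symm,
    (Nat.card_congr T.symm).trans (card_irr_of_comm hc),
    (card_eq_pow_blockDefect hM hB S.isDef).symm⟩

omit hab in
theorem exists_pull {L : Subgroup G} {b : Set (IrrCharacter L)}
    (S : MaxP p L L (eb M L b) P e) : ∃ (P' : Subgroup L) (e' : (Res M)[L]),
      P'.map L.subtype = P ∧ push _ L.subtype e' = e ∧ MaxP p ⊤ ⊤ (eB M b) P' e' := by
  haveI := charP_res hM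
  have hφ := L.subtype_injective
  obtain ⟨P, rfl⟩ : ∃ P' : Subgroup L, P'.map L.subtype = P :=
    ⟨_, Subgroup.map_subgroupOf_eq_of_le S.isDef.le⟩
  have hC := CK_map hφ ⊤
  rw [map_subtype_top] at hC
  obtain ⟨e, -, rfl⟩ := exists_blk_push_eq hφ (hC P ▸ S.blk)
  exact ⟨P, e, rfl, rfl, maxP_of_push hφ (by rw [map_subtype_top]; exact S)⟩

theorem uni_of_central {L : Subgroup G} {b : Set (IrrCharacter L)} (hb : IsPBlock M b)
    (S : MaxP p L L (eb M L b) P e) (h : NS L P e ≤ Subgroup.centralizer (P : Set G)) :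
    Uni p b (Nat.card P) := by
  haveI := charP_res hM
  have hn := ((isNilpotentBlock_iff hM).1
    ((isNilpotentBlock_iff_eb hM).2 ⟨hb, S.nilB_of_central hab h⟩)).2
  obtain ⟨P, e, rfl, rfl, S'⟩ := exists_pull hM S
  rw [Subgroup.card_map_of_injective L.subtype_injective]
  exact uni_of_nilB hM (fun x hx => (mem_centralizer_map_iff L.subtype_injective).1
    (hab ⟨x, hx, rfl⟩)) hb S' hn

variable {B : Set (IrrCharacter G)} (S : MaxP p ⊤ ⊤ (eB M B) P e)
include S

theorem br_bsec {u : G} (hu : u ∈ P) : br P (eb M _ (bsec M p P e u)) * e = e := by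
  haveI := charP_res hM
  exact ((bsec_spec hM S.pair hu).2.nle S.pair
    ((S.le_CK hab hu).trans (CK_le_normalizer _ _))).br_absorb

theorem uni_bsec {u : G} (hu : u ∈ P)
    (h : ∀ g ∈ NS ⊤ P e, g * u * g⁻¹ = u → g ∈ Subgroup.centralizer (P : Set G)) :
    Uni p (bsec M p P e u) (Nat.card P) := by
  haveI := charP_res hM
  have hb := (bsec_spec hM S.pair hu).1
  have S' := S.local_up hab hu (by rw [CK_top_zpowers]; exact blk_eb hb) (br_bsec hM hab S hu)
  have h1 : NS (CK ⊤ (Subgroup.zpowers u)) P e ≤ Subgroup.centralizer (P : Set G) := fun g hg =>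
    h g ⟨hg.1, trivial, hg.2.2⟩ (mem_CK_zpowers.1 hg.2.1).1
  rw [CK_top_zpowers] at S' h1
  exact uni_of_central hM hab hb S' h1

end nil

variable (M) in
/-- `n` is the value of the members of the block of `L` with idempotent `g` at the lifts of `j` -/
def NV (L : Subgroup G) (g j : (Res M)[G]) (n : ℂ) : Prop :=
  ∀ b, IsPBlock M b → eb M L b = g → ∀ ψ ∈ b, ∀ y ∈ intAlg M L, IsIdempotentElem y →
    push (Res M) L.subtype (redA M y) = j → chiL ψ y = n

theorem NV.of_push {G' : Type*} [Group G'] [Fintype G'] {φ : G →* G'} (hφ : Function.Injective φ)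
    {L : Subgroup G} {g j : (Res M)[G]} {n : ℂ}
    (h : NV M (L.map φ) (push _ φ g) (push _ φ j) n) : NV M L g j n := by
  rintro b hb rfl ψ hψ y hy hi rfl
  let σ := L.equivMapOfInjective φ hφ
  have h1 : ∀ a : (Res M)[L], push _ (L.map φ).subtype (push _ σ.toMonoidHom a) =
      push _ φ (push _ L.subtype a) := fun a => by
    rw [push_push, push_push]; rfl
  rw [← h _ (isPBlock_image σ hb) (by rw [eb, eB_image, h1]; rfl) _ ⟨ψ, hψ, rfl⟩ _
    (push_mem_intAlg σ.toMonoidHom hy) (hi.map _) (by rw [redA_push _ hy, h1]), chiL_push]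
  congr 2
  ext x
  rw [irrMap_apply]
  exact congrArg _ (σ.symm_apply_apply x).symm

theorem idem_pull {k : Type*} [CommRing k] {L : Subgroup G} {j : k[G]} (hj : IsIdempotentElem j)
    (hs : Supp (L : Set G) j) : push k L.subtype (pull k L.subtype j) = j ∧
      IsIdempotentElem (pull k L.subtype j) := by
  have h1 := push_pull_of_supp L.subtype_injective (a := j) (by rwa [L.range_subtype])
  exact ⟨h1, push_injective L.subtype_injective (by rw [map_mul, h1, hj.eq])⟩

theorem exists_lift_supp {L H : Subgroup G} {j : (Res M)[G]} (hj : IsIdempotentElem j)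
    (hs : Supp (L : Set G) j) (hH : Invt H j) : ∃ y ∈ intAlg M L, IsIdempotentElem y ∧
      push _ L.subtype (redA M y) = j ∧ Invt (H.subgroupOf L) y := by
  obtain ⟨h1, h2⟩ := idem_pull hj hs
  obtain ⟨y, a1, a2, a3, a4⟩ := exists_idem_lift (K := ⊤) (H := H.subgroupOf L)
    ⟨supp_top _, (pull_mem_Fix L.subtype (K := ⊤) ⟨supp_top _, hH⟩).2⟩ h2
  exact ⟨y, a2, a3, by rw [a4, h1], a1.2⟩

theorem exists_NV (hM : IsPModular p M) {L : Subgroup G} {b : Set (IrrCharacter L)}
    (hb : IsPBlock M b) {N : ℕ} (hu : Uni p b N) {j : (Res M)[G]} (hj : IsIdempotentElem j)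
    (hs : Supp (L : Set G) j) : ∃ n : ℕ, NV M L (eb M L b) j n := by
  obtain ⟨y, h1, h2, h3, -⟩ := exists_lift_supp hj hs (invt_bot j)
  obtain ⟨ψ, hψ⟩ := H8.block_nonempty hb
  obtain ⟨n, hn⟩ := (isCharacter_chiL_mul ψ.2.isCharacter h2 (invt_bot y)).exists_degree
  refine ⟨n, fun b' hb' e1 ψ' hψ' y' h4 h5 h6 => ?_⟩
  obtain rfl := eb_injective hb' hb e1
  rw [hu.chiL_eq hM hψ' hψ h4 h5, ← hn]
  have := chiL_eq_of_br_eq hM ψ.2.isClassFunction h4 h1 h5 h2
    (isPPart_self hM.1 ⟨0, by simp⟩ : IsPPart p (1 : L) 1)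
    (by rw [Subgroup.zpowers_one_eq_bot]; exact invt_bot _)
    (by rw [Subgroup.zpowers_one_eq_bot]; exact invt_bot _)
    (by rw [push_injective L.subtype_injective (h6.trans h3.symm)])
  rwa [← one_def, mul_one] at this

section omega
variable (hM : IsPModular p M) {P : Subgroup G} {e : (Res M)[G]}
include hM

theorem chiL_mul_eq_dd {B : Set (IrrCharacter G)} (S : MaxP p ⊤ ⊤ (eB M B) P e) {v : G}
    (hv : v ∈ P) {N : ℕ} (hu : Uni p (bsec M p P e v) N) {x : ℂ[G]} (hx : x ∈ intAlg M G)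
    (hi : IsIdempotentElem x) (hxv : Invt (Subgroup.zpowers v) x) {n : ℂ}
    (hn : NV M (Subgroup.centralizer {v}) (eb M _ (bsec M p P e v))
      (br (Subgroup.zpowers v) (redA M x)) n)
    (ha : br (Subgroup.zpowers v) (redA M x) * eb M _ (bsec M p P e v) =
      br (Subgroup.zpowers v) (redA M x)) {θ : G → ℂ} (hθ : IsClassFunction G θ) :
    chiL θ (x * single v 1) = dd v (bsec M p P e v) θ * n := by
  haveI := charP_res hM
  have hb := (bsec_spec hM S.pair hv).1
  have hs : Supp (Subgroup.centralizer ({v} : Set G)) (br (Subgroup.zpowers v) (redA M x)) :=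
    centralizer_zpowers v ▸ supp_br _ _
  obtain ⟨y, h1, h2, h3, -⟩ := exists_lift_supp (br_idem p (isPGroup_zpowers hM.1
    (S.orderOf_eq hM hv)) hxv.redA (redA_idem hx hi)) hs (invt_bot _)
  obtain ⟨ψ, hψ⟩ := H8.block_nonempty hb
  have h4 : Supp (Subgroup.centralizer (Subgroup.zpowers v : Set G))
      (push ℂ (Subgroup.centralizer ({v} : Set G)).subtype y) := by
    rw [centralizer_zpowers]; exact supp_push_subtype _ _
  rw [← hn _ hb rfl ψ hψ y h1 h2 h3, ← hu.chiL_push_mul hM (S.secData hM hv) hψ hθ h1 h2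
    (fB_mul_eq_of_redA hb h1 h2 (push_injective (Subgroup.subtype_injective _) ?_))]
  · refine chiL_eq_of_br_eq hM hθ hx (push_mem_intAlg _ h1) hi (h2.map _)
      (isPPart_self hM.1 (S.orderOf_eq hM hv)) hxv h4.invt_of_centralizer ?_
    rw [redA_push _ h1, h3, br_br_of_le le_rfl]
  · rw [map_mul, h3]
    exact ((blk_eb hb).commute hs).eq.trans ha

theorem exists_omega (hab : P ≤ Subgroup.centralizer (P : Set G)) {L : Subgroup G}
    {f : Set (IrrCharacter L)} (hf : IsPBlock M f) (S : MaxP p L L (eb M L f) P e)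
    (hT : NS L P e ≤ Subgroup.centralizer (P : Set G)) {ψ : IrrCharacter L} (hψ : ψ ∈ f)
    {v : L} (hv : (v : G) ∈ P) {g : (Res M)[G]} (hg : Blk (CK L (Subgroup.zpowers (v : G))) g)
    (hge : br P g * e = e) {x : ℂ[L]} (hx : x ∈ intAlg M L) (hi : IsIdempotentElem x)
    (hxv : Invt (Subgroup.zpowers v) x) {n : ℂ} {j : (Res M)[G]}
    (hj : br (Subgroup.zpowers (v : G)) (push _ L.subtype (redA M x)) = j)
    (hn : NV M (CK L (Subgroup.zpowers (v : G))) g j n) (ha : j * g = j) :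
    ∃ d : ℂ, IsIntegral ℤ d ∧ d * conj d = 1 ∧ chiL ψ (x * single v 1) = d * n := by
  haveI := charP_res hM
  have hφ := L.subtype_injective
  have hn0 := ((isNilpotentBlock_iff hM).1
    ((isNilpotentBlock_iff_eb hM).2 ⟨hf, S.nilB_of_central hab hT⟩)).2
  have hu := uni_of_central hM hab hf S hT
  obtain ⟨P, e, rfl, rfl, S'⟩ := exists_pull hM S
  have hab' : P ≤ Subgroup.centralizer (P : Set L) := fun x hx =>
    (mem_centralizer_map_iff hφ).1 (hab ⟨x, hx, rfl⟩)
  replace hv : v ∈ P := by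
    obtain ⟨w, hw, h⟩ := hv
    rwa [← hφ h]
  have hu' := uni_bsec hM hab' S' hv fun g hg _ => (mem_centralizer_map_iff hφ).1 (hT (by
    have := (mem_NS_push hφ).2 hg
    rwa [map_subtype_top] at this))
  have hC := CK_map hφ ⊤
  rw [map_subtype_top] at hC
  have h2 := bsec_spec hM S'.pair hv
  have h3 : (Subgroup.zpowers v).map L.subtype = Subgroup.zpowers (v : G) :=
    MonoidHom.map_zpowers _ _
  have h4 : CK L (Subgroup.zpowers (v : G)) = (Subgroup.centralizer {v}).map L.subtype := by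
    rw [← h3, hC, CK_top_zpowers]
  have h5 : g = push _ L.subtype (eb M _ (bsec M p P e v)) := by
    refine Blk.eq_of_br_mul S.pair.isPGroup (S.le_CK hab (v := v) ⟨v, hv, rfl⟩) hg ?_ S.blk.ne_zero hge ?_
    · rw [h4]; exact (blk_push_iff hφ).2 (blk_eb h2.1)
    · rw [br_push hφ, ← map_mul, br_bsec hM hab' S' hv]
  rw [← h3, br_push hφ] at hj
  subst hj h5
  rw [h4] at hn
  refine ⟨_, dd_isIntegral (S'.secData hM hv) ψ.2.isGen, ?_, chiL_mul_eq_dd hM S' hv hu' hx hi hxv
    (hn.of_push hφ) (push_injective hφ (by rw [map_mul, ha])) ψ.2.isClassFunction⟩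
  rw [← hu'.msub_eq hM h2.1]
  exact S'.msub_eq_one hM hf hn0 hψ (hu.height hψ) ⟨v, hv⟩

end omega

end Cfsg.Agent.H6
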