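import Cfsg.Agent.H6.Fr3

/-!
# Signs making generalized decomposition numbers extend to generalized characters
-/

set_option autoImplicit false
set_option linter.unusedSectionVars false
set_option linter.style.haveILetI false
set_option warn.classDefReducibility false

namespace Cfsg.Agent.H6

open MonoidAlgebra Cfsg Cfsg.Agent.H3 Cfsg.Agent.H4 Cfsg.Agent.H7
open Cfsg.Agent.H8 (SecData sec sub bspan bfin indBlocks msub)
open scoped Pointwise ComplexConjugate

variable {M : Ideal AlgInt} [hMm : M.IsMaximal] {G : Type*} [Group G] [Fintype G] {p : ℕ}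
  [Fact p.Prime]

attribute [local instance] H8.subFintype

variable (M) in
/-- the reduction of a function as a linear form on the modular group algebra -/
noncomputable def redF (f : G → ℂ) : (Res M)[G] →ₗ[Res M] Res M :=
  ∑ g, redC M (f g) • lcoeff (Res M) g

theorem redF_single (f : G → ℂ) (g : G) : redF M f (single g 1) = redC M (f g) := by
  classical
  simp only [redF, LinearMap.sum_apply, LinearMap.smul_apply, lcoeff_apply, coeff_single',
    smul_eq_mul, mul_ite, mul_one, mul_zero, Finset.sum_ite_eq, Finset.mem_univ, if_true]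

theorem redC_chiL' {f : G → ℂ} (hf : ∀ g, f g ∈ locRing M) {a : ℂ[G]} (ha : a ∈ intAlg M G) :
    redC M (chiL f a) = redF M f (redA M a) :=
  (redC_chiL hf _ (fun g => (redF_single f g).symm) ha).2

theorem exists_idem_redC_ne (hM : IsPModular p M) {b : Set (IrrCharacter G)} (hb : IsPBlock M b)
    {ψ : IrrCharacter G} (hψ : ψ ∈ b) (h0 : blockHeight p b (ψ : G → ℂ) = 0) :
    ∃ y ∈ intAlg M G, IsIdempotentElem y ∧ redC M (chiL ψ y) ≠ 0 := by
  obtain ⟨s, hs⟩ := exists_isDefectClass hb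
  have h1 := H8.not_dvd_orderOf_of_defectClass hM hb hs
  by_contra hn
  push Not at hn
  refine H8.redC_ne_zero_of_defectClass hM hb hs hψ h0 ?_
  have h2 := (ψ.2.isClassFunction.restrict (Subgroup.zpowers s)).apply_eq_sum
    ⟨s, Subgroup.mem_zpowers s⟩
  have h3 : ∀ η : IrrCharacter (Subgroup.zpowers s),
      classInner (fun x : Subgroup.zpowers s => (ψ : G → ℂ) x) η ∈ locRing M := fun η => by
    obtain ⟨n, hn⟩ := (ψ.2.isGen.restrict _).classInner_int η.2.isGen
    rw [hn]; exact intCast_mem _ n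
  simp only at h2
  rw [h2, redC_sum _ fun η _ => mul_mem (h3 η) (H8.char_mem η.2.isGen _)]
  refine Finset.sum_eq_zero fun η _ => ?_
  obtain ⟨lam, hl⟩ := η.2.exists_linear_of_comm fun a b =>
    (IsCyclic.commGroup (α := Subgroup.zpowers s)).mul_comm a b
  have h4 := hn _ (linIdem_mem_intAlg hM _ (by rwa [Nat.card_zpowers]) lam) (linIdem_idem _ lam)
  have h5 := chiL_mul_linIdem _ lam ψ 1 1
  simp only [one_mul, mul_one, chiL_single] at h5
  rw [redC_mul (h3 η) (H8.char_mem η.2.isGen _), classInner_def, hl,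
    Finset.sum_congr rfl fun _ _ => mul_comm _ _, ← h5, h4, zero_mul]

theorem exists_source (hM : IsPModular p M) {P : Subgroup G} (hP : IsPGroup p P)
    {c : Set (IrrCharacter (Subgroup.centralizer (P : Set G)))} (hc : IsPBlock M c)
    {ψ : IrrCharacter (Subgroup.centralizer (P : Set G))} (hψ : ψ ∈ c)
    (h0 : blockHeight p c (ψ : _ → ℂ) = 0) :
    ∃ i, IsPrimIn (Fix (Res M) ⊤ P) i ∧ br P i * eb M _ c ≠ 0 ∧
      ∀ y ∈ intAlg M (Subgroup.centralizer (P : Set G)),
        push _ (Subgroup.subtype _) (redA M y) = br P i → redC M (chiL ψ y) ≠ 0 := by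
  haveI := charP_res hM
  have hφ := (Subgroup.centralizer (P : Set G)).subtype_injective
  have hψ' := fun g => H8.char_mem (M := M) ψ.2.isGen g
  obtain ⟨y, h1, h2, h3⟩ := exists_idem_redC_ne hM hc hψ h0
  have h4 := supp_push_subtype (Subgroup.centralizer (P : Set G)) (redA M y)
  have h5 : ∃ i, IsPrimIn (Fix (Res M) ⊤ P) i ∧
      redF M ψ (pull _ (Subgroup.centralizer (P : Set G)).subtype (br P i)) ≠ 0 := by
    by_contra hn
    push Not at hn
    have := idem_induction (Fix (Res M) ⊤ P)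
      (P := fun i => redF M ψ (pull _ (Subgroup.centralizer (P : Set G)).subtype (br P i)) = 0) (by simp) hn
      (fun a _ b _ _ _ _ _ ha hb => by simp only [map_add, ha, hb, add_zero])
      ⟨supp_top _, h4.invt_of_centralizer⟩ ((redA_idem h1 h2).map _)
    rw [h4.br_eq, pull_push hφ, ← redC_chiL' hψ' h1] at this
    exact h3 this
  obtain ⟨i, hi, h6⟩ := h5
  have h7 : ∀ y ∈ intAlg M (Subgroup.centralizer (P : Set G)),
      push _ (Subgroup.subtype _) (redA M y) = br P i → redC M (chiL ψ y) ≠ 0 := fun y hy h => by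
    rwa [redC_chiL' hψ' hy, ← pull_push hφ (redA M y), h]
  refine ⟨i, hi, fun h => ?_, h7⟩
  obtain ⟨z, a1, -, a3, -⟩ := exists_lift_supp (br_idem p hP hi.mem.2 hi.idem) (supp_br P i)
    (invt_bot _)
  refine h7 z a1 a3 ?_
  rw [← chiL_fB_mul_of_mem hψ, redC_chiL' hψ' (mul_mem (fB_mem_intAlg hc) a1),
    redA_mul (fB_mem_intAlg hc) a1, redA_fB, push_injective hφ (a₁ := eB M c * redA M z)
      (a₂ := 0) (by
        rw [map_mul, a3, map_zero]
        exact ((blk_eb hc).commute (supp_br P i)).eq.trans h), map_zero]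

theorem redC_ne_zero_of_mul_conj {d : ℂ} (hd : IsIntegral ℤ d) (h : d * conj d = 1) :
    redC M d ≠ 0 := fun h0 => by
  have h1 := congrArg (redC M) h
  have h2 : IsIntegral ℤ (conj d) := hd.map (starRingEnd ℂ).toIntAlgHom
  rw [redC_mul (mem_locRing_of_isIntegral hd) (mem_locRing_of_isIntegral h2), h0, zero_mul,
    redC_one] at h1
  exact zero_ne_one h1

omit [Fintype G] in
theorem redC_gen_eq (hM : IsPModular p M) [Finite G] (hG : IsPGroup p G) {η : G → ℂ}
    (hη : IsGeneralizedCharacter G η) (v : G) : redC M (η v) = redC M (η 1) := by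
  obtain ⟨k, hk⟩ := hG v
  rw [← H8.redC_gen_mul hM hη (Commute.one_right v) hk, mul_one]

theorem isCoprime_of_res_ne (hM : IsPModular p M) {P : Type*} [Group P] [Finite P]
    (hP : IsPGroup p P) {n : ℤ} (h : (n : Res M) ≠ 0) : IsCoprime n (Nat.card P) := by
  obtain ⟨k, hk⟩ := hP.exists_card_eq
  rw [hk, Nat.cast_pow]
  refine IsCoprime.pow_right (IsCoprime.symm ?_)
  rw [(Nat.prime_iff_prime_int.1 hM.1).irreducible.coprime_iff_not_dvd]
  exact fun hd => h ((intCast_res_eq_zero_iff hM n).2 hd)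

variable (hM : IsPModular p M) {P : Subgroup G} {e : (Res M)[G]} {B : Set (IrrCharacter G)}
  (S : MaxP p ⊤ ⊤ (eB M B) P e) (hab : P ≤ Subgroup.centralizer (P : Set G))
  (hfree : ∀ g ∈ NS ⊤ P e, ∀ x ∈ P, x ≠ 1 → g * x * g⁻¹ = x →
    g ∈ Subgroup.centralizer (P : Set G))
include hM S hab hfree

theorem uni_bsec' {u : G} (hu : u ∈ P) (h1 : u ≠ 1) : Uni p (bsec M p P e u) (Nat.card P) :=
  uni_bsec hM hab S hu fun g hg => hfree g hg u hu h1

theorem exists_sign0 : ∃ ε : P → ℤ, (∀ u, ε u = 1 ∨ ε u = -1) ∧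
    ∀ χ, IsGeneralizedCharacter G χ →
      ExtQ ⊥ fun u : P => ε u * dd (u : G) (bsec M p P e u) χ := by
  haveI := charP_res hM
  have hP := S.pair.isPGroup
  have hc := comm_of_le_centralizer hab
  have hle : ∀ R : Subgroup P, P ≤ Subgroup.centralizer ((R.map P.subtype : Subgroup G) : Set G) :=
    fun R => hab.trans (Subgroup.centralizer_le (Subgroup.map_subtype_le R))
  have h1 : ∀ R : Subgroup P, ∃ f : Set (IrrCharacter
      (Subgroup.centralizer ((R.map P.subtype : Subgroup G) : Set G))), IsPBlock M f ∧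
      PLe p ⊤ (R.map P.subtype) (eb M _ f) P e := fun R => by
    obtain ⟨g, hg⟩ := exists_ple S.pair (Subgroup.map_subtype_le R)
    obtain ⟨f, hf, rfl⟩ := exists_eb_eq (CK_top (R.map P.subtype) ▸ (hg.isPair S.pair).blk)
    exact ⟨f, hf, hg⟩
  choose f hf hfe using h1
  have hbr : ∀ R, br P (eb M _ (f R)) * e = e := fun R =>
    ((hfe R).nle S.pair ((hle R).trans (Subgroup.centralizer_le_normalizer _))).br_absorb
  have hS : ∀ R, MaxP p _ _ (eb M _ (f R)) P e := fun R => by
    have := S.local (hfe R) le_rfl (((hfe R).isPair S.pair).CK_le_NS le_rfl)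
      (le_inf (hle R) le_top)
    rwa [CK_top] at this
  have hT : ∀ R : Subgroup P, R ≠ ⊥ → NS (Subgroup.centralizer
      ((R.map P.subtype : Subgroup G) : Set G)) P e ≤ Subgroup.centralizer (P : Set G) := by
    intro R hR g hg
    obtain ⟨x, hx, h1⟩ := (Subgroup.bot_or_exists_ne_one R).resolve_left hR
    exact hfree g ⟨hg.1, trivial, hg.2.2⟩ x x.2 (fun h => h1 (Subtype.ext h))
      (mem_centralizer_iff_conj.1 hg.2.1 _ ⟨x, hx, rfl⟩)
  have hU := fun R hR => uni_of_central hM hab (hf R) (hS R) (hT R hR)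
  by_cases hP1 : (⊤ : Subgroup P) = ⊥
  · exact ⟨fun _ => 1, fun _ => Or.inl rfl, fun χ _ => (extQ_int ⊥ 0).congr fun v hv =>
      absurd (hP1 ▸ Subgroup.mem_top v) hv⟩
  obtain ⟨c, hc1, rfl⟩ := exists_eb_eq (CK_top P ▸ S.blk)
  obtain ⟨ψ₀, hψ₀, h0⟩ := H8.exists_height_zero (p := p) (H8.block_nonempty hc1)
  obtain ⟨i, hi, hi1, hi2⟩ := exists_source hM hP hc1 hψ₀ h0
  have hi3 : ∀ R : Subgroup P, IsIdempotentElem (br (R.map P.subtype) i) := fun R =>
    br_idem p (hP.to_le (Subgroup.map_subtype_le R)) (hi.mem.2.mono (Subgroup.map_subtype_le R))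
      hi.idem
  have hi4 := fun R => (hfe R).ble S.pair i hi hi1
  have h2 : ∀ R : Subgroup P, ∃ n : ℕ, R ≠ ⊥ →
      NV M _ (eb M _ (f R)) (br (R.map P.subtype) i) n := fun R => by
    by_cases hR : R = ⊥
    · exact ⟨0, fun h => absurd hR h⟩
    · obtain ⟨n, hn⟩ := exists_NV hM (hf R) (hU R hR) (hi3 R) (supp_br _ i)
      exact ⟨n, fun _ => hn⟩
  choose n hn using h2
  have key : ∀ Q : Subgroup P, Q ≠ ⊥ → ∃ η d : P → ℂ, IsGeneralizedCharacter P η ∧
      (∀ v, IsIntegral ℤ (d v) ∧ d v * conj (d v) = 1 ∧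
        η v = d v * n (Q ⊔ Subgroup.zpowers v)) ∧ η 1 = n Q ∧
      ∀ q ∈ Q, ∃ a, ∀ v, η (v * q) = a * η v := fun Q hQ => by
    obtain ⟨ψ, hψ⟩ := H8.block_nonempty (hf Q)
    obtain ⟨x, a1, a2, a3, a4⟩ := exists_lift_supp (hi3 Q) (supp_br _ i)
      (hi.mem.2.br ((hle Q).trans (Subgroup.centralizer_le_normalizer _)))
    let ι : P →* Subgroup.centralizer ((Q.map P.subtype : Subgroup G) : Set G) :=
      Subgroup.inclusion (hle Q)
    have h3 : ∀ v : P, ∃ d : ℂ, IsIntegral ℤ d ∧ d * conj d = 1 ∧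
        chiL ψ (x * single (ι v) 1) = d * n (Q ⊔ Subgroup.zpowers v) := fun v => by
      have h4 : (Q ⊔ Subgroup.zpowers v).map P.subtype =
          Subgroup.zpowers (ι v : G) ⊔ Q.map P.subtype := by
        rw [Subgroup.map_sup, MonoidHom.map_zpowers, sup_comm]; rfl
      have h5 : CK (Subgroup.centralizer ((Q.map P.subtype : Subgroup G) : Set G))
          (Subgroup.zpowers (ι v : G)) = Subgroup.centralizer
            (((Q ⊔ Subgroup.zpowers v).map P.subtype : Subgroup G) : Set G) := by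
        rw [h4, centralizer_sup]
      refine exists_omega hM hab (hf Q) (hS Q) (hT Q hQ) hψ v.2 (by rw [h5]; exact blk_eb (hf _)) (hbr _) a1 a2
        (a4.mono (Subgroup.zpowers_le.2 v.2)) (by rw [a3, br_br, ← h4])
        (by rw [h5]; exact hn _ fun h => hQ (eq_bot_mono le_sup_left h)) (hi4 _)
    choose d hd using h3
    refine ⟨fun v => chiL ψ (x * single (ι v) 1), d, (isGen_chiL_mul ψ.2.isGen a2 a4).comp
      (ι.codRestrict (P.subgroupOf _) fun v => v.2), hd, ?_, fun q hq => ?_⟩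
    · simp only [map_one]
      rw [← one_def, mul_one]
      exact hn Q hQ _ (hf Q) rfl ψ hψ x a1 a2 a3
    · have h4 : single (ι q) (1 : ℂ) ∈ Subalgebra.center ℂ _ :=
        mem_center_iff_single.2 fun h => by
          rw [single_mul_single, single_mul_single]
          exact congrArg (single · _) (Subtype.ext (h.2 _ ⟨q, hq, rfl⟩).symm)
      refine ⟨omega ψ (single (ι q) 1), fun v => ?_⟩
      rw [← chiL_center_mul ψ.2 h4, center_comm h4, mul_assoc, single_mul_single, ← map_mul ι,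
        mul_one]
  have hn0 : ∀ R, R ≠ ⊥ → (n R : Res M) ≠ 0 := fun R => by
    induction R using WellFoundedGT.induction with
    | ind R ih =>
    intro hR
    by_cases hRt : R = ⊤
    · subst hRt
      obtain ⟨y, a1, a2, a3, -⟩ := exists_lift_supp (br_idem p hP hi.mem.2 hi.idem) (supp_br P i)
        (invt_bot _)
      have h3 := hn ⊤ hR
      have h4 := hfe ⊤
      revert h3 h4
      generalize eb M _ (f ⊤) = g
      rw [map_subtype_top]
      intro h3 h4
      rw [← redC_natCast, ← h3 c hc1 (h4.eq_of_eq S.pair).symm ψ₀ hψ₀ y a1 a2 a3]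
      exact hi2 y a1 a3
    · obtain ⟨v, hv⟩ : ∃ v, v ∉ R := by
        by_contra h
        exact hRt (eq_top_iff.2 fun v _ => not_not.1 fun hv => h ⟨v, hv⟩)
      obtain ⟨η, d, h3, h4, h5, -⟩ := key R hR
      obtain ⟨h6, h7, h8⟩ := h4 v
      have h9 := lt_sup_zpowers hv
      rw [← redC_natCast, ← h5, ← redC_gen_eq hM hP h3 v, h8,
        redC_mul (mem_locRing_of_isIntegral h6) (natCast_mem _ _), redC_natCast]
      exact mul_ne_zero (redC_ne_zero_of_mul_conj h6 h7) (ih _ h9 (ne_bot_of_gt h9))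
  have hn1 : ∀ R, R ≠ ⊥ → IsCoprime (n R : ℤ) (Nat.card P) := fun R hR =>
    isCoprime_of_res_ne hM hP (by rw [Int.cast_natCast]; exact hn0 R hR)
  have hn2 : ∀ R, R ≠ ⊥ → (n R : ℂ) ≠ 0 := fun R hR =>
    Nat.cast_ne_zero.2 fun h => hn0 R hR (by rw [h, Nat.cast_zero])
  have hg := extQ_gsign hc (n := fun R => n R) hn1 fun Q hQ => by
    obtain ⟨η, d, h3, h4, h5, h6⟩ := key Q hQ
    refine ⟨d, fun v => (h4 v).1, fun v => (h4 v).2.1, fun v q hq => ?_, ?_⟩
    · obtain ⟨a, ha⟩ := h6 q hq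
      have h7 := ha 1
      have h8 := ha v
      rw [one_mul, (h4 q).2.2, h5, sup_eq_left.2 (Subgroup.zpowers_le.2 hq),
        mul_left_inj' (hn2 Q hQ)] at h7
      rw [(h4 _).2.2, (h4 _).2.2, sup_zpowers_mul Q v hq, ← mul_assoc,
        mul_left_inj' (hn2 _ fun h => hQ (eq_bot_mono le_sup_left h))] at h8
      rw [h8, h7, mul_comm]
    · convert h3 using 2 with v
      rw [(h4 v).2.2, Int.cast_natCast]
  refine ⟨fun u => gsign (fun R => n R) (Subgroup.zpowers u), fun u => gsign_cases _ _,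
    fun χ hχ => ?_⟩
  obtain ⟨x, a1, a2, a3, a4⟩ := exists_idem_lift hi.mem hi.idem
  have hz : ∀ v ∉ (⊥ : Subgroup P), Subgroup.zpowers v ≠ ⊥ := fun v hv h =>
    hv (h ▸ Subgroup.mem_zpowers v)
  have h3 : ExtQ ⊥ fun u : P => dd (u : G) (bsec M p P (eb M _ c) u) χ *
      n (Subgroup.zpowers u) := by
    refine ⟨_, isGen_chiL_mul hχ a3 a1.2, fun v q hq => by rw [Subgroup.mem_bot.1 hq, mul_one],
      fun v hv => ?_⟩
    have h4 := hn _ (hz v hv)
    have h5 := hfe (Subgroup.zpowers v)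
    have h6 := hi4 (Subgroup.zpowers v)
    revert h4 h5 h6
    generalize eb M _ (f (Subgroup.zpowers v)) = g
    rw [MonoidHom.map_zpowers, Subgroup.coe_subtype, centralizer_zpowers]
    intro h4 h5 h6
    obtain rfl := eb_bsec_eq hM S.pair h5
    exact chiL_mul_eq_dd hM S v.2 (uni_bsec' hM S hab hfree v.2 fun h => hv (Subtype.ext h)) a2 a3
      (a1.2.mono (Subgroup.zpowers_le.2 v.2)) (a4 ▸ h4) (a4 ▸ h6) hχ.isClassFunction
  refine ExtQ.of_mul hc (x := fun v => (gsign (fun R => n R) (Subgroup.zpowers v) *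
    n (Subgroup.zpowers v)) ^ 2) ((hg.mul hg).congr fun v _ => by push_cast; ring)
    ((hg.mul h3).congr fun v _ => ?_) (fun v hv => ?_) (fun v _ => ?_) (Ne.symm hP1)
  · rcases gsign_cases (fun R => n R) (Subgroup.zpowers v) with h | h <;> simp only [h] <;>
      push_cast <;> ring
  · refine IsCoprime.pow_left (IsCoprime.mul_left ?_ (hn1 _ (hz v hv)))
    rcases gsign_cases (fun R => n R) (Subgroup.zpowers v) with h | h <;> rw [h]
    exacts [isCoprime_one_left, isCoprime_one_left.neg_left]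
  · exact (isIntegral_algebraMap (R := ℤ) (A := ℂ)).mul (dd_isIntegral (S.secData hM v.2) hχ)

end Cfsg.Agent.H6
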