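import Cfsg.Agent.H6.Fr4

/-!
# Stable signs; column data for a free action on an abelian group
-/

set_option autoImplicit false
set_option linter.unusedSectionVars false
set_option linter.style.haveILetI false
set_option warn.classDefReducibility false

namespace Cfsg.Agent.H6

open Finset Cfsg Cfsg.Agent.H4
open Cfsg.Agent.H7 (irrMap irrMap_apply)
open scoped ComplexConjugate

section unit
variable {M : Ideal AlgInt} [hMm : M.IsMaximal] {p : ℕ} {P : Type*} [Group P] [Fintype P]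

theorem extQ_of_isGen {η : P → ℂ} (h : IsGeneralizedCharacter P η) : ExtQ ⊥ η :=
  ⟨η, h, fun v q hq => by rw [Subgroup.mem_bot.1 hq, mul_one], fun _ _ => rfl⟩

variable (hM : IsPModular p M) (hP : IsPGroup p P) (hc : ∀ a b : P, a * b = b * a)
include hM hP hc

theorem ExtQ.of_mul_unit {x f : P → ℂ} (hx : ExtQ ⊥ x) (h : ExtQ ⊥ fun v => x v * f v)
    (hu : ∀ v ≠ 1, redC M (x v) ≠ 0) (hf : ∀ v ≠ 1, IsIntegral ℤ (f v)) : ExtQ ⊥ f := by
  classical
  haveI : Fact p.Prime := ⟨hM.1⟩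
  by_cases hP1 : (⊥ : Subgroup P) = ⊤
  · exact (extQ_int ⊥ 0).congr fun v hv => absurd (hP1 ▸ Subgroup.mem_top v) hv
  have : NeZero (Nat.card P) := ⟨Nat.card_pos.ne'⟩
  obtain ⟨η, h1, -, h3⟩ := hx
  have h4 : ∀ v : P, ∃ z : ℤ, ∏ u : (ZMod (Nat.card P))ˣ, η (v ^ (u : ZMod (Nat.card P)).val) = z :=
    fun g => exists_int_prod_pow η g pow_card_eq_one' (h1.isIntegral _)
      (fun σ m hσ k => h1.map_apply_eq_pow hσ (by
        rw [← pow_mul, mul_comm, pow_mul, pow_card_eq_one', one_pow]))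
  choose z hz using h4
  have h5 : ∀ k : ℕ, ExtQ ⊥ fun v => η (v ^ k) := fun k => extQ_of_isGen
    (h1.comp (MonoidHom.mk' (fun v => v ^ k) fun a b => Commute.mul_pow (hc a b) k))
  refine ExtQ.of_mul hc (x := z) ((extQ_prod _ _ fun u _ => h5 _).congr fun v _ => hz v)
    ((h.mul (extQ_prod (univ.erase (1 : (ZMod (Nat.card P))ˣ)) _ fun u _ =>
      h5 (u : ZMod (Nat.card P)).val)).congr fun v hv => ?_) (fun v hv => ?_) hf hP1
  · rw [← hz, ← mul_prod_erase _ _ (mem_univ 1), Units.val_one, ZMod.val_one_eq_one_mod,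
      pow_mod_natCard, pow_one, h3 v hv]
    ring
  · refine isCoprime_of_res_ne hM hP ?_
    rw [← redC_intCast, ← hz, redC_prod _ fun _ _ => H8.char_mem h1 _]
    exact prod_ne_zero_iff.2 fun u _ => by
      rw [redC_gen_eq hM hP h1, ← redC_gen_eq hM hP h1 v, h3 v hv]
      exact hu v hv

theorem exists_stable_sign (A : Subgroup (MulAut P)) (hA : ¬ p ∣ Nat.card A) {ι : Type*}
    (d : ι → P → ℂ) (d₀ : P → ℂ) (hd₀ : ∀ α ∈ A, ∀ v, d₀ (α v) = d₀ v)
    (h0 : ∀ v ≠ 1, redC M (d₀ v * conj (d₀ v)) ≠ 0) (hi : ∀ v, IsIntegral ℤ (d₀ v)) {ε : P → ℤ}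
    (hε : ∀ v, ε v = 1 ∨ ε v = -1) (h₀ : ExtQ ⊥ fun v => ε v * d₀ v)
    (h : ∀ i, ExtQ ⊥ fun v => ε v * d i v) : ∃ ε' : P → ℤ, (∀ v, ε' v = 1 ∨ ε' v = -1) ∧
      (∀ α ∈ A, ∀ v ≠ 1, ε' (α v) = ε' v) ∧ ∀ i, ExtQ ⊥ fun v => ε' v * d i v := by
  classical
  haveI : Fact p.Prime := ⟨hM.1⟩
  haveI := charP_res hM
  have hsq : ∀ v, (ε v : ℂ) * ε v = 1 := fun v => by rcases hε v with h | h <;> simp [h]
  by_cases hp : p = 2
  · haveI := Fintype.ofFinite A
    have h1 : ∀ α : A, ExtQ ⊥ fun v => ((ε v * ε (α.1 v) : ℤ) : ℂ) := fun α => by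
      refine ExtQ.of_mul_unit hM hP hc (x := fun v => d₀ v * conj (d₀ v))
        ((h₀.mul h₀.conj).congr fun v _ => ?_) ((h₀.mul (h₀.comp α.1).conj).congr fun v _ => ?_) h0
        fun v _ => isIntegral_algebraMap (R := ℤ) (A := ℂ)
      · simp only [map_mul, map_intCast]
        linear_combination d₀ v * conj (d₀ v) * hsq v
      · simp only [map_mul, map_intCast, hd₀ α.1 α.2, Int.cast_mul]
        ring
    refine ⟨fun v => ∏ α : A, ε (α.1 v), fun v => prod_induction _ (fun z : ℤ => z = 1 ∨ z = -1)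
      (by rintro a b (rfl | rfl) (rfl | rfl) <;> simp) (Or.inl rfl) fun α _ => hε _,
      fun β hβ v _ => Fintype.prod_equiv (Equiv.mulRight (⟨β, hβ⟩ : A)) _ _ fun α => rfl,
      fun i => ((extQ_prod univ _ fun α _ => h1 α).mul (h i)).congr fun v _ => ?_⟩
    obtain ⟨k, hk⟩ : Odd (Nat.card A) := Nat.not_even_iff_odd.1 fun h => hA (hp ▸ h.two_dvd)
    have h2 : (ε v : ℂ) ^ Nat.card A = ε v := by
      rw [hk, pow_succ, pow_mul, sq, hsq, one_pow, one_mul]
    simp only [Int.cast_mul, prod_mul_distrib, prod_const, card_univ, ← Nat.card_eq_fintype_card,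
      h2, Int.cast_prod]
    linear_combination (∏ α : A, (ε (α.1 v) : ℂ)) * d i v * hsq v
  · refine ⟨ε, hε, fun α hα v hv => ?_, h⟩
    obtain ⟨η, h1, -, h3⟩ := h₀
    have h4 := (redC_gen_eq hM hP h1 v).trans (redC_gen_eq hM hP h1 (α v)).symm
    have h5 := mem_locRing_of_isIntegral (M := M) (hi v)
    have h6 : IsIntegral ℤ (conj (d₀ v)) := (hi v).map (starRingEnd ℂ).toIntAlgHom
    have h7 := h0 v hv
    rw [redC_mul h5 (mem_locRing_of_isIntegral h6)] at h7
    rw [h3 v hv, h3 (α v) (by simpa using hv)] at h4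
    simp only at h4
    rw [hd₀ α hα, redC_mul (intCast_mem _ _) h5,
      redC_mul (intCast_mem _ _) h5, mul_left_inj' (left_ne_zero_of_mul h7), redC_intCast,
      redC_intCast, ← sub_eq_zero, ← Int.cast_sub, intCast_res_eq_zero_iff hM] at h4
    have h8 : ¬ (p : ℤ) ∣ 2 := fun h => hp ((Nat.prime_dvd_prime_iff_eq hM.1 Nat.prime_two).1
      (by exact_mod_cast h))
    rcases hε v with h | h <;> rcases hε (α v) with h' | h' <;> rw [h, h'] at h4 ⊢
    · exact (h8 (by simpa using h4)).elim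
    · exact (h8 (by simpa using h4)).elim

end unit

variable {P : Type*} [Group P] [Fintype P]

variable (P) in
/-- the nontrivial irreducible characters -/
def NT : Type _ := {l : IrrCharacter P // l ≠ irrOne P}

noncomputable instance : Fintype (NT P) := by
  classical
  exact Subtype.fintype _

instance : MulAction (MulAut P) (NT P) where
  smul α l := ⟨irrMap α l.1, fun h => l.2 ((irrMap α).injective h)⟩
  one_smul _ := rfl
  mul_smul _ _ _ := rfl

theorem nt_smul_apply (α : MulAut P) (l : NT P) (v : P) :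
    ((α • l).1 : P → ℂ) v = (l.1 : P → ℂ) (α⁻¹ v) := rfl

variable (A : Subgroup (MulAut P))

/-- the orbits on the nontrivial irreducible characters -/
def Orb : Type _ := MulAction.orbitRel.Quotient A (NT P)

noncomputable instance : Fintype (Orb A) :=
  @Fintype.ofFinite _ (inferInstanceAs (Finite (Quotient _)))

noncomputable instance instFintypeAutSub : Fintype A := Fintype.ofFinite A

variable {A}

/-- a representative of an orbit -/
noncomputable def Orb.rep (i : Orb A) : NT P := Quotient.out i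

/-- the sum of the characters in an orbit -/
noncomputable def Orb.osum (i : Orb A) (v : P) : ℂ := ∑ α : A, (i.rep.1 : P → ℂ) (α.1 v)

theorem Orb.isGen_osum (i : Orb A) : IsGeneralizedCharacter P i.osum := by
  convert isGen_sum univ (fun (α : A) v => (i.rep.1 : P → ℂ) (α.1 v))
    fun α _ => i.rep.1.2.isGen.comp α.1.toMonoidHom using 1
  ext v
  rw [Finset.sum_apply, Orb.osum]

theorem Orb.eq_of_smul {i j : Orb A} {α : A} (h : α • i.rep = j.rep) : j = i := by
  rw [← Quotient.out_eq i, ← Quotient.out_eq j]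
  exact Quotient.sound ⟨α, h⟩

section free
variable (hc : ∀ a b : P, a * b = b * a) (hA : ∀ α ∈ A, ∀ v ≠ 1, α v = v → α = 1)
include hc hA

theorem Orb.osum_one (i : Orb A) : i.osum 1 = Nat.card A := by
  simp [Orb.osum, irr_one_of_comm hc]

theorem eq_one_of_smul_eq {α : A} {l : NT P} (h : α • l = l) : α = 1 := by
  by_contra hα
  have h1 : Function.Injective fun v => α.1⁻¹ v * v⁻¹ := fun v w hvw => by
    by_contra hne
    refine hα (inv_eq_one.1 (Subtype.ext (hA _ α⁻¹.2 (v * w⁻¹)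
      (fun h => hne (mul_inv_eq_one.1 h)) ?_)))
    change α.1⁻¹ (v * w⁻¹) = _
    simp only at hvw
    rw [map_mul, map_inv, mul_inv_eq_iff_eq_mul.1 hvw, mul_assoc (α.1⁻¹ w), hc (α.1⁻¹ w),
      mul_inv_cancel_right, hc]
  refine l.2 (Subtype.ext (funext fun w => ?_))
  obtain ⟨v, rfl⟩ := Finite.surjective_of_injective h1 w
  have h2 : (l.1 : P → ℂ) (α.1⁻¹ v) = (l.1 : P → ℂ) v :=
    congrArg (fun l : NT P => (l.1 : P → ℂ) v) h
  simp only
  rw [irr_mul_of_comm hc, h2, ← irr_mul_of_comm hc, mul_inv_cancel, irr_one_of_comm hc]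
  rfl

theorem bijective_smul_rep : Function.Bijective fun a : Orb A × A => a.2 • a.1.rep := by
  refine ⟨fun ⟨i, α⟩ ⟨j, β⟩ h => ?_, fun l => ?_⟩
  · simp only at h
    have h1 : (β⁻¹ * α) • i.rep = j.rep := by rw [mul_smul, h, inv_smul_smul]
    obtain rfl := Orb.eq_of_smul h1
    rw [inv_mul_eq_one.1 (eq_one_of_smul_eq hc hA h1)]
  · obtain ⟨α, h⟩ := Quotient.exact (Quotient.out_eq (Quotient.mk (MulAction.orbitRel A _) l)).symm
    exact ⟨(Quotient.mk _ l, α), h⟩

theorem sum_nt {R : Type*} [AddCommMonoid R] (F : NT P → R) :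
    ∑ l, F l = ∑ i : Orb A, ∑ α : A, F (α • i.rep) := by
  rw [← Fintype.sum_prod_type']
  exact (Fintype.sum_bijective _ (bijective_smul_rep hc hA) _ _ fun _ => rfl).symm

theorem card_orb_mul : Fintype.card (Orb A) * Nat.card A + 1 = Nat.card P := by
  classical
  have h1 := sum_nt hc hA fun _ => 1
  simp only [sum_const, card_univ, smul_eq_mul, mul_one] at h1
  rw [Nat.card_eq_fintype_card, ← h1, ← card_irr_of_comm hc, Nat.card_eq_fintype_card,
    ← Fintype.card_option]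
  exact Fintype.card_congr (Equiv.optionSubtypeNe (irrOne P))

theorem card_orb_eq : Fintype.card (Orb A) = (Nat.card P - 1) / Nat.card A := by
  rw [← card_orb_mul hc hA, Nat.add_sub_cancel, Nat.mul_div_cancel _ Nat.card_pos]

theorem sum_irr_eq {R : Type*} [AddCommMonoid R] (F : IrrCharacter P → R) :
    ∑ l, F l = F (irrOne P) + ∑ i : Orb A, ∑ α : A, F (α⁻¹ • i.rep).1 := by
  classical
  rw [← (Equiv.optionSubtypeNe (irrOne P)).sum_comp, Fintype.sum_option]
  congr 1
  rw [show ∑ i : Orb A, ∑ α : A, F (α⁻¹ • i.rep).1 = ∑ i : Orb A, ∑ α : A, F (α • i.rep).1 from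
    sum_congr rfl fun i _ => Equiv.sum_comp (Equiv.inv A) fun α => F (α • i.rep).1,
    ← sum_nt hc hA fun l => F l.1]
  rfl

theorem sum_osum {v : P} (hv : v ≠ 1) : ∑ i : Orb A, i.osum v = -1 := by
  have h1 := sum_irr_degree_mul hv
  simp only [irr_one_of_comm hc, one_mul] at h1
  rw [sum_irr_eq hc hA] at h1
  exact eq_neg_of_add_eq_zero_right h1

end free

/-- columns of generalized decomposition numbers for a free action -/
structure FD (A : Subgroup (MulAut P)) {κ : Type*} (K : Finset κ) (x : κ → P → ℂ) : Prop where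
  comm : ∀ a b : P, a * b = b * a
  free : ∀ α ∈ A, ∀ v ≠ 1, α v = v → α = 1
  ext : ∀ χ ∈ K, ExtQ ⊥ (x χ)
  stab : ∀ χ ∈ K, ∀ α ∈ A, ∀ v ≠ 1, x χ (α v) = x χ v
  ne : ∀ χ ∈ K, ∀ v ≠ 1, x χ v ≠ 0
  orth : ∀ v ≠ 1, ∑ χ ∈ K, x χ v * conj (x χ v) = Nat.card P
  orth' : ∀ u ≠ 1, ∀ v ≠ 1, (∀ α ∈ A, α u ≠ v) → ∑ χ ∈ K, x χ u * conj (x χ v) = 0

theorem inner_cut_bot (f : P → ℂ) {g : P → ℂ} (hg : g 1 = 0) :
    classInner (cut ⊥ f) g = classInner f g := by
  rw [classInner_def, classInner_def]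
  congr 1
  refine sum_congr rfl fun v _ => ?_
  by_cases hv : v = 1
  · simp [hv, hg]
  · rw [cut_of_not_mem _ hv]

namespace FD
variable {κ : Type*} {K : Finset κ} {x : κ → P → ℂ} (h : FD A K x)
include h

theorem sum_orth {u : P} (hu : u ≠ 1) {g : P → ℂ} (hg : g 1 = 0) :
    ∑ v, g v * ∑ χ ∈ K, x χ u * conj (x χ v) = Nat.card P * ∑ α : A, g (α.1 u) := by
  rw [mul_sum]
  refine (Fintype.sum_of_injective (fun α : A => α.1 u) (fun α β hαβ => ?_) _ _ (fun v hv => ?_)
    fun α => ?_).symm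
  · refine inv_mul_eq_one.1 (Subtype.ext (h.free _ (α⁻¹ * β).2 u hu ?_))
    change α.1⁻¹ (β.1 u) = u
    rw [← show α.1 u = β.1 u from hαβ]
    exact α.1.symm_apply_apply u
  · by_cases h1 : v = 1
    · rw [h1, hg, zero_mul]
    · rw [h.orth' u hu v h1 fun α hα h2 => hv ⟨⟨α, hα⟩, h2⟩, mul_zero]
  · rw [sum_congr rfl fun χ hχ => by rw [h.stab χ hχ α.1 α.2 u hu], h.orth u hu, mul_comm]

theorem sum_inner {f g : P → ℂ} (hf : f 1 = 0) (hg : g 1 = 0) :
    ∑ χ ∈ K, classInner (x χ) f * conj (classInner (x χ) g) =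
      ∑ α : A, classInner (fun v => g (α.1 v)) f := by
  have h1 : ∀ u, conj (f u) * ∑ v, g v * ∑ χ ∈ K, x χ u * conj (x χ v) =
      conj (f u) * (Nat.card P * ∑ α : A, g (α.1 u)) := fun u => by
    by_cases hu : u = 1
    · simp [hu, hf]
    · rw [h.sum_orth hu hg]
  have h2 : (Nat.card P : ℂ) ≠ 0 := natCard_ne_zero'
  calc _ = (Nat.card P : ℂ)⁻¹ * (Nat.card P : ℂ)⁻¹ *
        ∑ u, conj (f u) * ∑ v, g v * ∑ χ ∈ K, x χ u * conj (x χ v) := by
        simp only [classInner_conj_symm]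
        simp only [classInner_def, mul_sum, sum_mul]
        rw [sum_comm]
        conv_rhs => rw [sum_comm]
        refine sum_congr rfl fun v _ => sum_comm.trans (sum_congr rfl fun u _ =>
          sum_congr rfl fun χ _ => by ring)
    _ = _ := by
        simp only [h1, classInner_def, ← mul_sum]
        rw [sum_comm, mul_assoc]
        congr 1
        rw [mul_sum]
        refine sum_congr rfl fun u _ => ?_
        rw [← sum_mul]
        field_simp

omit h in
open Classical in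
/-- the integral coordinates of a column -/
noncomputable def co (x : κ → P → ℂ) (i : Orb A) (χ : κ) : ℤ :=
  if h : ∃ n : ℤ, classInner (x χ) ((i.rep.1 : P → ℂ) - fun _ => 1) = n then h.choose else 0

theorem sub_one_apply (l : IrrCharacter P) : ((l : P → ℂ) - fun _ => 1 : P → ℂ) 1 = 0 := by
  simp [irr_one_of_comm h.comm]

theorem co_cast (i : Orb A) {χ : κ} (hχ : χ ∈ K) :
    (co x i χ : ℂ) = classInner (x χ) ((i.rep.1 : P → ℂ) - fun _ => 1) := by
  have h1 := (h.ext χ hχ).inner_int (l := i.rep.1) (mem_perp.2 fun q hq => by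
    rw [Subgroup.mem_bot.1 hq, irr_one_of_comm h.comm])
  rw [inner_cut_bot _ (h.sub_one_apply _)] at h1
  rw [co, dif_pos h1, ← h1.choose_spec]

theorem gram [DecidableEq (Orb A)] (i j : Orb A) :
    ∑ χ ∈ K, co x i χ * co x j χ = (if i = j then 1 else 0) + (Nat.card A : ℤ) := by
  classical
  apply Int.cast_injective (α := ℂ)
  have h1 := h.sum_inner (h.sub_one_apply i.rep.1) (h.sub_one_apply j.rep.1)
  have h2 : ∀ α : A, classInner (fun v => ((j.rep.1 : P → ℂ) - fun _ => 1 : P → ℂ) (α.1 v))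
      ((i.rep.1 : P → ℂ) - fun _ => 1) = (if α⁻¹ • j.rep = i.rep then 1 else 0) + 1 := fun α => by
    change classInner (((α⁻¹ • j.rep).1 : P → ℂ) - (irrOne P : P → ℂ))
      ((i.rep.1 : P → ℂ) - (irrOne P : P → ℂ)) = _
    rw [classInner_sub_left, classInner_sub_right, classInner_sub_right, irr_classInner,
      irr_classInner, irr_classInner, irr_classInner, if_neg (α⁻¹ • j.rep).2, if_neg i.rep.2.symm,
      if_pos rfl]
    simp only [sub_zero, zero_sub, sub_neg_eq_add, add_left_inj]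
    exact if_congr Subtype.ext_iff.symm rfl rfl
  rw [sum_congr rfl fun χ hχ => by rw [← h.co_cast i hχ, ← h.co_cast j hχ, map_intCast]] at h1
  push_cast
  rw [h1, sum_congr rfl fun α _ => h2 α, sum_add_distrib, sum_const, card_univ,
    Nat.card_eq_fintype_card, nsmul_eq_mul, mul_one]
  congr 1
  split_ifs with hij
  · subst hij
    rw [sum_eq_single 1 (fun α _ hα => if_neg fun h3 =>
      hα (inv_eq_one.1 (eq_one_of_smul_eq h.comm h.free h3))) (by simp)]
    simp
  · exact sum_eq_zero fun α _ => if_neg fun h3 => hij (Orb.eq_of_smul h3)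

theorem eq_sum_co {χ : κ} (hχ : χ ∈ K) {v : P} (hv : v ≠ 1) :
    x χ v = ∑ i : Orb A, co x i χ * i.osum v := by
  have h1 := eq_sum_of_inv h.comm (Q := ⊥) (f := x χ)
    (fun v _ q hq => by rw [Subgroup.mem_bot.1 hq, mul_one]) hv
  have h2 : perp (⊥ : Subgroup P) = univ := eq_univ_of_forall fun l => mem_perp.2 fun q hq => by
    rw [Subgroup.mem_bot.1 hq, irr_one_of_comm h.comm]
  rw [h1, h2, sum_irr_eq h.comm h.free, show ((irrOne P : P → ℂ) - fun _ => 1 : P → ℂ) = 0 from sub_self _,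
    classInner_zero_right, zero_mul, zero_add]
  refine sum_congr rfl fun i _ => ?_
  rw [Orb.osum, mul_sum]
  refine sum_congr rfl fun α _ => ?_
  rw [h.co_cast i hχ, ← inner_cut_bot (x χ) (h.sub_one_apply i.rep.1),
    ← classInner_comp_equiv (cut ⊥ (x χ)) ((i.rep.1 : P → ℂ) - fun _ => 1) α.1.toEquiv]
  refine congrArg₂ _ (congrArg₂ _ ?_ rfl) rfl
  ext w
  by_cases hw : w = 1
  · rw [cut_of_mem _ (Subgroup.mem_bot.2 hw), cut_of_mem _ (by simp [hw])]
  · rw [cut_of_not_mem _ hw, cut_of_not_mem _ (by simpa using hw)]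
    exact (h.stab χ hχ α.1 α.2 w hw).symm

variable [Nontrivial P]

theorem nonempty_orb : Nonempty (Orb A) := by
  have h1 := card_orb_mul h.comm h.free
  have h2 : 1 < Nat.card P := Finite.one_lt_card
  rw [← Fintype.card_pos_iff]
  exact Nat.pos_of_mul_pos_right (by omega : 0 < Fintype.card (Orb A) * Nat.card A)

theorem exists_co_ne {χ : κ} (hχ : χ ∈ K) : ∃ i : Orb A, co x i χ ≠ 0 := by
  obtain ⟨v, hv⟩ := exists_ne (1 : P)
  by_contra hn
  push Not at hn
  exact h.ne χ hχ v hv (by simp [h.eq_sum_co hχ hv, hn])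

theorem card_le : K.card ≤ Fintype.card (Orb A) + Nat.card A := by
  classical
  haveI := h.nonempty_orb
  exact_mod_cast (gram_card_le h.gram fun χ hχ => h.exists_co_ne hχ).1

theorem card_small (he : Nat.card A ≤ 3) (hk : Fintype.card (Orb A) < K.card) :
    K.card = Fintype.card (Orb A) + Nat.card A ∨ Fintype.card (Orb A) = 3 ∨
      (Fintype.card (Orb A) = 4 ∧ Nat.card A = 3) := by
  classical
  haveI := h.nonempty_orb
  exact_mod_cast gram_small h.gram (by exact_mod_cast he) (fun χ hχ => h.exists_co_ne hχ) hk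

theorem struct [DecidableEq (Orb A)] (hK : K.card = Fintype.card (Orb A) + Nat.card A) :
    ∃ (ψ : Orb A → κ) (δ : κ → ℤ), Function.Injective ψ ∧ (∀ i, ψ i ∈ K) ∧
      (∀ χ ∈ K, δ χ = 1 ∨ δ χ = -1) ∧ (∀ i, ∀ v ≠ 1, x (ψ i) v = δ (ψ i) * i.osum v) ∧
      (∀ χ ∈ K, (∀ j, ψ j ≠ χ) → ∀ v ≠ 1, x χ v = -δ χ) ∧
      (∀ i j, co x i (ψ j) = if i = j then δ (ψ j) else 0) ∧
      ∀ χ ∈ K, (∀ j, ψ j ≠ χ) → ∀ i : Orb A, co x i χ = δ χ := by
  classical
  haveI := h.nonempty_orb
  obtain ⟨ψ, δ, h1, h2, h3, h4, h5⟩ := gram_struct h.gram (Nat.cast_nonneg _)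
    (fun χ hχ => h.exists_co_ne hχ) (by exact_mod_cast hK)
  refine ⟨ψ, δ, h1, h2, h3, fun i v hv => ?_, fun χ hχ hn v hv => ?_, h4, h5⟩
  · simp [h.eq_sum_co (h2 i) hv, h4]
  · simp [h.eq_sum_co hχ hv, h5 χ hχ hn, ← mul_sum, sum_osum h.comm h.free hv]

end FD

end Cfsg.Agent.H6
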