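import Cfsg.Agent.H6.Fr5

/-!
# Blocks with abelian defect group and free inertial action: the column data
-/

set_option autoImplicit false
set_option linter.unusedSectionVars false
set_option linter.style.haveILetI false
set_option warn.classDefReducibility false

namespace Cfsg.Agent.H6

open MonoidAlgebra Cfsg Cfsg.Agent.H3 Cfsg.Agent.H4 Cfsg.Agent.H7
open Cfsg.Agent.H8 (SecData sec sub bspan bfin indBlocks msub lift)
open scoped Pointwise ComplexConjugate

section aut
variable {G : Type*} [Group G]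

/-- the automorphisms of `P` induced by elements of `T` -/
def autOf (T P : Subgroup G) : Subgroup (MulAut P) where
  carrier := {α | ∃ t ∈ T, ∀ u : P, (α u : G) = t * u * t⁻¹}
  one_mem' := ⟨1, T.one_mem, fun u => by simp⟩
  mul_mem' := by
    rintro α β ⟨s, hs, h1⟩ ⟨t, ht, h2⟩
    exact ⟨s * t, T.mul_mem hs ht, fun u => by rw [MulAut.mul_apply, h1, h2]; group⟩
  inv_mem' := by
    rintro α ⟨s, hs, h1⟩
    refine ⟨s⁻¹, T.inv_mem hs, fun u => ?_⟩
    have := h1 (α⁻¹ u)
    rw [MulAut.apply_inv_self] at this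
    rw [this]; group

theorem mem_autOf {T P : Subgroup G} {α : MulAut P} :
    α ∈ autOf T P ↔ ∃ t ∈ T, ∀ u : P, (α u : G) = t * u * t⁻¹ := Iff.rfl

theorem exists_autOf {T P : Subgroup G} (h : T ≤ Subgroup.normalizer (P : Set G)) {t : G}
    (ht : t ∈ T) : ∃ α ∈ autOf T P, ∀ u : P, (α u : G) = t * u * t⁻¹ :=
  ⟨P.normalizerMonoidHom ⟨t, h ht⟩, ⟨t, ht, fun _ => rfl⟩, fun _ => rfl⟩

theorem card_autOf {T P : Subgroup G} (h : T ≤ Subgroup.normalizer (P : Set G)) :
    Nat.card (autOf T P) = (Subgroup.centralizer (P : Set G)).relIndex T := by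
  rw [← Subgroup.relIndex_subgroupOf h, ← Subgroup.normalizerMonoidHom_ker,
    Subgroup.relIndex_ker]
  congr 2
  ext α
  exact ⟨fun ⟨t, ht, h1⟩ => ⟨⟨t, h ht⟩, ht, MulEquiv.ext fun u => Subtype.ext (h1 u).symm⟩,
    fun ⟨t, ht, h1⟩ => ⟨t, ht, fun u => h1 ▸ rfl⟩⟩

theorem card_centralizer_sec [Finite G] {p : ℕ} (hp : p.Prime) {u : G} {C : Subgroup G}
    (h : SecData p u C) {y : C} (hy : ¬ p ∣ orderOf y) :
    Nat.card (Subgroup.centralizer ({y} : Set C)) =
      Nat.card (Subgroup.centralizer ({u * y} : Set G)) := by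
  rw [← Subgroup.card_map_of_injective (K := Subgroup.centralizer _) C.subtype_injective]
  congr 2
  ext g
  simp only [Subgroup.mem_map, mem_centralizer_singleton, Subgroup.coe_subtype]
  constructor
  · rintro ⟨c, hc, rfl⟩
    exact (h.commute c).mul_left (congrArg Subtype.val hc)
  · intro hg
    have h1 := (IsPPart.commute_of_commute hp (h.isPPart hy) hg.symm).symm
    refine ⟨⟨g, h.mem_iff.2 h1⟩, Subtype.ext ?_, rfl⟩
    have := h1.inv_left.mul_left hg
    rwa [inv_mul_cancel_left] at this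

end aut

variable {M : Ideal AlgInt} [hMm : M.IsMaximal] {G : Type*} [Group G] [Fintype G] {p : ℕ}
  [Fact p.Prime]

variable (M p) in
/-- column data attached to a set of characters -/
structure FB (B : Set (IrrCharacter G)) {P : Type*} [Group P] [Fintype P]
    (A : Subgroup (MulAut P)) (x : IrrCharacter G → P → ℂ) : Prop extends FD A (bfin B) x where
  reg : ∀ u ≠ 1, ∀ g, ¬ p ∣ orderOf g → ∑ χ ∈ bfin B, conj (x χ u) * (χ : G → ℂ) g = 0
  sing : ∀ g : G, p ∣ orderOf g → ∃ c : P → ℂ, c 1 = 0 ∧ (∀ v, c v ∈ locRing M ∧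
    Nat.card P * c v / Nat.card (Subgroup.centralizer ({g} : Set G)) ∈ locRing M) ∧
    ∀ χ ∈ B, (χ : G → ℂ) g = ∑ v, c v * x χ v

theorem dd_cjSet {u : G} {C C' : Subgroup G} [Fintype C] [Fintype C'] {x : G}
    (h : MulAut.conj x • C = C') {θ : G → ℂ} (hθ : IsClassFunction G θ)
    (b : Set (IrrCharacter C)) : dd (x * u * x⁻¹) (cjSet C C' x b) θ = dd u b θ := by
  rw [cjSet_eq h, dd, dd]
  symm
  refine Finset.sum_bij (fun ξ _ => irrMap (conjIso h) ξ)
    (fun ξ hξ => H8.mem_bfin.2 ⟨ξ, H8.mem_bfin.1 hξ, rfl⟩)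
    (fun _ _ _ _ h => (irrMap _).injective h) (fun ξ hξ => ?_) fun ξ _ => ?_
  · obtain ⟨ξ', hξ', rfl⟩ := H8.mem_bfin.1 hξ
    exact ⟨ξ', H8.mem_bfin.2 hξ', rfl⟩
  · rw [← classInner_comp_equiv _ _ (conjIso h).toEquiv]
    refine congrArg₂ _ (funext fun y => ?_) (funext fun y => ?_)
    · change θ (u * y) = θ (x * u * x⁻¹ * (x * y * x⁻¹))
      rw [← hθ (u * y) x]
      congr 1
      group
    · exact congrArg _ ((conjIso h).symm_apply_apply y).symm

section lift
variable {u : G} {C : Subgroup G} [Fintype C] {b : Set (IrrCharacter C)} {N : ℕ}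

theorem sum_bfin_mem_bspan {K : Type*} [Group K] [Fintype K] (b : Set (IrrCharacter K)) :
    ∑ ξ ∈ bfin b, (ξ : K → ℂ) ∈ bspan b :=
  Submodule.sum_mem _ fun _ hξ => H8.mem_bspan_of_mem (H8.mem_bfin.1 hξ)

theorem Uni.dd_eq_inner (hM : IsPModular p M) (hs : SecData p u C) (hb : IsPBlock M b)
    (h : Uni p b N) {θ : G → ℂ} (hθ : IsClassFunction G θ) :
    dd u b θ = classInner θ (lift p u C (∑ ξ ∈ bfin b, (ξ : C → ℂ))) := by
  obtain ⟨ψ, hψ⟩ := H8.block_nonempty hb
  rw [← hs.inner_sub_left hM hb hθ (sum_bfin_mem_bspan b), h.sub_eq hψ, classInner_smul_left,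
    classInner_sum_right, Finset.sum_congr rfl fun ξ hξ => h.inner hM hb hψ (H8.mem_bfin.1 hξ),
    Finset.sum_const, H8.card_bfin, h.card, nsmul_eq_mul, mul_inv_cancel₀ h.cast_ne_zero, mul_one]

theorem Uni.lift_eq_sum (hM : IsPModular p M) (hs : SecData p u C) {B : Set (IrrCharacter G)}
    (hb : IsInducedBlock M C b B) (h : Uni p b N) : lift p u C (∑ ξ ∈ bfin b, (ξ : C → ℂ)) =
      ∑ χ ∈ bfin B, conj (dd u b (χ : G → ℂ)) • (χ : G → ℂ) := by
  conv_lhs => rw [← H8.blockPart_of_mem_bspan (hs.lift_mem_bspan hM hb (sum_bfin_mem_bspan b)),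
    H8.blockPart_eq]
  exact Finset.sum_congr rfl fun χ _ => by
    rw [h.dd_eq_inner hM hs hb.1 χ.2.isClassFunction, classInner_conj_symm]

theorem Uni.dd_lift (hM : IsPModular p M) (hs : SecData p u C) (hb : IsPBlock M b)
    (h : Uni p b N) : dd u b (lift p u C (∑ ξ ∈ bfin b, (ξ : C → ℂ))) = N := by
  obtain ⟨ψ, hψ⟩ := H8.block_nonempty hb
  rw [h.dd_eq_inner hM hs hb (H8.lift_isClassFunction _), hs.inner_lift_lift Fact.out
    (isClassFunction_of_bspan (sum_bfin_mem_bspan b)), h.sum_eq hM hb hψ, H8.pReg_smul,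
    classInner_smul_left, classInner_smul_right, H8.pReg_pReg, H8.classInner_pReg_pReg,
    h.inner hM hb hψ hψ, map_natCast, mul_inv_cancel₀ h.cast_ne_zero, mul_one]

theorem dd_lift_of_ne (hM : IsPModular p M) (hs : SecData p u C) (hb : IsPBlock M b)
    (h : Uni p b N) {b' : Set (IrrCharacter C)} (hb' : IsPBlock M b') (hne : b ≠ b') {f : C → ℂ}
    (hf : f ∈ bspan b') : dd u b (lift p u C f) = 0 := by
  obtain ⟨ψ, hψ⟩ := H8.block_nonempty hb
  have h1 := h.sub_eq (u := u) hψ (lift p u C f)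
  rw [hs.sub_eq hM hb (H8.lift_isClassFunction _), hs.pReg_sec_lift Fact.out
    (isClassFunction_of_bspan hf), blockPart_eq_zero_of_ne hb hb' hne
    (H8.pReg_mem_bspan' hM hb' hf)] at h1
  have h2 := congrFun h1 1
  rw [Pi.smul_apply, H8.pReg_one_apply Fact.out, smul_eq_mul, Pi.zero_apply, eq_comm] at h2
  exact (mul_eq_zero.1 h2).resolve_right (H8.irr_one_ne_zero ψ)

theorem Uni.div_mem (hM : IsPModular p M) {K : Type*} [Group K] [Fintype K]
    {b : Set (IrrCharacter K)} (hb : IsPBlock M b) (h : Uni p b N) {ψ : IrrCharacter K}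
    (hψ : ψ ∈ b) (y : K) : N * pRegularPart p (ψ : K → ℂ) y /
      Nat.card (Subgroup.centralizer ({y} : Set K)) ∈ locRing M := by
  have h1 := h.sum_eq hM hb hψ
  have h2 := H8.isIntegral_div_of_vanish (p := p) (isGen_sum (bfin b) _ fun ξ _ => ξ.2.isGen)
    (fun g hg => by rw [h1, Pi.smul_apply, H8.pReg_of_dvd _ hg, smul_zero]) y
  rw [h1] at h2
  convert mul_mem (mem_locRing_of_isIntegral h2) (H8.pow_div_mem hM (Nat.card_pos (α :=
    Subgroup.centralizer ({y} : Set K))).ne') using 1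
  rw [div_mul_div_cancel₀ (H8.pow_cast_ne_zero _), Pi.smul_apply, smul_eq_mul]

end lift

attribute [local instance] H8.subFintype

variable (hM : IsPModular p M) {P : Subgroup G} {e : (Res M)[G]} {B : Set (IrrCharacter G)}
  (hB : IsPBlock M B) (S : MaxP p ⊤ ⊤ (eB M B) P e) (hab : P ≤ Subgroup.centralizer (P : Set G))
include hM S

theorem dd_of_fus {u v : G} (hu : u ∈ P) (hv : v ∈ P) (h : Fus M p P e u v) {θ : G → ℂ}
    (hθ : IsClassFunction G θ) : dd u (bsec M p P e u) θ = dd v (bsec M p P e v) θ := by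
  obtain ⟨g, rfl, h2⟩ := h
  have h1 := (centralizer_singleton_conj u g).symm
  rw [← (eq_cjSet_iff h1 (bsec_spec hM S.pair hu).1 (bsec_spec hM S.pair hv).1).2 h2,
    dd_cjSet h1 hθ]

include hab

theorem fus_iff_autOf {u v : P} : Fus M p P e u v ↔ ∃ α ∈ autOf (NS ⊤ P e) P, α u = v := by
  rw [S.fus_iff_of_central hM u.2 v.2 (hab u.2) (hab v.2)]
  constructor
  · rintro ⟨t, ht, h⟩
    obtain ⟨α, hα, h1⟩ := exists_autOf inf_le_left ht
    exact ⟨α, hα, Subtype.ext ((h1 u).trans h)⟩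
  · rintro ⟨α, ⟨t, ht, h1⟩, rfl⟩
    exact ⟨t, ht, (h1 u).symm⟩

theorem dd_autOf {α : MulAut P} (hα : α ∈ autOf (NS ⊤ P e) P) (u : P) {θ : G → ℂ}
    (hθ : IsClassFunction G θ) :
    dd (α u : G) (bsec M p P e (α u)) θ = dd (u : G) (bsec M p P e u) θ :=
  (dd_of_fus hM S u.2 (α u).2 ((fus_iff_autOf hM S hab).2 ⟨α, hα, rfl⟩) hθ).symm

theorem not_dvd_card_autOf : ¬ p ∣ Nat.card (autOf (NS ⊤ P e) P) := by
  haveI := charP_res hM
  rw [card_autOf inf_le_left]
  exact S.not_dvd_of_abelian hab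

variable (hfree : ∀ g ∈ NS ⊤ P e, ∀ x ∈ P, x ≠ 1 → g * x * g⁻¹ = x →
    g ∈ Subgroup.centralizer (P : Set G))
include hfree

omit hM S hab in
theorem free_autOf : ∀ α ∈ autOf (NS ⊤ P e) P, ∀ v ≠ 1, α v = v → α = 1 := by
  rintro α ⟨t, ht, h1⟩ v hv h
  have h2 := hfree t ht v v.2 (fun h => hv (Subtype.ext h)) (by rw [← h1, h])
  exact MulEquiv.ext fun u => Subtype.ext ((h1 u).trans (mem_centralizer_iff_conj.1 h2 u u.2))

include hB

theorem fb_of_sign {ε : P → ℤ} (hε : ∀ v, ε v = 1 ∨ ε v = -1)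
    (hs : ∀ α ∈ autOf (NS ⊤ P e) P, ∀ v ≠ 1, ε (α v) = ε v)
    (hx : ∀ χ ∈ B, ExtQ ⊥ fun u : P => ε u * dd (u : G) (bsec M p P e u) χ) :
    FB M p B (autOf (NS ⊤ P e) P) fun χ u => ε u * dd (u : G) (bsec M p P e u) χ := by
  have hp : p.Prime := Fact.out
  have hU := fun (u : P) (hu : u ≠ 1) =>
    uni_bsec' hM S hab hfree u.2 fun h => hu (Subtype.ext h)
  have hsq : ∀ v, (ε v : ℂ) * ε v = 1 := fun v => by rcases hε v with h | h <;> simp [h]
  have hb := fun u : P => (bsec_spec hM S.pair u.2).1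
  have hL := fun u hu => (hU u hu).lift_eq_sum hM (S.secData hM u.2) (S.bsec_induced hM hB u.2)
  have h1 : ∀ u v : P, v ≠ 1 → ∑ χ ∈ bfin B, ε u * dd (u : G) (bsec M p P e u) χ *
      conj (ε v * dd (v : G) (bsec M p P e v) χ) = ε u * ε v * dd (u : G) (bsec M p P e u)
        (lift p (v : G) (Subgroup.centralizer {(v : G)})
          (∑ ξ ∈ bfin (bsec M p P e v), ξ.1)) := fun u v hv => by
    rw [hL v hv, dd_sum, Finset.mul_sum]
    exact Finset.sum_congr rfl fun χ _ => by rw [dd_smul, map_mul, map_intCast]; ring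
  refine ⟨⟨comm_of_le_centralizer hab, free_autOf hfree, fun χ hχ => hx χ (H8.mem_bfin.1 hχ),
    fun χ _ α hα v hv => by rw [hs α hα v hv, dd_autOf hM S hab hα v χ.2.isClassFunction],
    fun χ hχ v hv => mul_ne_zero (left_ne_zero_of_mul_eq_one (hsq v)) fun h => ?_,
    fun v hv => ?_, fun u hu v hv h => ?_⟩, fun u hu g hg => ?_, fun g hg => ?_⟩
  · obtain ⟨ψ, hψ⟩ := H8.block_nonempty (hb v)
    exact S.sub_ne_zero_of_central hM hB (H8.mem_bfin.1 hχ) v.2 (hab v.2)
      (by rw [(hU v hv).sub_eq hψ, h, zero_smul])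
  · rw [h1 v v hv, hsq, (hU v hv).dd_lift hM (S.secData hM v.2) (hb v), one_mul]
  · rw [h1 u v hv]
    refine mul_eq_zero_of_right _ ?_
    by_cases hc : IsConj (u : G) v
    · obtain ⟨g, hg⟩ := isConj_iff.1 hc
      have h2 : MulAut.conj g • Subgroup.centralizer ({(u : G)} : Set G) =
          Subgroup.centralizer ({(v : G)} : Set G) := by rw [← hg, centralizer_singleton_conj]
      rw [← dd_cjSet h2 (H8.lift_isClassFunction _), hg]
      refine dd_lift_of_ne hM (S.secData hM v.2) (isPBlock_cjSet h2 (hb u))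
        (cjSet_eq h2 _ ▸ (hU u hu).image _) (hb v) (fun h3 => ?_) (sum_bfin_mem_bspan _)
      obtain ⟨α, hα, h4⟩ := (fus_iff_autOf hM S hab).1
        ⟨g, hg, (eq_cjSet_iff h2 (hb u) (hb v)).1 h3⟩
      exact h α hα h4
    · rw [(hU u hu).dd_eq_inner hM (S.secData hM u.2) (hb u) (H8.lift_isClassFunction _)]
      exact (S.secData hM v.2).inner_lift_lift_of_not_isConj hp (S.secData hM u.2)
        (fun h => hc h.symm) _ _
  · have h2 := (S.secData hM u.2).lift_eq_zero hp (∑ ξ ∈ bfin (bsec M p P e u), (ξ : _ → ℂ))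
      (isPPart_one hp hg) fun h => hu (Subtype.ext (isConj_one_right.1 h.symm))
    rw [hL u hu, Finset.sum_apply] at h2
    simp only [map_mul, map_intCast, mul_assoc, ← Finset.mul_sum]
    exact mul_eq_zero_of_right _ h2
  · classical
    obtain ⟨u, y, rfl, a1, a2, a3⟩ := exists_isPPart hp g
    have hu : u ≠ 1 := by rintro rfl; exact a3 (by simpa using hg)
    have hsd := H8.secData_centralizer a2
    let y' : Subgroup.centralizer ({u} : Set G) := ⟨y, mem_centralizer_singleton.2 a1⟩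
    have hy' : ¬ p ∣ orderOf y' := by rwa [← Subgroup.orderOf_coe]
    have h2 : ∀ b : Set (IrrCharacter (Subgroup.centralizer ({u} : Set G))), ∃ (v : P) (c : ℂ),
        b ∈ indBlocks M _ B → v ≠ 1 ∧ c ∈ locRing M ∧
        Nat.card P * c / Nat.card (Subgroup.centralizer ({u * y} : Set G)) ∈ locRing M ∧
        ∀ χ : IrrCharacter G, sub p u b χ y' =
          c * (ε v * dd (v : G) (bsec M p P e v) χ) := fun b => by
      by_cases hb1 : b ∈ indBlocks M _ B
      swap
      · exact ⟨1, 0, fun h => absurd h hb1⟩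
      have hb2 := H8.mem_indBlocks.1 hb1
      obtain ⟨v, t, a4, a5⟩ := S.exists_conj_bsec hM hB a2 hb2
      have hv : v ≠ 1 := fun h => hu (by simpa [h] using a4)
      have h3 : MulAut.conj t • Subgroup.centralizer ({u} : Set G) =
          Subgroup.centralizer ({(v : G)} : Set G) := by rw [← a4, centralizer_singleton_conj]
      have h4 := (eq_cjSet_iff h3 hb2.1 (hb v)).2 a5
      have h5 : Uni p b (Nat.card P) := by
        have := (hU v hv).image (conjIso h3).symm
        rwa [← h4, cjSet_eq h3, Set.image_image, Set.image_congr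
          (f := fun ξ => irrMap (conjIso h3).symm (irrMap (conjIso h3) ξ)) (g := id)
          (fun ξ _ => (irrMap (conjIso h3)).left_inv ξ), Set.image_id] at this
      obtain ⟨ψ, hψ⟩ := H8.block_nonempty hb2.1
      refine ⟨v, ε v * pRegularPart p (ψ : _ → ℂ) y', fun _ => ⟨hv, mul_mem (intCast_mem _ _) ?_,
        ?_, fun χ => ?_⟩⟩
      · rw [H8.pReg_of_not_dvd _ hy']; exact H8.char_mem ψ.2.isGen _
      · rw [← card_centralizer_sec hp hsd hy', mul_left_comm, mul_div_assoc]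
        exact mul_mem (intCast_mem _ _) (h5.div_mem hM hb2.1 hψ y')
      · rw [h5.sub_eq hψ, ← dd_cjSet h3 χ.2.isClassFunction, h4, a4, Pi.smul_apply, smul_eq_mul]
        linear_combination (-dd (v : G) (bsec M p P e v) χ * pRegularPart p (ψ : _ → ℂ) y') * hsq v
    choose v c hvc using h2
    refine ⟨fun w => ∑ b ∈ (indBlocks M _ B).filter (v · = w), c b,
      Finset.sum_eq_zero fun b hb => ?_, fun w => ⟨Subring.sum_mem _ fun b hb => ?_, ?_⟩,
      fun χ hχ => ?_⟩
    · exact absurd (Finset.mem_filter.1 hb).2 (hvc b (Finset.mem_filter.1 hb).1).1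
    · exact (hvc b (Finset.mem_filter.1 hb).1).2.1
    · rw [Finset.mul_sum, Finset.sum_div]
      exact Subring.sum_mem _ fun b hb => (hvc b (Finset.mem_filter.1 hb).1).2.2.1
    · have h3 := congrFun (hsd.pReg_sec_eq_sum_ind hM hB hχ) y'
      rw [H8.pReg_of_not_dvd _ hy', Finset.sum_apply] at h3
      refine h3.trans ?_
      rw [← Finset.sum_fiberwise _ v]
      refine Finset.sum_congr rfl fun w _ => ?_
      rw [Finset.sum_mul]
      exact Finset.sum_congr rfl fun b hb => by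
        rw [(hvc b (Finset.mem_filter.1 hb).1).2.2.2, (Finset.mem_filter.1 hb).2]

theorem exists_fb : ∃ ε : P → ℤ, (∀ v, ε v = 1 ∨ ε v = -1) ∧
    FB M p B (autOf (NS ⊤ P e) P) fun χ u => ε u * dd (u : G) (bsec M p P e u) χ := by
  obtain ⟨ε, h1, h2⟩ := exists_sign0 hM S hab hfree
  obtain ⟨χ, hχ, h0⟩ := H8.exists_height_zero (p := p) (H8.block_nonempty hB)
  obtain ⟨ε', h3, h4, h5⟩ := exists_stable_sign hM S.pair.isPGroup (comm_of_le_centralizer hab) _
    (not_dvd_card_autOf hM S hab) (fun (χ : IrrCharacter G) u => dd (u : G) (bsec M p P e u) χ)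
    (fun u => dd (u : G) (bsec M p P e u) χ)
    (fun α hα v => dd_autOf hM S hab hα v χ.2.isClassFunction) (fun v hv => by
      rw [← (uni_bsec' hM S hab hfree v.2 fun h => hv (Subtype.ext h)).msub_eq hM
        (bsec_spec hM S.pair v.2).1]
      exact ((S.secData hM v.2).redC_msub_ne_zero_iff hM (S.bsec_induced hM hB v.2) hχ hχ).2
        ⟨h0, h0⟩) (fun v => dd_isIntegral (S.secData hM v.2) χ.2.isGen) h1 (h2 _ χ.2.isGen)
    fun χ => h2 _ χ.2.isGen
  exact ⟨ε', h3, fb_of_sign hM hB S hab hfree h3 h4 fun χ _ => h5 χ⟩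

theorem card_eq_rank_add :
    Nat.card B = blockRank p B + Fintype.card (Orb (autOf (NS ⊤ P e) P)) := by
  classical
  haveI := charP_res hM
  have hc := comm_of_le_centralizer hab
  have h1 := S.card_eq_sum hM hB
  have h2 : ∀ u : P, u ≠ 1 → Nat.card {v : P // Fus M p P e u v} =
      Nat.card (autOf (NS ⊤ P e) P) := fun u hu => by
    refine (Nat.card_eq_of_bijective (fun α : autOf (NS ⊤ P e) P =>
      (⟨α.1 u, (fus_iff_autOf hM S hab).2 ⟨α, α.2, rfl⟩⟩ : {v : P // Fus M p P e u v}))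
      ⟨fun α β hαβ => ?_, fun v => ?_⟩).symm
    · refine inv_mul_eq_one.1 (Subtype.ext (free_autOf hfree _ (α⁻¹ * β).2 u hu ?_))
      change α.1⁻¹ (β.1 u) = u
      rw [← show α.1 u = β.1 u from congrArg Subtype.val hαβ]
      exact α.1.symm_apply_apply u
    · obtain ⟨α, hα, h⟩ := (fus_iff_autOf hM S hab).1 v.2
      exact ⟨⟨α, hα⟩, Subtype.ext h⟩
  have h3 : Nat.card {v : P // Fus M p P e (1 : P) v} = 1 := by
    rw [Nat.card_eq_one_iff_exists]
    exact ⟨⟨1, Fus.refl _⟩, fun v => Subtype.ext (Subtype.ext (isConj_one_right.1 v.2.isConj))⟩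
  have h4 : blockRank p (bsec M p P e (1 : P)) = blockRank p B := by
    have a1 := (bsec_spec hM S.pair P.one_mem).1
    have a2 := kl_eb (p := p) a1
    have a4 : Subgroup.centralizer ({1} : Set G) = ⊤ :=
      eq_top_iff.2 fun g _ => mem_centralizer_singleton.2 (Commute.one_left g)
    have a3 : eb M _ (bsec M p P e 1) = eB M B := Blk.eq_of_br_mul S.pair.isPGroup le_top
      ((congrArg (Blk · (eb M _ (bsec M p P e 1))) a4).mp (blk_eb a1)) S.prim S.blk.ne_zero (br_bsec hM hab S P.one_mem) S.br_mul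
    rw [a3, congrArg (kl M p · (eB M B)) a4, kl_eB hB] at a2
    exact (congrArg Prod.snd a2).symm
  rw [← Finset.add_sum_erase _ _ (Finset.mem_univ 1), h3, h4, Finset.sum_congr rfl fun u hu => by
    rw [h2 u (Finset.ne_of_mem_erase hu), (uni_bsec' hM S hab hfree u.2 fun h =>
      Finset.ne_of_mem_erase hu (Subtype.ext h)).blockRank hM (bsec_spec hM S.pair u.2).1],
    Finset.sum_const, Finset.card_erase_of_mem (Finset.mem_univ _), Finset.card_univ,
    ← Nat.card_eq_fintype_card, ← card_orb_mul hc (free_autOf hfree), Nat.add_sub_cancel,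
    nsmul_eq_mul, Nat.cast_one, div_one, Nat.cast_mul, mul_assoc,
    mul_one_div_cancel (Nat.cast_ne_zero.2 Nat.card_pos.ne'), mul_one] at h1
  exact_mod_cast h1

end Cfsg.Agent.H6
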