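import Cfsg.Agent.H6.Fr6

/-!
# Exceptional and non-exceptional characters; perfect isometries
-/

set_option autoImplicit false
set_option linter.unusedSectionVars false
set_option linter.style.haveILetI false
set_option warn.classDefReducibility false

namespace Cfsg.Agent.H6

open Finset Cfsg Cfsg.Agent.H4
open Cfsg.Agent.H8 (bfin mem_bfin)
open scoped ComplexConjugate

variable {M : Ideal AlgInt} [hMm : M.IsMaximal] {G : Type*} [Group G] [Fintype G] {p : ℕ}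
  [Fact p.Prime] {P : Type*} [Group P] [Fintype P] {A : Subgroup (MulAut P)}
  {B : Set (IrrCharacter G)} {x : IrrCharacter G → P → ℂ}

variable (p) in
/-- the exceptional characters `ψ i` and the signs -/
structure FS (B : Set (IrrCharacter G)) (A : Subgroup (MulAut P)) (x : IrrCharacter G → P → ℂ)
    (ψ : Orb A → IrrCharacter G) (δ : IrrCharacter G → ℤ) (δ₀ : ℤ) : Prop where
  inj : Function.Injective ψ
  mem : ∀ i, ψ i ∈ B
  sign : ∀ χ ∈ B, δ χ = 1 ∨ δ χ = -1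
  sign0 : δ₀ = 1 ∨ δ₀ = -1
  eq0 : ∀ i, δ (ψ i) = δ₀
  exc : ∀ i, ∀ v ≠ 1, x (ψ i) v = δ₀ * i.osum v
  non : ∀ χ ∈ B \ Set.range ψ, ∀ v ≠ 1, x χ v = -δ χ
  reg : ∀ i, ∀ g, ¬ p ∣ orderOf g →
    δ₀ * (ψ i : G → ℂ) g + ∑ χ ∈ bfin (B \ Set.range ψ), δ χ * (χ : G → ℂ) g = 0
  card : Nat.card (B \ Set.range ψ : Set _) = Nat.card A

theorem sum_bfin_split {ι : Type*} [Fintype ι] {ψ : ι → IrrCharacter G}
    (h : Function.Injective ψ) (hB : ∀ i, ψ i ∈ B) {R : Type*} [AddCommMonoid R]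
    (F : IrrCharacter G → R) :
    ∑ χ ∈ bfin B, F χ = ∑ i, F (ψ i) + ∑ χ ∈ bfin (B \ Set.range ψ), F χ := by
  classical
  rw [← sum_image (s := univ) (f := F) fun _ _ _ _ e => h e, ← sum_union]
  · congr 1
    ext χ
    simp only [mem_bfin, mem_union, mem_image, mem_univ, true_and, Set.mem_diff, Set.mem_range]
    exact ⟨fun hχ => (em _).imp_right fun h => ⟨hχ, h⟩,
      fun h => h.elim (fun ⟨i, hi⟩ => hi ▸ hB i) And.left⟩
  · rw [disjoint_left]
    intro χ h1 h2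
    exact (mem_bfin.1 h2).2 (by simpa using h1)

theorem sq_sign {d : ℤ} (h : d = 1 ∨ d = -1) : (d : ℂ) * d = 1 := by
  rcases h with h | h <;> simp [h]

namespace FB
variable (h : FB M p B A x)
include h

theorem reg_co (i : Orb A) {g : G} (hg : ¬ p ∣ orderOf g) :
    ∑ χ ∈ bfin B, (FD.co x i χ : ℂ) * (χ : G → ℂ) g = 0 := by
  rw [sum_congr rfl fun χ hχ => by
    rw [← map_intCast (starRingEnd ℂ), h.toFD.co_cast i hχ, classInner_conj_symm, classInner_def]]
  simp only [mul_assoc, ← mul_sum, sum_mul]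
  refine mul_eq_zero_of_right _ (sum_comm.trans (sum_eq_zero fun u _ => ?_))
  rw [← mul_sum]
  by_cases hu : u = 1
  · rw [hu, h.toFD.sub_one_apply, zero_mul]
  · rw [h.reg u hu g hg, mul_zero]

theorem vanish {a : IrrCharacter G → ℂ} (ha : ∀ v ≠ 1, ∑ χ ∈ bfin B, a χ * x χ v = 0) {g : G}
    (hg : p ∣ orderOf g) : ∑ χ ∈ bfin B, a χ * (χ : G → ℂ) g = 0 := by
  obtain ⟨c, h1, -, h3⟩ := h.sing g hg
  rw [sum_congr rfl fun χ hχ => by rw [h3 χ (mem_bfin.1 hχ), mul_sum], sum_comm]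
  refine sum_eq_zero fun v _ => ?_
  simp only [mul_left_comm _ (c v), ← mul_sum]
  by_cases hv : v = 1
  · rw [hv, h1, zero_mul]
  · rw [ha v hv, mul_zero]

theorem exists_fs [Nontrivial P] (hK : Nat.card B = Fintype.card (Orb A) + Nat.card A) :
    ∃ ψ δ δ₀, FS p B A x ψ δ δ₀ := by
  classical
  obtain ⟨ψ, δ, h1, h2, h3, h4, h5, h6, h7⟩ := h.toFD.struct ((H8.card_bfin B).trans hK)
  simp only [mem_bfin] at h2 h3 h5 h7
  have h8 : ∀ i, ∀ g, ¬ p ∣ orderOf g → δ (ψ i) * (ψ i : G → ℂ) g +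
      ∑ χ ∈ bfin (B \ Set.range ψ), δ χ * (χ : G → ℂ) g = 0 := fun i g hg => by
    rw [← h.reg_co i hg, sum_bfin_split h1 h2]
    congr 1
    · simp [h6]
    · exact sum_congr rfl fun χ hχ => by
        rw [h7 χ (mem_bfin.1 hχ).1 fun j hj => (mem_bfin.1 hχ).2 ⟨j, hj⟩]
  obtain ⟨i₀⟩ := h.toFD.nonempty_orb
  have h9 : ∀ i, δ (ψ i) = δ (ψ i₀) := fun i => by
    have hp : ¬ p ∣ orderOf (1 : G) := by simp [(Fact.out : p.Prime).ne_one]
    have := add_right_cancel ((h8 i 1 hp).trans (h8 i₀ 1 hp).symm)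
    obtain ⟨m, hm, e1⟩ := (ψ i).2.exists_degree
    obtain ⟨n, hn, e2⟩ := (ψ i₀).2.exists_degree
    rw [e1, e2] at this
    have h9 : δ (ψ i) * m = δ (ψ i₀) * n := by exact_mod_cast this
    rcases h3 _ (h2 i) with a | a <;> rcases h3 _ (h2 i₀) with b | b <;> rw [a, b] at h9 ⊢ <;> omega
  refine ⟨ψ, δ, δ (ψ i₀), h1, h2, h3, h3 _ (h2 _), h9, fun i v hv => h9 i ▸ h4 i v hv,
    fun χ hχ => h5 χ hχ.1 fun j hj => hχ.2 ⟨j, hj⟩, fun i => h9 i ▸ h8 i, ?_⟩
  have := sum_bfin_split h1 h2 fun _ => 1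
  simp only [sum_const, smul_eq_mul, mul_one, H8.card_bfin, card_univ, hK] at this
  omega

end FB

theorem Orb.conj_osum_inv (i : Orb A) (v : P) : conj (i.osum v⁻¹) = i.osum v := by
  simp only [Orb.osum, map_sum, map_inv, H8.irr_inv, Complex.conj_conj]

namespace FS
variable {ψ : Orb A → IrrCharacter G} {δ : IrrCharacter G → ℤ} {δ₀ : ℤ} (h : FB M p B A x)
  (s : FS p B A x ψ δ δ₀)
include h s

theorem kappa {v w : P} (hv : v ≠ 1) (hw : w ≠ 1) : ∃ n : ℕ,
    ∑ i : Orb A, i.osum v * i.osum w + Nat.card A = n * Nat.card P := by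
  have hw' := inv_ne_one.2 hw
  have h1 : ∑ i : Orb A, i.osum v * i.osum w + Nat.card A =
      ∑ χ ∈ bfin B, x χ v * conj (x χ w⁻¹) := by
    rw [sum_bfin_split s.inj s.mem, ← s.card, ← H8.card_bfin, card_eq_sum_ones, Nat.cast_sum]
    congr 1
    · exact sum_congr rfl fun i _ => by
        rw [s.exc i v hv, s.exc i _ hw', map_mul, Orb.conj_osum_inv, map_intCast]
        linear_combination (-i.osum v * i.osum w) * sq_sign s.sign0
    · exact sum_congr rfl fun χ hχ => by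
        rw [s.non χ (mem_bfin.1 hχ) v hv, s.non χ (mem_bfin.1 hχ) _ hw', map_neg, map_intCast,
          neg_mul_neg, sq_sign (s.sign χ (mem_bfin.1 hχ).1), Nat.cast_one]
  by_cases h2 : ∃ α ∈ A, α v = w⁻¹
  · obtain ⟨α, hα, h2⟩ := h2
    refine ⟨1, ?_⟩
    rw [h1, ← h2, sum_congr rfl fun χ hχ => by rw [h.stab χ hχ α hα v hv], h.orth v hv,
      Nat.cast_one, one_mul]
  · exact ⟨0, by rw [h1, h.orth' v hv _ hw' fun α hα e => h2 ⟨α, hα, e⟩, Nat.cast_zero, zero_mul]⟩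

theorem phi_vanish {χ : IrrCharacter G} (hχ : χ ∈ B \ Set.range ψ) {g : G} (hg : p ∣ orderOf g) :
    δ χ * (χ : G → ℂ) g = ∑ i, δ₀ * (ψ i : G → ℂ) g := by
  obtain ⟨c, h1, -, h3⟩ := h.sing g hg
  rw [sum_congr rfl fun i _ => by rw [h3 _ (s.mem i), mul_sum], sum_comm, h3 χ hχ.1, mul_sum]
  refine sum_congr rfl fun v _ => ?_
  by_cases hv : v = 1
  · simp [hv, h1]
  · simp only [s.exc _ v hv, s.non χ hχ v hv, ← mul_sum, sum_osum h.comm h.free hv]
    linear_combination (-c v) * sq_sign (s.sign χ hχ.1) + c v * sq_sign s.sign0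

theorem half (hM : IsPModular p M) {J : Type*} [Fintype J] (a : J → IrrCharacter G)
    (ha : ∀ j, a j ∈ B \ Set.range ψ) (t : J → ℂ) (ht : ∀ j, t j ∈ locRing M) (r : Orb A → ℂ)
    (hr : ∀ i, r i + ∑ j, t j = 0) (g : G) :
    (∑ i, δ₀ * (ψ i : G → ℂ) g * r i + ∑ j, δ (a j) * (a j : G → ℂ) g * t j) /
      Nat.card (Subgroup.centralizer ({g} : Set G)) ∈ locRing M ∧ (p ∣ orderOf g →
      ∑ i, δ₀ * (ψ i : G → ℂ) g * r i + ∑ j, δ (a j) * (a j : G → ℂ) g * t j = 0) := by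
  have h1 : ∑ i, δ₀ * (ψ i : G → ℂ) g * r i + ∑ j, δ (a j) * (a j : G → ℂ) g * t j =
      ∑ j, (δ (a j) * (a j : G → ℂ) g - ∑ i, δ₀ * (ψ i : G → ℂ) g) * t j := by
    simp only [fun i => eq_neg_of_add_eq_zero_left (hr i), sub_mul, sum_sub_distrib, ← sum_mul,
      ← mul_sum]
    ring
  rw [h1]
  refine ⟨?_, fun hg => sum_eq_zero fun j _ => by
    rw [phi_vanish h s (ha j) hg, sub_self, zero_mul]⟩
  rw [sum_div]
  refine Subring.sum_mem _ fun j _ => ?_
  have h2 := H8.isIntegral_div_of_vanish (p := p) (((a j).2.isGen.intCast_smul (δ (a j))).sub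
    (isGen_sum univ _ fun i _ => (ψ i).2.isGen.intCast_smul δ₀)) (fun g hg => by
      rw [Pi.sub_apply, Finset.sum_apply]
      exact sub_eq_zero.2 (phi_vanish h s (ha j) hg)) g
  convert mul_mem (mul_mem (mem_locRing_of_isIntegral h2) (H8.pow_div_mem hM (Nat.card_pos (α :=
    Subgroup.centralizer ({g} : Set G))).ne')) (ht j) using 1
  rw [div_mul_div_cancel₀ (H8.pow_cast_ne_zero _), Pi.sub_apply, Finset.sum_apply, mul_div_right_comm]
  rfl

theorem sing {g : G} (hg : p ∣ orderOf g) : ∃ c : P → ℂ, c 1 = 0 ∧ (∀ v, c v ∈ locRing M ∧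
    Nat.card P * c v / Nat.card (Subgroup.centralizer ({g} : Set G)) ∈ locRing M) ∧
    (∀ i, δ₀ * (ψ i : G → ℂ) g = ∑ v, c v * i.osum v) ∧
    ∀ χ ∈ B \ Set.range ψ, δ χ * (χ : G → ℂ) g = -∑ v, c v := by
  obtain ⟨c, h1, h2, h3⟩ := h.sing g hg
  refine ⟨c, h1, h2, fun i => ?_, fun χ hχ => ?_⟩
  · rw [h3 _ (s.mem i), mul_sum]
    refine sum_congr rfl fun v _ => ?_
    by_cases hv : v = 1
    · simp [hv, h1]
    · rw [s.exc i v hv]
      linear_combination c v * i.osum v * sq_sign s.sign0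
  · rw [h3 _ hχ.1, mul_sum, ← sum_neg_distrib]
    refine sum_congr rfl fun v _ => ?_
    by_cases hv : v = 1
    · simp [hv, h1]
    · rw [s.non χ hχ v hv]
      linear_combination (-c v) * sq_sign (s.sign χ hχ.1)

theorem exists_perfect (hM : IsPModular p M) {H : Type*} [Group H] [Fintype H]
    {c : Set (IrrCharacter H)} {x' : IrrCharacter H → P → ℂ} {ψ' : Orb A → IrrCharacter H}
    {δ' : IrrCharacter H → ℤ} {δ₀' : ℤ} (h' : FB M p c A x') (s' : FS p c A x' ψ' δ' δ₀') :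
    ∃ I ε, IsPerfectIsometry p M c B I ε ∧ ∀ η ∈ c, ε η = δ' η * δ (I η) ∧
      ((∃ i, ψ' i = η) ↔ ∃ i, ψ i = I η) := by
  classical
  obtain ⟨τ⟩ : Nonempty ((c \ Set.range ψ' : Set _) ≃ (B \ Set.range ψ : Set _)) :=
    Finite.card_eq.1 (s'.card.trans s.card.symm)
  let I : IrrCharacter H → IrrCharacter G := fun η =>
    if h1 : η ∈ Set.range ψ' then ψ h1.choose else if h2 : η ∈ c then τ ⟨η, h2, h1⟩ else irrOne G
  have hI1 : ∀ i, I (ψ' i) = ψ i := fun i => by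
    have h1 : ψ' i ∈ Set.range ψ' := ⟨i, rfl⟩
    simp only [I, dif_pos h1, s'.inj h1.choose_spec]
  have hI2 : ∀ j : (c \ Set.range ψ' : Set _), I j = τ j := fun j => by
    simp only [I, dif_neg j.2.2, dif_pos j.2.1]
  have hcase : ∀ η ∈ c, (∃ i, ψ' i = η) ∨ ∃ j : (c \ Set.range ψ' : Set _), j.1 = η :=
    fun η hη => (em _).imp_right fun h => ⟨⟨η, hη, h⟩, rfl⟩
  have hmap : Set.MapsTo I c B := fun η hη => by
    rcases hcase η hη with ⟨i, rfl⟩ | ⟨j, rfl⟩
    · rw [hI1]; exact s.mem i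
    · rw [hI2]; exact (τ j).2.1
  refine ⟨I, fun η => δ' η * δ (I η), ⟨⟨hmap, fun η hη η' hη' e => ?_, fun χ hχ => ?_⟩,
    fun η hη => ?_, fun g y => ?_⟩, fun η hη => ⟨rfl, ?_⟩⟩
  · rcases hcase η hη with ⟨i, rfl⟩ | ⟨j, rfl⟩ <;> rcases hcase η' hη' with ⟨i', rfl⟩ | ⟨j', rfl⟩
    · rw [hI1, hI1] at e
      rw [s.inj e]
    · rw [hI1, hI2] at e
      exact ((τ j').2.2 ⟨i, e⟩).elim
    · rw [hI1, hI2] at e
      exact ((τ j).2.2 ⟨i', e.symm⟩).elim
    · rw [hI2, hI2] at e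
      rw [τ.injective (Subtype.ext e)]
  · by_cases h1 : χ ∈ Set.range ψ
    · obtain ⟨i, rfl⟩ := h1
      exact ⟨ψ' i, s'.mem i, hI1 i⟩
    · exact ⟨τ.symm ⟨χ, hχ, h1⟩, (τ.symm _).2.1, by rw [hI2, τ.apply_symm_apply]⟩
  · rcases s'.sign η hη with a | a <;> rcases s.sign _ (hmap hη) with b | b <;> simp [a, b]
  · haveI := Fintype.ofFinite (c \ Set.range ψ' : Set _)
    have hs : ∀ F : IrrCharacter H → ℂ, ∑ η ∈ bfin (c \ Set.range ψ'), F η =
        ∑ j : (c \ Set.range ψ' : Set _), F j := fun F => sum_subtype _ (fun _ => mem_bfin) F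
    have hs' : ∀ F : IrrCharacter G → ℂ, ∑ η ∈ bfin (B \ Set.range ψ), F η =
        ∑ j : (c \ Set.range ψ' : Set _), F (τ j) := fun F => by
      haveI := Fintype.ofFinite (B \ Set.range ψ : Set _)
      rw [τ.sum_comp fun j => F j]
      exact sum_subtype _ (fun _ => mem_bfin) F
    have h1 : signedBijectionKernel c I (fun η => δ' η * δ (I η)) g y =
        ∑ i, δ₀ * (ψ i : G → ℂ) g * (δ₀' * (ψ' i : H → ℂ) y) +
        ∑ j : (c \ Set.range ψ' : Set _), δ (τ j) * (τ j : G → ℂ) g * (δ' j * (j.1 : H → ℂ) y) := by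
      rw [signedBijectionKernel, H8.finsum_mem_bfin, sum_bfin_split s'.inj s'.mem, hs]
      congr 1 <;> refine sum_congr rfl fun i _ => ?_
      · rw [hI1, s.eq0, s'.eq0]; push_cast; ring
      · rw [hI2]; push_cast; ring
    have h2 : signedBijectionKernel c I (fun η => δ' η * δ (I η)) g y =
        ∑ i, δ₀' * (ψ' i : H → ℂ) y * (δ₀ * (ψ i : G → ℂ) g) +
        ∑ j : (c \ Set.range ψ' : Set _), δ' j * (j.1 : H → ℂ) y * (δ (τ j) * (τ j : G → ℂ) g) := by
      rw [h1]; simp only [mul_comm (_ * (_ : H → ℂ) y)]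
    have h3 := fun (hy : ¬ p ∣ orderOf y) => half h s hM (fun j => τ j) (fun j => (τ j).2)
      (fun j => δ' j * (j.1 : H → ℂ) y)
      (fun j => mul_mem (intCast_mem _ _) (H8.char_mem j.1.2.isGen _))
      (fun i => δ₀' * (ψ' i : H → ℂ) y) (fun i => by rw [← s'.reg i y hy, hs]) g
    have h4 := fun (hg : ¬ p ∣ orderOf g) => half h' s' hM (fun j : (c \ Set.range ψ' : Set _) => j)
      (fun j => j.2) (fun j => δ (τ j) * (τ j : G → ℂ) g)
      (fun j => mul_mem (intCast_mem _ _) (H8.char_mem (τ j).1.2.isGen _))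
      (fun i => δ₀ * (ψ i : G → ℂ) g) (fun i => by rw [← s.reg i g hg, hs']) y
    simp only [← h1, ← h2] at h3 h4
    simp only [← mem_locRing, IsPRegular]
    by_cases hg : p ∣ orderOf g <;> by_cases hy : p ∣ orderOf y
    · obtain ⟨a, a1, a2, a3, a4⟩ := sing h s hg
      obtain ⟨b, b1, b2, b3, b4⟩ := sing h' s' hy
      have h5 : ∀ v w : P, ∃ n : ℕ, a v * b w * (∑ i : Orb A, i.osum v * i.osum w + Nat.card A) =
          a v * b w * (n * Nat.card P) := fun v w => by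
        by_cases hv : v = 1
        · exact ⟨0, by simp [hv, a1]⟩
        by_cases hw : w = 1
        · exact ⟨0, by simp [hw, b1]⟩
        obtain ⟨n, hn⟩ := kappa h s hv hw
        exact ⟨n, by rw [hn]⟩
      choose n hn using h5
      have h6 : signedBijectionKernel c I (fun η => δ' η * δ (I η)) g y =
          ∑ v, ∑ w, a v * b w * (n v w * Nat.card P) := by
        simp only [h1, a3, b3, fun j => a4 _ (τ j).2, fun j : (c \ Set.range ψ' : Set _) => b4 _ j.2,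
          ← hn, neg_mul_neg, sum_const, card_univ, ← Nat.card_eq_fintype_card, s'.card, mul_add,
          sum_add_distrib, nsmul_eq_mul, sum_mul_sum]
        simp only [mul_sum]
        congr 1
        · rw [sum_comm]
          refine sum_congr rfl fun v _ => sum_comm.trans (sum_congr rfl fun w _ =>
            sum_congr rfl fun i _ => by ring)
        · exact sum_congr rfl fun v _ => sum_congr rfl fun w _ => by ring
      refine ⟨?_, ?_, Or.inl (by simp [hg, hy])⟩ <;> simp only [h6, sum_div] <;>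
        refine Subring.sum_mem _ fun v _ => Subring.sum_mem _ fun w _ => ?_
      · convert mul_mem (mul_mem (a2 v).2 (b2 w).1) (natCast_mem _ (n v w)) using 1
        ring
      · convert mul_mem (mul_mem (a2 v).1 (b2 w).2) (natCast_mem _ (n v w)) using 1
        ring
    · simp [(h3 hy).2 hg]
    · simp [(h4 hg).2 hy]
    · exact ⟨(h3 hy).1, (h4 hg).1, Or.inl (by simp [hg, hy])⟩
  · rcases hcase η hη with ⟨i, rfl⟩ | ⟨j, rfl⟩
    · exact iff_of_true ⟨i, rfl⟩ ⟨i, (hI1 i).symm⟩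
    · exact iff_of_false j.2.2 (by rw [hI2]; exact (τ j).2.2)

end FS

/-- transport of column data along an isomorphism -/
theorem FB.transport {P' : Type*} [Group P'] [Fintype P'] {A' : Subgroup (MulAut P')}
    (h : FB M p B A x) (σ : P' ≃* P)
    (hA : ∀ α : MulAut P', α ∈ A' ↔ (σ.symm.trans α).trans σ ∈ A) :
    FB M p B A' fun χ v => x χ (σ v) := by
  have h1 : ∀ {v : P'}, v ≠ 1 → σ v ≠ 1 := fun hv => by simpa using hv
  refine ⟨⟨fun a b => σ.injective (by rw [map_mul, map_mul, h.comm]), fun α hα v hv e => ?_,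
    fun χ hχ => ?_, fun χ hχ α hα v hv => ?_, fun χ hχ v hv => h.ne χ hχ _ (h1 hv),
    fun v hv => (h.orth _ (h1 hv)).trans (by rw [Nat.card_congr σ.toEquiv]),
    fun u hu v hv e => h.orth' _ (h1 hu) _ (h1 hv) fun α hα e' => ?_⟩,
    fun u hu => h.reg _ (h1 hu), fun g hg => ?_⟩
  · have := h.free _ ((hA α).1 hα) _ (h1 hv) (by simp [e])
    exact MulEquiv.ext fun w => σ.injective (by simpa using MulEquiv.congr_fun this (σ w))
  · obtain ⟨η, a1, -, a3⟩ := h.ext χ hχ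
    exact (extQ_of_isGen (a1.comp σ.toMonoidHom)).congr fun v hv => a3 _ (h1 hv)
  · simpa using h.stab χ hχ _ ((hA α).1 hα) _ (h1 hv)
  · refine e ((σ.trans α).trans σ.symm) ((hA _).2 ?_) (by simp [e'])
    convert hα using 1
    ext; simp
  · obtain ⟨c, a1, a2, a3⟩ := h.sing g hg
    refine ⟨fun v => c (σ v), by simp [a1], fun v => Nat.card_congr σ.toEquiv ▸ a2 _,
      fun χ hχ => (a3 χ hχ).trans (σ.toEquiv.sum_comp fun v => c v * x χ v).symm⟩

end Cfsg.Agent.H6
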