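import Cfsg.Agent.H6.Fr7

/-!
# Small inertial quotients; comparison with local subgroups
-/

set_option autoImplicit false
set_option linter.unusedSectionVars false
set_option linter.style.haveILetI false
set_option warn.classDefReducibility false

namespace Cfsg.Agent.H6

open MonoidAlgebra Cfsg Cfsg.Agent.H3 Cfsg.Agent.H4 Cfsg.Agent.H7
open Cfsg.Agent.H8 (bfin mem_bfin)
attribute [local instance] H8.subFintype

section aut
variable {P : Type*} [Group P] [Fintype P] (hc : ∀ a b : P, a * b = b * a)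
include hc

theorem aut_eq_one_of_fix {p : ℕ} [hp : Fact p.Prime] (hP : IsPGroup p P) {α : MulAut P}
    (hα : ¬ p ∣ orderOf α) (h : ∀ v, v ^ p = 1 → α v = v) : α = 1 := by
  have h1 : ∀ n, ∀ v : P, v ^ p ^ n = 1 → α v = v := by
    intro n
    induction n with
    | zero => intro v hv; rw [pow_zero, pow_one] at hv; rw [hv, map_one]
    | succ n ih =>
      intro v hv
      have h2 : (α v * v⁻¹) ^ p = 1 := by
        rw [Commute.mul_pow (hc _ _), ← map_pow, ih _ (by rw [← pow_mul, ← pow_succ', hv]), inv_pow,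
          mul_inv_cancel]
      have h3 : ∀ m, (α ^ m) v = (α v * v⁻¹) ^ m * v := fun m => by
        induction m with
        | zero => simp
        | succ m ih =>
          rw [pow_succ', MulAut.mul_apply, ih, map_mul, map_pow, h _ h2, pow_succ, mul_assoc,
            inv_mul_cancel_right]
      have h4 := h3 (orderOf α)
      rw [pow_orderOf_eq_one, MulAut.one_apply, right_eq_mul] at h4
      exact mul_inv_eq_one.1 ((pow_eq_one_iff_of_coprime
        ((Nat.Prime.coprime_iff_not_dvd hp.out).2 hα)).1 ⟨h2, h4⟩)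
  ext v
  obtain ⟨n, hn⟩ := hP v
  exact h1 n v hn

variable (hP : IsPGroup 2 P) (h4 : ∀ s : Finset P, (∀ v ∈ s, v ^ 2 = 1) → s.card ≤ 4)
  {A : Subgroup (MulAut P)} (hA : ¬ 2 ∣ Nat.card A)
include hP h4 hA

theorem free_of_four : ∀ α ∈ A, ∀ v ≠ 1, α v = v → α = 1 := by
  classical
  intro α hα v hv e
  have ho : ¬ 2 ∣ orderOf α := fun h => hA (h.trans (Subgroup.orderOf_dvd_natCard A hα))
  obtain ⟨a, ha, ha2⟩ := exists_orderOf_eq_prime (P := Subgroup.zpowers v) (hP.to_subgroup _)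
    (by simpa using hv)
  obtain ⟨n, rfl⟩ := ha
  have ha : α (v ^ n) = v ^ n := by rw [map_zpow, e]
  simp only at ha2
  generalize v ^ n = a at ha ha2
  have ha1 : a ≠ 1 := by rintro rfl; simp at ha2
  refine aut_eq_one_of_fix hc hP ho fun b hb => ?_
  have h2 : (α ^ 2) b = b := by
    by_contra h2
    have h3 : α b ≠ b := fun h => h2 (by simp [pow_two, h])
    have h5 : ∀ c, α c = c → c ≠ b ∧ c ≠ α b ∧ c ≠ α (α b) := fun c h =>
      ⟨fun e => h3 (e ▸ h), fun e => h3 (by rw [← α.injective (h.trans e), h]), fun e => h3 (by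
        rw [← α.injective (h.trans (α.injective (h.trans e))), h])⟩
    have := h4 {1, a, b, α b, α (α b)} (by
      simp [hb, ← map_pow, ha2 ▸ pow_orderOf_eq_one a])
    rw [Finset.card_insert_of_notMem (by simp [ha1.symm, h5 1 (map_one α)]),
      Finset.card_insert_of_notMem (by simp [h5 a ha]), Finset.card_insert_of_notMem (by
        simpa [h3.symm, pow_two, eq_comm] using h2), Finset.card_pair (by simpa using h3.symm)] at this
    omega
  have h3 : ∀ m, (α ^ (2 * m)) b = b := fun m => by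
    rw [pow_mul]
    exact MulAction.stabilizer (MulAut P) b |>.pow_mem h2 m
  obtain ⟨m, hm⟩ : Odd (orderOf α) := Nat.not_even_iff_odd.1 fun h => ho h.two_dvd
  have := pow_orderOf_eq_one α
  rw [hm, pow_succ'] at this
  simpa [h3] using MulEquiv.congr_fun this b

theorem card_of_four [Nontrivial P] : Nat.card A = 1 ∨ Nat.card A = 3 := by
  classical
  obtain ⟨a, -, ha⟩ := exists_orderOf_eq_prime (P := ⊤) (hP.to_subgroup _) top_ne_bot
  have ha1 : a ≠ 1 := by rintro rfl; simp at ha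
  have := h4 (insert 1 (Finset.univ.image fun α : A => α.1 a)) (by simp [← map_pow, ← ha])
  rw [Finset.card_insert_of_notMem (by simpa using ha1), Finset.card_image_of_injective _ fun α β e =>
    inv_mul_eq_one.1 (Subtype.ext (free_of_four hc hP h4 hA _ (α⁻¹ * β).2 a ha1 (by
      simp [← show α.1 a = β.1 a from e]))), Finset.card_univ, ← Nat.card_eq_fintype_card] at this
  have := Nat.card_pos (α := A)
  omega

end aut

theorem card_aut_congr {P P' : Type*} [Group P] [Group P'] {A : Subgroup (MulAut P)}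
    {A' : Subgroup (MulAut P')} (σ : P' ≃* P)
    (hA : ∀ α : MulAut P', α ∈ A' ↔ (σ.symm.trans α).trans σ ∈ A) : Nat.card A' = Nat.card A :=
  Nat.card_congr ((MulAut.congr σ).toEquiv.subtypeEquiv hA)

theorem free_of_autOf {G : Type*} [Group G] {T P : Subgroup G}
    (hT : T ≤ Subgroup.normalizer (P : Set G)) (h : ∀ α ∈ autOf T P, ∀ v ≠ 1, α v = v → α = 1) :
    ∀ g ∈ T, ∀ x ∈ P, x ≠ 1 → g * x * g⁻¹ = x → g ∈ Subgroup.centralizer (P : Set G) := by
  intro g hg x hx h1 e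
  obtain ⟨α, hα, h2⟩ := exists_autOf hT hg
  obtain rfl := h α hα ⟨x, hx⟩ (by simpa using h1) (Subtype.ext ((h2 _).trans e))
  exact mem_centralizer_iff_conj.2 fun q hq => (h2 ⟨q, hq⟩).symm

variable {M : Ideal AlgInt} [hMm : M.IsMaximal] {G : Type*} [Group G] [Fintype G] {p : ℕ}
  [hp : Fact p.Prime] (hM : IsPModular p M) {P : Subgroup G} {e : (Res M)[G]}
include hM

theorem maxP_top_of_ind {H : Subgroup G} {c : Set (IrrCharacter H)} {B : Set (IrrCharacter G)}
    (hc : IsInducedBlock M H c B) (hB : IsDefectGroup p M B P)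
    (hD : IsDefectGroup p M c (P.subgroupOf H)) (hPH : P ≤ H)
    (hC : Subgroup.centralizer (P : Set G) ≤ H) :
    ∃ e, MaxP p ⊤ ⊤ (eB M B) P e ∧ MaxP p H H (eb M H c) P e := by
  haveI := charP_res hM
  have h1 := IsInducedBlock.ind hc
  have h2 := (isDefectGroup_iff hM hc.2.1).1 hB
  have h3 := (isDefectGroup_subgroupOf_iff' hM hc.1 hPH).1 hD
  obtain ⟨e, S⟩ := exists_maxP le_rfl Subgroup.le_normalizer h1.left h3
  have h4 : CK ⊤ P ≤ H := (CK_top P).trans_le hC
  have h5 := CK_eq_of_le le_top h4 ▸ S.blk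
  exact ⟨e, ⟨le_rfl, Subgroup.le_normalizer, h1.right, h2, h5,
    (ind_iff_of_pair le_top h2.isPGroup hPH h4 h1.left h5 S.br_mul h1.right).1 h1⟩, S⟩

variable (hab : P ≤ Subgroup.centralizer (P : Set G))
  (hfree : ∀ g ∈ NS ⊤ P e, ∀ x ∈ P, x ≠ 1 → g * x * g⁻¹ = x → g ∈ Subgroup.centralizer (P : Set G))
include hab hfree

theorem exists_sub {H : Subgroup G} {c : Set (IrrCharacter H)} (S : MaxP p H H (eb M H c) P e)
    (hT : NS ⊤ P e ≤ H) : ∃ (P' : Subgroup H) (e' : (Res M)[H]) (σ : P ≃* P'),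
      MaxP p ⊤ ⊤ (eB M c) P' e' ∧ P' ≤ Subgroup.centralizer (P' : Set H) ∧
      (∀ g ∈ NS ⊤ P' e', ∀ x ∈ P', x ≠ 1 → g * x * g⁻¹ = x → g ∈ Subgroup.centralizer (P' : Set H)) ∧
      ∀ α : MulAut P, α ∈ autOf (NS ⊤ P e) P ↔
        (σ.symm.trans α).trans σ ∈ autOf (NS ⊤ P' e') P' := by
  obtain ⟨P, e, rfl, rfl, S'⟩ := exists_pull hM S
  have hφ := H.subtype_injective
  have h1 : ∀ g : H, g ∈ NS ⊤ P e ↔ (g : G) ∈ NS ⊤ (P.map H.subtype) (push _ H.subtype e) :=
    fun g => (mem_NS_push hφ).symm.trans ⟨fun h => ⟨h.1, trivial, h.2.2⟩,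
      fun h => ⟨h.1, ⟨g, trivial, rfl⟩, h.2.2⟩⟩
  let σ := P.equivMapOfInjective _ hφ
  have h2 : ∀ v, ((σ.symm v : H) : G) = v := fun v => by
    obtain ⟨v, rfl⟩ := σ.surjective v
    rw [σ.symm_apply_apply]; rfl
  refine ⟨P, e, σ.symm, S', fun x hx => (mem_centralizer_map_iff hφ).1 (hab ⟨x, hx, rfl⟩),
    fun g hg x hx hx1 h => (mem_centralizer_map_iff hφ).1 (hfree _ ((h1 g).1 hg) _ ⟨x, hx, rfl⟩
      (by simpa using hx1) (congrArg H.subtype h)), fun α => ?_⟩
  simp only [mem_autOf]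
  refine ⟨fun ⟨t, ht, h⟩ => ⟨⟨t, hT ht⟩, (h1 _).2 ht, fun u => hφ ((h2 _).trans (h _))⟩,
    fun ⟨t, ht, h⟩ => ⟨t, (h1 _).1 ht, fun u => ?_⟩⟩
  obtain ⟨u, rfl⟩ := σ.surjective u
  exact (h2 _).symm.trans (congrArg H.subtype (h u))

variable {B : Set (IrrCharacter G)} (hB : IsPBlock M B) (S : MaxP p ⊤ ⊤ (eB M B) P e)
include hB S

theorem card_eq_iff_rank : Nat.card B = (Nat.card P - 1) / Nat.card (autOf (NS ⊤ P e) P) +
    Nat.card (autOf (NS ⊤ P e) P) ↔ blockRank p B = Nat.card (autOf (NS ⊤ P e) P) := by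
  rw [card_eq_rank_add hM hB S hab hfree, card_orb_eq (comm_of_le_centralizer hab)
    (free_autOf hfree), add_comm, add_right_inj]

theorem rank_le (h1 : P ≠ ⊥) : blockRank p B ≤ Nat.card (autOf (NS ⊤ P e) P) := by
  haveI := (Subgroup.nontrivial_iff_ne_bot P).2 h1
  obtain ⟨ε, -, h⟩ := exists_fb hM hB S hab hfree
  have := h.toFD.card_le
  rw [H8.card_bfin, card_eq_rank_add hM hB S hab hfree] at this
  omega

theorem rank_eq_of_small (h1 : P ≠ ⊥) (h3 : Nat.card (autOf (NS ⊤ P e) P) ≤ 3)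
    (h7 : Nat.card P ≠ 7) (h13 : Nat.card P ≠ 13) :
    blockRank p B = Nat.card (autOf (NS ⊤ P e) P) := by
  haveI := (Subgroup.nontrivial_iff_ne_bot P).2 h1
  obtain ⟨ε, -, h⟩ := exists_fb hM hB S hab hfree
  have h2 := H8.blockRank_pos hp.out (H8.block_nonempty hB)
  have h4 := h.toFD.card_small h3
  have h5 := rank_le hM hab hfree hB S h1
  have h6 := card_orb_mul h.comm h.free
  rw [H8.card_bfin, card_eq_rank_add hM hB S hab hfree] at h4
  rcases h4 (by omega) with h4 | h4 | ⟨h4, h8⟩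
  · omega
  · rw [h4] at h6
    obtain ⟨n, hn⟩ := S.isDef.isPGroup.exists_card_eq
    have h9 : Nat.card P ≠ 10 := fun h => by
      have a := (Nat.prime_dvd_prime_iff_eq Nat.prime_two hp.out).1
        (Nat.prime_two.dvd_of_dvd_pow (hn.symm.trans h ▸ by norm_num : 2 ∣ p ^ n))
      have b := (Nat.prime_dvd_prime_iff_eq Nat.prime_five hp.out).1
        (Nat.prime_five.dvd_of_dvd_pow (hn.symm.trans h ▸ by norm_num : 5 ∣ p ^ n))
      omega
    omega
  · rw [h4, h8] at h6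
    omega

theorem exists_fs_of_rank (h1 : P ≠ ⊥) (h : blockRank p B = Nat.card (autOf (NS ⊤ P e) P))
    {Q : Type*} [Group Q] [Fintype Q] {A : Subgroup (MulAut Q)} (σ : Q ≃* P)
    (hA : ∀ α : MulAut Q, α ∈ A ↔ (σ.symm.trans α).trans σ ∈ autOf (NS ⊤ P e) P) :
    ∃ x ψ δ δ₀, FB M p B A x ∧ FS p B A x ψ δ δ₀ := by
  haveI := (Subgroup.nontrivial_iff_ne_bot P).2 h1
  haveI := σ.toEquiv.nontrivial
  obtain ⟨ε, -, h2⟩ := exists_fb hM hB S hab hfree
  have h3 := h2.transport σ hA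
  obtain ⟨ψ, δ, δ₀, h4⟩ := h3.exists_fs (by
    rw [(card_eq_iff_rank hM hab hfree hB S).2 h, card_orb_eq h3.comm h3.free, card_aut_congr σ hA,
      Nat.card_congr σ.toEquiv])
  exact ⟨_, ψ, δ, δ₀, h3, h4⟩

omit hM hfree S in
theorem two_four (hM : IsPModular 2 M) (S : MaxP 2 ⊤ ⊤ (eB M B) P e) (h1 : P ≠ ⊥)
    (h4 : ∀ s : Finset P, (∀ v ∈ s, v ^ 2 = 1) → s.card ≤ 4) :
    (∀ g ∈ NS ⊤ P e, ∀ x ∈ P, x ≠ 1 → g * x * g⁻¹ = x → g ∈ Subgroup.centralizer (P : Set G)) ∧
    (Nat.card (autOf (NS ⊤ P e) P) = 1 ∨ Nat.card (autOf (NS ⊤ P e) P) = 3) ∧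
    blockRank 2 B = Nat.card (autOf (NS ⊤ P e) P) := by
  haveI := (Subgroup.nontrivial_iff_ne_bot P).2 h1
  have hc := comm_of_le_centralizer hab
  have hA := not_dvd_card_autOf hM S hab
  have hf := free_of_autOf inf_le_left (free_of_four hc S.isDef.isPGroup h4 hA)
  have h3 := card_of_four hc S.isDef.isPGroup h4 hA
  have h2 : 2 ∣ Nat.card P := (S.isDef.isPGroup.card_eq_or_dvd).resolve_left
    (Finite.one_lt_card).ne'
  exact ⟨hf, h3, rank_eq_of_small hM hab hf hB S h1 (by omega) (by omega) (by omega)⟩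

end Cfsg.Agent.H6
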