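import Cfsg.Agent.S0495
import Cfsg.Agent.S2475
import Cfsg.Agent.S0808
import Cfsg.Agent.S5892
import Cfsg.Agent.H12.PSL2Dih
import Cfsg.Agent.H12.SmallRecog
import Cfsg.Agent.H26.SylNum
import Cfsg.Agent.H19.Basic
import Cfsg.Agent.H2.SS2

/-! The simple group of order 168: element orders, centralizers, classes, four-groups. -/

set_option autoImplicit false

namespace Cfsg.Agent.H6.G168

open Subgroup Cfsg.Agent.H11 Cfsg.Agent.H12

variable {G : Type*} [Group G] [Finite G] [IsSimpleGroup G] (h : Nat.card G = 168)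
include h

local instance : Fact (Nat.Prime 7) := ⟨by norm_num⟩

theorem equiv : Nonempty (G ≃* Matrix.ProjectiveSpecialLinearGroup (Fin 2) (ZMod 7)) :=
  S0495.result h (by simp)

theorem not_comm : ¬ IsMulCommutative G := H19.not_comm_of_card_not_prime (by rw [h]; norm_num)

theorem orders (g : G) :
    orderOf g = 1 ∨ orderOf g = 2 ∨ orderOf g = 3 ∨ orderOf g = 4 ∨ orderOf g = 7 := by
  obtain ⟨e⟩ := equiv h
  have h1 := S2475.result (F := ZMod 7) 7 (by simp)
  have h2 : orderOf (e g) ∈ Set.range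
    (orderOf : Matrix.ProjectiveSpecialLinearGroup (Fin 2) (ZMod 7) → ℕ) := ⟨_, rfl⟩
  rw [h1, e.orderOf_eq] at h2
  simp only [ZMod.card, Set.mem_setOf_eq] at h2
  norm_num at h2
  generalize orderOf g = m at h2
  rcases h2 with h2 | h2 | h2 <;> have := Nat.le_of_dvd (by norm_num) h2 <;> interval_cases m <;> omega

theorem exists_order_four : ∃ g : G, orderOf g = 4 := by
  obtain ⟨e⟩ := equiv h
  have h1 := S2475.result (F := ZMod 7) 7 (by simp)
  obtain ⟨g, hg⟩ : 4 ∈ Set.range
    (orderOf : Matrix.ProjectiveSpecialLinearGroup (Fin 2) (ZMod 7) → ℕ) := by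
    rw [h1]; simp
  exact ⟨e.symm g, by rw [e.symm.orderOf_eq, hg]⟩

theorem conj_invol {s t : G} (hs : orderOf s = 2) (ht : orderOf t = 2) : IsConj s t := by
  obtain ⟨e⟩ := equiv h
  have := psl2_isConj_invol (F := ZMod 7) (by decide) (x := e s) (y := e t)
    (by rw [e.orderOf_eq, hs]) (by rw [e.orderOf_eq, ht])
  simpa using e.symm.toMonoidHom.map_isConj this

theorem cent_invol {y : G} (hy : orderOf y = 2) :
    ∃ a s, IsDihedralPair (centralizer {y}) a s ∧ orderOf a = 2 * 2 ∧ y = a ^ 2 := by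
  obtain ⟨e⟩ := equiv h
  obtain ⟨a, s, h1, h2, h3⟩ := centralizer_invol (F := ZMod 7) (by decide) (x := e y)
    (by rw [e.orderOf_eq, hy]) (n := 2) (Or.inr (by simp))
  have h4 : centralizer {e y} = (centralizer {y}).map e.toMonoidHom := by
    ext x
    obtain ⟨x, rfl⟩ := e.surjective x
    rw [mem_centralizer_singleton_iff, ← map_mul, ← map_mul, e.apply_eq_iff_eq,
      ← mem_centralizer_singleton_iff]
    exact (mem_map_iff_mem (f := e.toMonoidHom) e.injective).symm
  rw [h4] at h1
  obtain ⟨a, s, rfl, rfl, h5⟩ := IsDihedralPair.of_map e.injective h1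
  refine ⟨a, s, h5, ?_, e.injective ?_⟩
  · rw [← h2]; exact (e.orderOf_eq a).symm
  · rw [h3, map_pow]; rfl

theorem card_cent_two {y : G} (hy : orderOf y = 2) : Nat.card (centralizer ({y} : Set G)) = 8 := by
  obtain ⟨a, s, h1, h2, -⟩ := cent_invol h hy
  rw [h1.card, h2]

theorem card_cent_prime {p : ℕ} (hp : p = 3 ∨ p = 7) {y : G} (hy : orderOf y = p) :
    Nat.card (centralizer ({y} : Set G)) = p := by
  have hpp : p.Prime := by rcases hp with rfl | rfl <;> norm_num
  haveI := Fact.mk hpp
  have h1 : IsPGroup p (centralizer ({y} : Set G)) := by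
    refine IsPGroup.of_card (n := (Nat.card (centralizer ({y} : Set G))).primeFactorsList.length)
      (Nat.eq_prime_pow_of_unique_prime_dvd Nat.card_pos.ne' fun {q} hq hd => ?_)
    by_contra hne
    haveI := Fact.mk hq
    obtain ⟨⟨x, hx⟩, hxo⟩ := exists_prime_orderOf_dvd_card' q hd
    rw [orderOf_mk] at hxo
    have h2 := Commute.orderOf_mul_eq_mul_orderOf_of_coprime
      (show Commute x y from mem_centralizer_singleton_iff.1 hx)
      (by rw [hxo, hy]; exact (Nat.coprime_primes hq hpp).2 hne)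
    rw [hxo, hy] at h2
    have := hq.two_le
    have := orders h (x * y)
    rcases hp with rfl | rfl <;> omega
  obtain ⟨k, hk⟩ := IsPGroup.iff_card.1 h1
  have h2 : p ∣ p ^ k := hk ▸ hy ▸ orderOf_dvd_natCard _ (mem_centralizer_singleton_iff.2 rfl)
  have h3 : p ^ k ∣ 168 := hk ▸ h ▸ card_subgroup_dvd_card _
  rw [hk]
  rcases k with _ | _ | k
  · exact absurd (Nat.le_of_dvd one_pos h2) (by have := hpp.two_le; omega)
  · simp
  · have := (pow_dvd_pow p (show 2 ≤ k + 1 + 1 by omega)).trans h3
    rcases hp with rfl | rfl <;> norm_num at this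

/-- An element of `C(y)` commuting with all of `C(y)` is `1` or `y`. -/
theorem eq_of_central {y z : G} (hy : orderOf y = 2) (hz : z ∈ centralizer ({y} : Set G))
    (hc : centralizer ({y} : Set G) ≤ centralizer {z}) : z = 1 ∨ z = y := by
  obtain ⟨a, s, h1, h2, h3⟩ := cent_invol h hy
  have ha := mem_centralizer_singleton_iff.1 (hc h1.left_mem)
  have hs := mem_centralizer_singleton_iff.1 (hc h1.right_mem)
  obtain ⟨k, rfl | rfl⟩ := h1.mem_iff.1 hz
  · have h4 : a ^ k * a ^ k = 1 := by
      have := conj_zpow (i := k) (a := s) (b := a)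
      rw [h1.2.2.1, hs, mul_inv_cancel_right, inv_zpow] at this
      rw [← eq_inv_iff_mul_eq_one, this]
    by_cases h5 : a ^ k = 1
    · exact Or.inl h5
    · exact Or.inr ((eq_pow_half_of_mem_zpowers h2 ⟨k, rfl⟩
        (orderOf_eq_prime (by rw [sq, h4]) h5)).trans h3.symm)
  · exfalso
    have h4 : a * s = s * a := by
      have : a * s * a ^ k = s * a * a ^ k := by
        rw [mul_assoc, ha, mul_assoc, mul_assoc, ((Commute.refl a).zpow_left k).eq]
      exact mul_right_cancel this
    have h5 := h1.2.2.1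
    rw [← h4, mul_inv_cancel_right, eq_inv_iff_mul_eq_one, ← sq, ← orderOf_dvd_iff_pow_eq_one, h2] at h5
    omega

theorem orderOf_sq {x : G} (hx : orderOf x = 4) : orderOf (x ^ 2) = 2 := by
  rw [orderOf_pow, hx]; rfl

theorem card_cent_four {x : G} (hx : orderOf x = 4) : Nat.card (centralizer ({x} : Set G)) = 4 := by
  have hy := orderOf_sq h hx
  have hle : centralizer ({x} : Set G) ≤ centralizer {x ^ 2} := fun g hg =>
    mem_centralizer_singleton_iff.2
      ((show Commute g x from mem_centralizer_singleton_iff.1 hg).pow_right 2)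
  have h1 := card_dvd_of_le hle
  rw [card_cent_two h hy] at h1
  have h2 : 4 ∣ Nat.card (centralizer ({x} : Set G)) :=
    hx ▸ orderOf_dvd_natCard _ (mem_centralizer_singleton_iff.2 rfl)
  have h3 : Nat.card (centralizer ({x} : Set G)) ≠ 8 := fun e => by
    have h4 := eq_of_le_of_card_ge hle (by rw [e, card_cent_two h hy])
    rcases eq_of_central h hy (hle (mem_centralizer_singleton_iff.2 rfl)) h4.ge with e | e
    · simp [e] at hx
    · rw [← e] at hy; omega
  have := Nat.le_of_dvd (by norm_num) h1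
  interval_cases Nat.card (centralizer ({x} : Set G)) <;> omega

theorem card_class {x : G} {n m : ℕ} (hx : Nat.card (centralizer ({x} : Set G)) = n)
    (hm : n * m = 168) : Nat.card {g : G // IsConj x g} = m := by
  have := H19.card_class_mul_card_centralizer x
  rw [hx, h, ← hm] at this
  exact Nat.eq_of_mul_eq_mul_left (Nat.pos_of_ne_zero (by rintro rfl; simp at hm)) this

theorem card_sylow_two (T : Sylow 2 G) : Nat.card (T : Subgroup G) = 8 :=
  (card_sylow_of_card (k := 3) (m := 21) T (by rw [h]; norm_num) (by norm_num)).1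

theorem sylow_two (T : Sylow 2 G) : ∃ y, orderOf y = 2 ∧ (T : Subgroup G) = centralizer {y} := by
  obtain ⟨y, hy⟩ := exists_prime_orderOf_dvd_card' (G := G) 2 (by rw [h]; norm_num)
  have h1 : IsPGroup 2 (centralizer ({y} : Set G)) := IsPGroup.of_card (n := 3) (card_cent_two h hy)
  obtain ⟨Q, hQ⟩ := h1.exists_le_sylow
  have h2 := eq_of_le_of_card_ge hQ (by rw [card_cent_two h hy, card_sylow_two h])
  obtain ⟨g, rfl⟩ := MulAction.exists_smul_eq G Q T
  refine ⟨g * y * g⁻¹, by rw [← MulAut.conj_apply, MulEquiv.orderOf_eq, hy], ?_⟩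
  rw [← cj_cent1, h2]; rfl

theorem normalizer_cent {y : G} (hy : orderOf y = 2) :
    normalizer ((centralizer ({y} : Set G) : Subgroup G) : Set G) = centralizer {y} := by
  refine le_antisymm (fun n hn => ?_) le_normalizer
  have h1 := cj_cent1 n y
  rw [cj_eq_iff.2 hn] at h1
  rcases eq_of_central h hy (z := n * y * n⁻¹) (h1 ▸ mem_centralizer_singleton_iff.2 rfl) h1.le with e | e
  · rw [conj_eq_one_iff] at e; simp [e] at hy
  · exact mem_centralizer_singleton_iff.2 (mul_inv_eq_iff_eq_mul.1 e)

theorem normalizer_sylow_two (T : Sylow 2 G) : normalizer ((T : Subgroup G) : Set G) = T := by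
  obtain ⟨y, hy, e⟩ := sylow_two h T
  rw [e, normalizer_cent h hy]

theorem normalizer_eq_of_card_eight {T : Subgroup G} (hT : Nat.card T = 8) :
    normalizer (T : Set G) = T := by
  obtain ⟨Q, hQ⟩ := (IsPGroup.of_card (p := 2) (n := 3) hT).exists_le_sylow
  rw [eq_of_le_of_card_ge hQ (by rw [hT, card_sylow_two h]), normalizer_sylow_two h]

theorem card_sylow_of {p n m : ℕ} [Fact p.Prime] (P : Sylow p G)
    (hn : Nat.card (normalizer ((P : Subgroup G) : Set G)) = n) (hm : n * m = 168) :
    Nat.card (Sylow p G) = m := by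
  have := (normalizer ((P : Subgroup G) : Set G)).card_mul_index
  rw [hn, h, ← hm] at this
  rw [P.card_eq_index_normalizer]
  exact Nat.eq_of_mul_eq_mul_left (Nat.pos_of_ne_zero (by rintro rfl; simp at hm)) this

theorem card_sylows_seven : Nat.card (Sylow 7 G) = 8 := by
  obtain ⟨P⟩ : Nonempty (Sylow 7 G) := inferInstance
  have h1 := P.card_dvd_index
  rw [(card_sylow_of_card (k := 1) (m := 24) P (by rw [h]; norm_num) (by norm_num)).2] at h1
  have h2 := card_sylow_modEq_one 7 G
  have h3 := H19.one_lt_card_sylow (not_comm h) 7 (by rw [h]; norm_num)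
  have := Nat.le_of_dvd (by norm_num) h1
  unfold Nat.ModEq at h2
  interval_cases Nat.card (Sylow 7 G) <;> omega

theorem card_normalizer_seven {x : G} (hx : orderOf x = 7) :
    Nat.card (normalizer ((zpowers x : Subgroup G) : Set G)) = 21 := by
  obtain ⟨Q, hQ⟩ := (IsPGroup.of_card (p := 7) (n := 1) (G := zpowers x) (by simp [hx])).exists_le_sylow
  rw [eq_of_le_of_card_ge hQ (by
    rw [(card_sylow_of_card (k := 1) (m := 24) Q (by rw [h]; norm_num) (by norm_num)).1]; simp [hx])]
  have := (normalizer ((Q : Subgroup G) : Set G)).card_mul_index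
  have h2 := card_sylows_seven h
  rw [Q.card_eq_index_normalizer] at h2
  change (normalizer ((Q : Subgroup G) : Set G)).index = 8 at h2
  rw [h2, h] at this
  omega

theorem card_sylows_three : Nat.card (Sylow 3 G) = 28 := by
  obtain ⟨P⟩ : Nonempty (Sylow 3 G) := inferInstance
  have h1 := (card_sylow_of_card (k := 1) (m := 56) P (by rw [h]; norm_num) (by norm_num)).1
  haveI : IsCyclic (P : Subgroup G) := isCyclic_of_prime_card (p := 3) h1
  obtain ⟨x, hx⟩ := (Subgroup.isCyclic_iff_exists_zpowers_eq_top (P : Subgroup G)).1 inferInstance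
  have h2 : Nat.card (centralizer ((P : Subgroup G) : Set G)) = 3 := by
    rw [← hx, zpowers_eq_closure, centralizer_closure]
    exact card_cent_prime h (Or.inl rfl) (by rw [← Nat.card_zpowers, hx, h1]; rfl)
  have h3 := H26.relIndex_centralizer_dvd_of_card_prime Nat.prime_three h1
  have h4 := mt relIndex_eq_one.1 (H19.not_normalizer_le_centralizer (not_comm h) 3 (by rw [h]; norm_num) P)
  have h5 := ((Nat.dvd_prime Nat.prime_two).1 h3).resolve_left h4
  refine card_sylow_of h P (n := 6) ?_ rfl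
  have h6 := ((centralizer ((P : Subgroup G) : Set G)).subgroupOf
    (normalizer ((P : Subgroup G) : Set G))).card_mul_index
  rw [← relIndex, h5, Nat.card_congr (subgroupOfEquivOfLe (centralizer_le_normalizer _)).toEquiv, h2] at h6
  exact h6.symm

theorem not_conj_inv {x : G} (hx : orderOf x = 7) : ¬ IsConj x x⁻¹ := fun hc => by
  obtain ⟨g, hg⟩ := isConj_iff.1 hc
  have h1 : g ∈ normalizer ((zpowers x : Subgroup G) : Set G) := by
    rw [← cj_eq_iff, cj_zpowers, hg, zpowers_inv]
  have h2 := orderOf_dvd_natCard _ h1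
  rw [card_normalizer_seven h hx, orderOf_dvd_iff_pow_eq_one] at h2
  have h3 := odd_pow_swap hg (a := x) (by rw [← conj_inv, hg, inv_inv]) (m := 21) (by decide)
  rw [h2, one_mul, inv_one, mul_one, eq_inv_iff_mul_eq_one, ← sq, ← orderOf_dvd_iff_pow_eq_one, hx] at h3
  omega

omit [IsSimpleGroup G] h in
theorem ncard_le_of_conj {x : G} {n : ℕ} (hx : orderOf x = n) :
    {g : G | IsConj x g} ⊆ {g : G | orderOf g = n} := fun g hg => by
  obtain ⟨c, rfl⟩ := isConj_iff.1 hg
  change orderOf _ = n
  rw [← MulAut.conj_apply, MulEquiv.orderOf_eq, hx]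

theorem card_invol : Nat.card {g : G // orderOf g = 2} = 21 := by
  obtain ⟨y, hy⟩ := exists_prime_orderOf_dvd_card' (G := G) 2 (by rw [h]; norm_num)
  rw [← card_class (m := 21) h (card_cent_two h hy) rfl]
  exact Nat.card_congr (Equiv.subtypeEquivRight fun g =>
    ⟨conj_invol h hy, fun hg => ncard_le_of_conj hy hg⟩)

theorem counts : Nat.card {g : G // orderOf g = 3} = 56 ∧ Nat.card {g : G // orderOf g = 4} = 42 ∧
    Nat.card {g : G // orderOf g = 7} = 48 := by
  classical
  haveI := Fintype.ofFinite G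
  have h0 := Finset.card_eq_sum_card_fiberwise (f := fun g : G => orderOf g) (s := Finset.univ)
    (t := {1, 2, 3, 4, 7}) (fun g _ => by simpa using orders h g)
  simp only [← Fintype.card_subtype, ← Nat.card_eq_fintype_card, Finset.card_univ, h] at h0
  rw [Finset.sum_insert (by decide), Finset.sum_insert (by decide), Finset.sum_insert (by decide),
    Finset.sum_insert (by decide), Finset.sum_singleton, card_invol h] at h0
  have h1 : 0 < Nat.card {g : G // orderOf g = 1} := by
    haveI : Nonempty {g : G // orderOf g = 1} := ⟨⟨1, orderOf_one⟩⟩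
    exact Nat.card_pos
  obtain ⟨x3, h3⟩ := exists_prime_orderOf_dvd_card' (G := G) 3 (by rw [h]; norm_num)
  obtain ⟨x4, h4⟩ := exists_order_four h
  obtain ⟨x7, h7⟩ := exists_prime_orderOf_dvd_card' (G := G) 7 (by rw [h]; norm_num)
  have e3 := Set.ncard_le_ncard (ncard_le_of_conj h3)
  have e4 := Set.ncard_le_ncard (ncard_le_of_conj h4)
  have h7' : orderOf x7⁻¹ = 7 := by rw [orderOf_inv, h7]
  have e7 := Set.ncard_le_ncard (Set.union_subset (ncard_le_of_conj h7) (ncard_le_of_conj h7'))
  have hd : Disjoint {g : G | IsConj x7 g} {g : G | IsConj x7⁻¹ g} :=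
    Set.disjoint_left.2 fun g a b => not_conj_inv h h7 (IsConj.trans a (IsConj.symm b))
  rw [Set.ncard_union_eq hd] at e7
  simp only [← Nat.card_coe_set_eq, Set.coe_setOf] at e3 e4 e7
  rw [card_class (m := 56) h (card_cent_prime h (Or.inl rfl) h3) rfl] at e3
  rw [card_class (m := 42) h (card_cent_four h h4) rfl] at e4
  rw [card_class (m := 24) h (card_cent_prime h (Or.inr rfl) h7) rfl,
    card_class (m := 24) h (card_cent_prime h (Or.inr rfl) h7') rfl] at e7
  omega

omit [IsSimpleGroup G] h in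
theorem conj_of_count {s t : G} {n : ℕ} (hs : orderOf s = n) (ht : orderOf t = n)
    (hc : Nat.card {g : G // IsConj s g} = Nat.card {g : G // orderOf g = n}) : IsConj s t := by
  have := Set.eq_of_subset_of_ncard_le (ncard_le_of_conj hs) (by
    simp only [← Nat.card_coe_set_eq, Set.coe_setOf]; exact hc.ge)
  exact (this ▸ ht : t ∈ {g : G | IsConj s g})

theorem equiv_perm4 {M : Subgroup G} (hM : Nat.card M = 24) : Nonempty (M ≃* Equiv.Perm (Fin 4)) := by
  refine NoCyclicNormal.equiv_perm4 (noCyclicNormal_of_prime fun p x hp hx _ hi => ?_) hM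
  have h1 := (centralizer ({x} : Set M)).card_mul_index
  have h2 : Nat.card (centralizer ({x} : Set M)) ≤ Nat.card (centralizer ({(x : G)} : Set G)) := by
    rw [← card_subtype]
    refine card_le_of_le ?_
    rintro _ ⟨g, hg, rfl⟩
    exact mem_centralizer_singleton_iff.2 (congrArg Subtype.val (mem_centralizer_singleton_iff.1 hg))
  have h3 : p ∣ 24 := hM ▸ hx ▸ orderOf_dvd_natCard x
  rw [← orderOf_coe] at hx
  have h4 : p = 2 ∨ p = 3 := by
    have := Nat.le_of_dvd (by norm_num) h3
    interval_cases p <;> first | omega | norm_num at hp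
  rcases h4 with rfl | rfl
  · rw [card_cent_two h hx] at h2; nlinarith
  · rw [card_cent_prime h (Or.inl rfl) hx] at h2; nlinarith

omit [IsSimpleGroup G] h in
theorem le_normalizer_of_card {V T : Subgroup G} (hVT : V ≤ T) (hV : Nat.card V = 4)
    (hT : Nat.card T = 8) : T ≤ normalizer (V : Set G) := by
  have h1 := (V.subgroupOf T).card_mul_index
  rw [Nat.card_congr (subgroupOfEquivOfLe hVT).toEquiv, hV, hT] at h1
  exact (normal_subgroupOf_iff_le_normalizer hVT).1 (normal_of_index_eq_two (by omega))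

theorem card_normalizer_klein {V : Subgroup G} (hV : IsKleinFour V) :
    Nat.card (normalizer (V : Set G)) = 24 := by
  obtain ⟨a, ha, b, hb, ha1, hb1, hab⟩ := klein_exists_gens hV
  have key : ∀ c ∈ V, c ≠ 1 → centralizer {c} ≤ normalizer (V : Set G) := fun c hc hc1 =>
    le_normalizer_of_card (fun v hv => mem_centralizer_singleton_iff.2 (klein_comm hV hv hc))
      hV.card_four (card_cent_two h (klein_orderOf hV hc hc1))
  have hao := klein_orderOf hV ha ha1
  have hbo := klein_orderOf hV hb hb1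
  have h1 := card_dvd_of_le (key a ha ha1)
  rw [card_cent_two h hao] at h1
  have h2 : Nat.card (normalizer (V : Set G)) ≠ 8 := fun e => by
    have e1 := eq_of_le_of_card_ge (key a ha ha1) (by rw [e, card_cent_two h hao])
    have e2 := eq_of_le_of_card_ge (key b hb hb1) (by rw [e, card_cent_two h hbo])
    rcases eq_of_central h hao (mem_centralizer_singleton_iff.2 (klein_comm hV hb ha))
      (e1.trans e2.symm).le with e | e
    · exact hb1 e
    · exact hab e.symm
  have h3 := H19.two_mul_card_dvd_factorial_index (not_comm h) _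
    (H19.normalizer_ne_top_of_isPGroup (not_comm h) 2 V (klein_isPGroup hV)
      (fun e => ha1 (by rwa [e] at ha)))
  have h4 := (normalizer (V : Set G)).card_mul_index
  rw [h] at h3 h4
  obtain ⟨k, hk⟩ := h1
  rw [hk] at h4 h2 ⊢
  have h5 : k ∣ 21 := ⟨(normalizer (V : Set G)).index, by linarith⟩
  have := Nat.le_of_dvd (by norm_num) h5
  generalize (normalizer (V : Set G)).index = i at h3 h4
  interval_cases k <;> try omega
  · obtain rfl : i = 3 := by omega
    norm_num [Nat.factorial] at h3
  · obtain rfl : i = 1 := by omega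
    norm_num [Nat.factorial] at h3

theorem eq_of_normalizer_eq {U W : Subgroup G} (hU : IsKleinFour U) (hW : IsKleinFour W)
    (e : normalizer (U : Set G) = normalizer (W : Set G)) : U = W := by
  by_contra hne
  have h1 : IsPGroup 2 (U ⊔ W : Subgroup G) :=
    (klein_isPGroup hU).to_sup_of_normal_right' (klein_isPGroup hW) (e ▸ le_normalizer)
  obtain ⟨Q, hQ⟩ := h1.exists_le_sylow
  have h2 := card_dvd_of_le hQ
  rw [card_sylow_two h] at h2
  have h3 := card_dvd_of_le (le_sup_left : U ≤ U ⊔ W)
  rw [hU.card_four] at h3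
  have h4 : Nat.card (U ⊔ W : Subgroup G) ≠ 4 := fun e' => hne
    ((eq_of_le_of_card_ge le_sup_left (by rw [e', hU.card_four])).trans
      (eq_of_le_of_card_ge le_sup_right (by rw [e', hW.card_four])).symm)
  have h5 : Nat.card (U ⊔ W : Subgroup G) = 8 := by
    have := Nat.le_of_dvd (by norm_num) h2
    interval_cases Nat.card (U ⊔ W : Subgroup G) <;> omega
  have h6 := normalizer_inf_normalizer_le_normalizer_sup U W
  rw [← e, inf_idem, normalizer_eq_of_card_eight h h5] at h6
  have := card_le_of_le h6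
  rw [h5, card_normalizer_klein h hU] at this
  omega

/-- The two classes of four-groups, both represented in the centralizer of a given involution. -/
theorem klein_two {y : G} (hy : orderOf y = 2) : ∃ V₁ V₂ : Subgroup G, IsKleinFour V₁ ∧ IsKleinFour V₂ ∧
    V₁ ≤ centralizer {y} ∧ V₂ ≤ centralizer {y} ∧ (∀ g, V₂ ≠ cj g V₁) ∧
    (∀ U : Subgroup G, IsKleinFour U → U ≤ centralizer {y} → U = V₁ ∨ U = V₂) ∧
    ∀ U : Subgroup G, IsKleinFour U → (∃ g, U = cj g V₁) ∨ ∃ g, U = cj g V₂ := by
  obtain ⟨a, s, hD, ho, hxa⟩ := cent_invol h hy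
  have hconj := fun z => conj_invol (t := z) h hy
  have hyz : y ∈ zpowers a := hxa ▸ pow_mem (mem_zpowers a) 2
  have hK : ∀ b ∈ zpowers a, IsKleinFour (closure {y, s * b}) := fun b hb =>
    isKleinFour_closure hy (hD.orderOf_mul hb).2.2 (fun e => (hD.orderOf_mul hb).1 (e ▸ hyz))
      (mem_centralizer_singleton_iff.1 (hD.orderOf_mul hb).2.1).symm
  have hV : IsKleinFour (closure {y, s}) := mul_one s ▸ hK 1 (one_mem _)
  have hyC : y ∈ centralizer ({y} : Set G) := mem_centralizer_singleton_iff.2 rfl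
  have hle : ∀ b ∈ centralizer ({y} : Set G), closure {y, b} ≤ centralizer ({y} : Set G) := fun b hb => by
    rw [closure_le]; rintro _ (rfl | rfl); exacts [hyC, hb]
  refine ⟨_, _, hV, hK a (mem_zpowers a), hle _ hD.right_mem, hle _ (mul_mem hD.right_mem hD.left_mem),
    fun g e => S0808.not_conj hconj hD ho hxa (by decide) hV
      (twelve_mul_card_klein hy hconj fun z hz => cent_invol h hz) ⟨g, e⟩, fun U hU hUy => ?_,
    fun U hU => klein_conj_cases hconj hD ho hxa hU⟩
  have hy1 : y ≠ 1 := fun e => by simp [e] at hy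
  have hin : ∀ b ∈ U, b ≠ 1 → b ∈ zpowers a → b = y := fun b hb hb1 hz =>
    (eq_pow_half_of_mem_zpowers ho hz (klein_orderOf hU hb hb1)).trans hxa.symm
  have hyU : y ∈ U := by
    obtain ⟨b, hb, c, hc, hb1, hc1, hbc⟩ := klein_exists_gens hU
    obtain ⟨i, rfl | rfl⟩ := hD.mem_iff.1 (hUy hb)
    · exact hin _ hb hb1 ⟨i, rfl⟩ ▸ hb
    obtain ⟨j, rfl | rfl⟩ := hD.mem_iff.1 (hUy hc)
    · exact hin _ hc hc1 ⟨j, rfl⟩ ▸ hc
    have h1 := mul_mem (inv_mem hb) hc
    exact hin _ h1 (fun e => hbc (inv_mul_eq_one.1 e)) ⟨-i + j, by simp only; group⟩ ▸ h1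
  obtain ⟨b, hb, hb1, hby⟩ := klein_exists_other hU y
  obtain ⟨i, rfl | rfl⟩ := hD.mem_iff.1 (hUy hb)
  · exact absurd (hin _ hb hb1 ⟨i, rfl⟩) hby
  have h1 : ∀ c, IsKleinFour (closure {y, c}) → s * a ^ i ∈ closure {y, c} → U = closure {y, c} :=
    fun c hc hm => (klein_eq_closure hU hyU hb hy1 hb1 hby.symm).trans
      (klein_eq_closure hc (subset_closure (by simp)) hm hy1 hb1 hby.symm).symm
  obtain ⟨j, rfl | rfl⟩ := Int.even_or_odd' i
  · refine Or.inl (h1 _ hV (mul_mem (subset_closure (by simp)) ?_))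
    rw [zpow_mul, zpow_ofNat, ← hxa]
    exact zpow_mem (subset_closure (by simp)) j
  · refine Or.inr (h1 _ (hK a (mem_zpowers a)) ?_)
    rw [add_comm, zpow_add, zpow_one, ← mul_assoc, zpow_mul, zpow_ofNat, ← hxa]
    exact mul_mem (subset_closure (by simp)) (zpow_mem (subset_closure (by simp)) j)

theorem card_coatom {M : Subgroup G} (hM : IsCoatom M) : Nat.card M = 21 ∨ Nat.card M = 24 := by
  obtain ⟨e⟩ := equiv h
  have h1 := S5892.result (F := ZMod 7) 7 (by simp; decide) (by simp) (M.map e.toMonoidHom)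
    ((e.mapSubgroup.isCoatom_iff M).2 hM)
  rw [card_map_of_injective e.injective] at h1
  simp only [ZMod.card] at h1
  rcases h1 with h1 | h1 | h1 | ⟨F, _, _, h1, -⟩ | ⟨F, _, _, r, hr, -, h1, -⟩ | h1 | h1 | ⟨-, -, ⟨f⟩⟩
  · omega
  · omega
  · omega
  · have := (Nat.Prime.pow_eq_iff (by norm_num : Nat.Prime 7)).1 h1.symm; omega
  · have := (Nat.Prime.pow_eq_iff (by norm_num : Nat.Prime 7)).1 h1.symm
    exact absurd (this.2 ▸ hr) Nat.not_prime_one
  · omega
  · omega
  · right
    rw [← card_map_of_injective (f := e.toMonoidHom) e.injective, Nat.card_congr f.toEquiv, Nat.card_perm]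
    simp [Nat.factorial]

theorem eq_normalizer_of_card_21 {M : Subgroup G} (hM : Nat.card M = 21) :
    ∃ x ∈ M, orderOf x = 7 ∧ M = normalizer ((zpowers x : Subgroup G) : Set G) := by
  obtain ⟨⟨x, hx⟩, ho⟩ := exists_prime_orderOf_dvd_card' (G := M) 7 (by rw [hM]; norm_num)
  rw [orderOf_mk] at ho
  refine ⟨x, hx, ho, eq_of_le_of_card_ge ?_ (by rw [hM, card_normalizer_seven h ho])⟩
  have hle := zpowers_le.2 hx
  have h1 := ((zpowers x).subgroupOf M).card_mul_index
  rw [Nat.card_congr (subgroupOfEquivOfLe hle).toEquiv, Nat.card_zpowers, ho, hM] at h1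
  refine (normal_subgroupOf_iff_le_normalizer hle).1 (normal_of_index_eq_minFac_card ?_)
  rw [hM, show Nat.minFac 21 = 3 by norm_num]; omega

theorem eq_normalizer_of_card_24 {M : Subgroup G} (hM : Nat.card M = 24) :
    ∃ V : Subgroup G, IsKleinFour V ∧ M = normalizer (V : Set G) := by
  obtain ⟨e⟩ := equiv_perm4 h hM
  have h4 : Nat.card (Fin 4) = 4 := by simp
  haveI := alternatingGroup.characteristic_kleinFour h4
  have hK := isKleinFour_map_subtype (alternatingGroup.kleinFour_isKleinFour h4)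
  have hn : ((alternatingGroup.kleinFour (Fin 4)).map (alternatingGroup (Fin 4)).subtype).Normal :=
    inferInstance
  generalize (alternatingGroup.kleinFour (Fin 4)).map (alternatingGroup (Fin 4)).subtype = K at hK hn
  have hK' : IsKleinFour (K.map e.symm.toMonoidHom) := by
    rw [isKleinFour_iff] at hK ⊢
    refine ⟨by rw [card_map_of_injective e.symm.injective, hK.1], ?_⟩
    rintro _ ⟨x, hx, rfl⟩
    rw [← map_mul, hK.2 x hx, map_one]
  have hV := isKleinFour_map_subtype hK'
  refine ⟨_, hV, eq_of_le_of_card_ge ?_ (by rw [hM, card_normalizer_klein h hV])⟩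
  refine (normal_subgroupOf_iff_le_normalizer (map_subtype_le _)).1 ?_
  rw [subgroupOf, comap_map_eq_self_of_injective M.subtype_injective]
  exact hn.map _ e.symm.surjective

end Cfsg.Agent.H6.G168
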