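import Cfsg.Agent.H5.Clifford3
import Cfsg.Agent.H2.Basic

/-! Monomial characters, characters of direct powers, wreath products with a group of prime order. -/

set_option autoImplicit false

namespace Cfsg.Agent.H6

open Cfsg Cfsg.Agent.H4 Cfsg.Agent.H5 Subgroup ComplexConjugate

universe u

/-- A monomial function: induced from a linear character of a subgroup. -/
def IsMono (G : Type*) [Group G] [Fintype G] (χ : G → ℂ) : Prop :=
  ∃ (H : Subgroup G) (lam : H →* ℂˣ), χ = indFun H (fun h => (lam h : ℂ))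

section Mono

variable {G H : Type*} [Group G] [Group H] [Fintype G] [Fintype H]

theorem isMono_indHom_linear (f : H →* G) (hf : Function.Injective f) (lam : H →* ℂˣ) :
    IsMono G (indHom f (fun h => (lam h : ℂ))) :=
  ⟨f.range, lam.comp (MonoidHom.ofInjective hf).symm.toMonoidHom,
    indHom_eq_indFun_range f hf _⟩

theorem IsMono.indHom {θ : H → ℂ} (h : IsMono H θ) (f : H →* G) (hf : Function.Injective f) :
    IsMono G (indHom f θ) := by
  classical
  obtain ⟨U, lam, rfl⟩ := h
  rw [indHom_indFun]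
  exact isMono_indHom_linear (f.comp U.subtype) (hf.comp U.subtype_injective) lam

theorem IsMono.linear_mul {χ : G → ℂ} (h : IsMono G χ) (mu : G →* ℂˣ) :
    IsMono G ((fun g => (mu g : ℂ)) * χ) := by
  obtain ⟨U, lam, rfl⟩ := h
  refine ⟨U, lam * mu.comp U.subtype, ?_⟩
  rw [mul_comm, ← indFun_mul_res' U _ (isCharacter_linear mu).isClassFunction]
  congr 1

end Mono

section Pi

variable {ι D : Type*} [Fintype ι] [DecidableEq ι] [Group D]

/-- The outer product of functions on a direct power. -/
def piFun (φ : ι → D → ℂ) : (ι → D) → ℂ := fun f => ∏ i, φ i (f i)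

theorem isCharacter_piFun {φ : ι → D → ℂ} (h : ∀ i, IsCharacter D (φ i)) :
    IsCharacter (ι → D) (piFun φ) := by
  have : piFun φ = ∏ i, fun f : ι → D => φ i (f i) := by
    ext f; simp [piFun]
  rw [this]
  refine Finset.prod_induction _ (IsCharacter (ι → D)) (fun a b ha hb => ha.mul hb)
    isCharacter_one fun i _ => ?_
  exact (h i).comp (Pi.evalMonoidHom (fun _ => D) i)

variable [Fintype D]

theorem classInner_piFun (φ ψ : ι → D → ℂ) :
    classInner (piFun φ) (piFun ψ) = ∏ i, classInner (φ i) (ψ i) := by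
  simp only [classInner_def, piFun, Finset.prod_mul_distrib, Finset.prod_const, map_prod]
  rw [Finset.prod_univ_sum, Fintype.piFinset_univ, Nat.card_pi, Finset.prod_const]
  simp only [← Finset.prod_mul_distrib, Nat.cast_pow, inv_pow]

theorem isIrr_piFun {φ : ι → D → ℂ} (h : ∀ i, IsIrrCharacter D (φ i)) :
    IsIrrCharacter (ι → D) (piFun φ) :=
  (isCharacter_piFun fun i => (h i).isCharacter).isIrr_of_classInner_self (by
    rw [classInner_piFun]
    exact Finset.prod_eq_one fun i _ => (h i).classInner_self)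

theorem exists_piFun_eq {θ : (ι → D) → ℂ} (hθ : IsIrrCharacter (ι → D) θ) :
    ∃ φ : ι → D → ℂ, (∀ i, IsIrrCharacter D (φ i)) ∧ θ = piFun φ := by
  classical
  by_contra hne
  push Not at hne
  have h1 : regChar (ι → D) = ∑ c : ι → IrrCharacter D,
      (∏ i, (c i : D → ℂ) 1) • piFun (fun i => (c i : D → ℂ)) := by
    ext f
    have : regChar (ι → D) f = ∏ i, regChar D (f i) := by
      by_cases hf : f = 1
      · subst hf
        simp [regChar_one, Nat.card_pi]
      · rw [regChar_of_ne hf]
        obtain ⟨i, hi⟩ := Function.ne_iff.1 hf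
        exact (Finset.prod_eq_zero (f := fun i => regChar D (f i)) (Finset.mem_univ i)
          (regChar_of_ne hi)).symm
    rw [this]
    simp only [regChar_eq_sum (G := D), Finset.sum_apply, Pi.smul_apply, smul_eq_mul, piFun]
    rw [Finset.prod_univ_sum, Fintype.piFinset_univ]
    simp only [Finset.prod_mul_distrib]
  have h2 := classInner_regChar_right θ
  rw [h1, classInner_sum_right, Finset.sum_eq_zero] at h2
  · exact hθ.apply_one_ne_zero h2.symm
  intro c _
  rw [classInner_smul_right, hθ.classInner_of_ne (isIrr_piFun fun i => (c i).2)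
    (hne _ fun i => (c i).2), mul_zero]

omit [DecidableEq ι] [Fintype D] in
theorem extendByZero_pi (H : ι → Subgroup D) (lam : ∀ i, H i → ℂ) (y : ι → D) :
    extendByZero (Subgroup.pi Set.univ H)
      (fun h => ∏ i, lam i ⟨h.1 i, h.2 i trivial⟩) y = ∏ i, extendByZero (H i) (lam i) (y i) := by
  by_cases hy : y ∈ Subgroup.pi Set.univ H
  · rw [extendByZero_mem _ _ hy]
    exact Finset.prod_congr rfl fun i _ => (extendByZero_mem _ _ (hy i trivial)).symm
  · rw [extendByZero_not_mem _ _ hy]
    have : ∃ i, y i ∉ H i := by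
      by_contra h
      push Not at h
      exact hy fun i _ => h i
    obtain ⟨i, hi⟩ := this
    exact (Finset.prod_eq_zero (f := fun i => extendByZero (H i) (lam i) (y i))
      (Finset.mem_univ i) (extendByZero_not_mem _ _ hi)).symm

theorem indFun_pi (H : ι → Subgroup D) (lam : ∀ i, H i → ℂ) :
    indFun (Subgroup.pi Set.univ H) (fun h => ∏ i, lam i ⟨h.1 i, h.2 i trivial⟩) =
      piFun (fun i => indFun (H i) (lam i)) := by
  ext g
  have hc : Nat.card (Subgroup.pi Set.univ H) = ∏ i, Nat.card (H i) := by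
    rw [← Nat.card_pi]
    exact Nat.card_congr
      ⟨fun h i => ⟨h.1 i, h.2 i trivial⟩, fun h => ⟨fun i => h i, fun i _ => (h i).2⟩,
        fun _ => rfl, fun _ => rfl⟩
  simp only [indFun_apply, piFun, extendByZero_pi, Finset.prod_mul_distrib, hc, Nat.cast_prod,
    Finset.prod_inv_distrib]
  rw [Finset.prod_univ_sum, Fintype.piFinset_univ]
  rfl

/-- The product of linear characters on a product of subgroups. -/
def piLin (H : ι → Subgroup D) (lam : ∀ i, H i →* ℂˣ) : Subgroup.pi Set.univ H →* ℂˣ where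
  toFun h := ∏ i, lam i ⟨h.1 i, h.2 i trivial⟩
  map_one' := Finset.prod_eq_one fun i _ => map_one (lam i)
  map_mul' a b := by
    rw [← Finset.prod_mul_distrib]
    exact Finset.prod_congr rfl fun i _ => by rw [← map_mul]; rfl

theorem isMono_piFun {φ : ι → D → ℂ} (h : ∀ i, IsMono D (φ i)) : IsMono (ι → D) (piFun φ) := by
  choose H lam hH using h
  refine ⟨Subgroup.pi Set.univ H, piLin H lam, ?_⟩
  have : φ = fun i => indFun (H i) (fun h => (lam i h : ℂ)) := funext hH
  rw [this, ← indFun_pi]
  congr 1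
  ext h
  simp [piLin]

end Pi

section Wreath

variable {D Q : Type*} [Group D] [Group Q]

/-- The base group of a regular wreath product as a normal embedding. -/
def wrBase (D Q : Type*) [Group D] [Group Q] : NEmb (Q → D) (D ≀ᵣ Q) where
  f := { toFun := fun f => ⟨f, 1⟩, map_one' := rfl, map_mul' := fun f g => by ext <;> simp }
  inj := fun _ _ h => congrArg RegularWreathProduct.left h
  act w f := fun x => w.left x * f (w.right⁻¹ * x) * (w.left x)⁻¹
  f_act w f := by ext <;> simp

theorem wrBase_range : (wrBase D Q).f.range = RegularWreathProduct.rightHom.ker := by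
  ext x
  exact ⟨by rintro ⟨f, rfl⟩; rfl, fun h => ⟨x.left, RegularWreathProduct.ext rfl h.symm⟩⟩

theorem wrBase_index : (wrBase D Q).f.range.index = Nat.card Q := by
  rw [wrBase_range, index_ker, MonoidHom.range_eq_top.2, card_top]
  exact fun q => ⟨_, RegularWreathProduct.fun_id q⟩

/-- The wreath product of a subgroup, as a subgroup of the wreath product. -/
def wrSub (H : Subgroup D) (Q : Type*) [Group Q] : Subgroup (D ≀ᵣ Q) where
  carrier := {w | ∀ x, w.left x ∈ H}
  one_mem' _ := H.one_mem
  mul_mem' ha hb _ := H.mul_mem (ha _) (hb _)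
  inv_mem' ha _ := H.inv_mem (ha _)

/-- The extension of a diagonal linear character to the wreath product. -/
def wrLin [Fintype Q] (H : Subgroup D) (lam : H →* ℂˣ) : wrSub H Q →* ℂˣ where
  toFun w := ∏ x, lam ⟨w.1.left x, w.2 x⟩
  map_one' := Finset.prod_eq_one fun _ _ => map_one lam
  map_mul' a b := by
    rw [← Equiv.prod_comp (Equiv.mulLeft a.1.right⁻¹) (fun x => lam ⟨b.1.left x, b.2 x⟩),
      ← Finset.prod_mul_distrib]
    exact Finset.prod_congr rfl fun i _ => by rw [← map_mul]; rfl

theorem res_indFun_wrLin [Fintype Q] [DecidableEq Q] [Fintype D] [Fintype (D ≀ᵣ Q)]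
    (H : Subgroup D) (lam : H →* ℂˣ) (f : Q → D) :
    indFun (wrSub H Q) (fun w => (wrLin H lam w : ℂ)) ((wrBase D Q).f f) =
      piFun (fun _ : Q => indFun H (fun h => (lam h : ℂ))) f := by
  classical
  have h1 := mackey_of_mul_eq (wrSub H Q) (wrBase D Q).f.range (fun x =>
    ⟨_, ⟨x.left, rfl⟩, RegularWreathProduct.inl x.right, fun _ => H.one_mem, by
      ext <;> simp [wrBase]⟩) (isCharacter_linear (wrLin H lam)).isClassFunction
    ⟨(wrBase D Q).f f, f, rfl⟩
  rw [h1, ← indFun_pi]
  refine (indFun_equiv (MonoidHom.ofInjective (wrBase D Q).inj) _ _ _ _ (fun x => ?_)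
    (fun x hx hx' => ?_) f).symm
  · exact ⟨fun h y => h y trivial, fun h y _ => h y⟩
  · simp only [wrLin, MonoidHom.coe_mk, OneHom.coe_mk, Units.coe_prod]
    rfl

theorem isMono_wreath [Finite Q] (hQ : (Nat.card Q).Prime) [Fintype D] [Fintype (D ≀ᵣ Q)]
    (hD : ∀ φ, IsIrrCharacter D φ → IsMono D φ) {χ : D ≀ᵣ Q → ℂ}
    (hχ : IsIrrCharacter _ χ) : IsMono _ χ := by
  classical
  have := Fintype.ofFinite Q
  obtain ⟨θ, hθ, hcon⟩ := exists_irr_under_hom (wrBase D Q).f hχ
  obtain ⟨φ, hφ, rfl⟩ := exists_piFun_eq hθ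
  rcases (wrBase D Q).res_eq_or_indHom_eq_of_prime (by rwa [wrBase_index]) hχ hθ hcon with
    h | ⟨-, h⟩
  swap
  · rw [← h]
    exact (isMono_piFun fun i => hD _ (hφ i)).indHom _ (wrBase D Q).inj
  have hall : ∀ c, φ c = φ 1 := by
    intro c
    have h1 : piFun (fun x => φ (c * x)) = piFun φ := by
      ext f
      have h2 := (wrBase D Q).invariant_of_res_eq_mul hχ.isClassFunction (e := 1) one_ne_zero
        (θ := piFun φ) (fun n => by rw [h, one_mul]) (RegularWreathProduct.inl c) f
      rw [← h2]
      simp only [piFun, wrBase, RegularWreathProduct.left_inl, RegularWreathProduct.right_inl,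
        Pi.one_apply, one_mul, inv_one, mul_one]
      rw [← Equiv.prod_comp (Equiv.mulLeft c) (fun x => φ x (f (c⁻¹ * x)))]
      simp
    have h3 := hθ.classInner_self
    nth_rewrite 1 [← h1] at h3
    rw [classInner_piFun] at h3
    have h4 := Finset.prod_ne_zero_iff.1 (h3 ▸ one_ne_zero) 1 (Finset.mem_univ _)
    simpa using (hφ _).eq_of_classInner_ne_zero (hφ _) h4
  obtain ⟨H, lam, hH⟩ := hD _ (hφ 1)
  have hφ' : φ = fun _ => indFun H (fun h => (lam h : ℂ)) := funext fun c => (hall c).trans hH
  obtain ⟨mu, -, hmu⟩ := (wrBase D Q).exists_linear_of_ext hθ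
    (isCharacter_indFun _ (isCharacter_linear (wrLin H lam)))
    (fun n => by rw [res_indFun_wrLin, hφ']) hχ.isCharacter h
  rw [hmu]
  exact IsMono.linear_mul ⟨_, _, rfl⟩ mu

/-- The universal embedding of an extension in the wreath product. -/
theorem exists_wreath_embedding {G : Type*} [Group G] (N : Subgroup G) [N.Normal] (f : N →* D)
    (hf : Function.Injective f) : ∃ F : G →* D ≀ᵣ (G ⧸ N), Function.Injective F := by
  have hm : ∀ (g : G) (x : G ⧸ N), x.out⁻¹ * g * ((g : G ⧸ N)⁻¹ * x).out ∈ N := fun g x => by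
    rw [← QuotientGroup.eq_one_iff]
    simp
  refine ⟨MonoidHom.mk' (fun g => ⟨fun x => f ⟨_, hm g x⟩, g⟩) fun a b => ?_, ?_⟩
  · ext x
    · simp only [RegularWreathProduct.mul_left, Pi.mul_apply, ← map_mul]
      congr 1
      ext
      simp [mul_assoc]
    · simp
  · rw [injective_iff_map_eq_one]
    intro g hg
    have h1 : (g : G ⧸ N) = 1 := congrArg RegularWreathProduct.right hg
    have h2 : f ⟨_, hm g 1⟩ = 1 := congrFun (congrArg RegularWreathProduct.left hg) 1
    have h3 := congrArg Subtype.val ((injective_iff_map_eq_one f).1 hf _ h2)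
    simp only [h1, inv_one, mul_one, OneMemClass.coe_one] at h3
    rw [mul_assoc, inv_mul_eq_one, eq_comm, mul_eq_right] at h3
    exact h3

end Wreath

theorem exists_normal_index_prime {G : Type*} [Group G] [Finite G] [Nontrivial G]
    (h : Group.IsSolvable G) : ∃ N : Subgroup G, N.Normal ∧ N.index.Prime := by
  obtain ⟨L, hL, h1, h2, h3⟩ := exists_chief_below (Group.IsSolvable.commutator_lt_top_of_nontrivial G)
  have : IsMulCommutative (G ⧸ L) := by
    refine ⟨⟨fun a b => ?_⟩⟩
    obtain ⟨a, rfl⟩ := QuotientGroup.mk_surjective a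
    obtain ⟨b, rfl⟩ := QuotientGroup.mk_surjective b
    rw [← QuotientGroup.mk_mul, ← QuotientGroup.mk_mul, QuotientGroup.eq]
    apply h1
    have := commutator_mem_commutator (mem_top b⁻¹) (mem_top a⁻¹)
    simpa [commutatorElement_def, mul_assoc, _root_.commutator] using this
  have : Group.IsNilpotent (G ⧸ L) := by
    letI : CommGroup (G ⧸ L) := { (inferInstance : Group (G ⧸ L)) with mul_comm := mul_comm' }
    exact CommGroup.isNilpotent
  have := prime_relIndex_of_chief h2 h3
  exact ⟨L, hL, by rwa [relIndex_top_right] at this⟩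

end Cfsg.Agent.H6
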