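import Cfsg.Agent.H6.MSubA
import Cfsg.Agent.S1565

/-! Subgroups of small index in `M₂₂`, `M₂₃`, `M₂₄`. -/

set_option autoImplicit false
set_option maxRecDepth 100000

namespace Cfsg.Agent.H6.MSub

open Cfsg MulAction H16
open scoped Pointwise symmDiff

theorem seq {L : Subgroup M24} {a b : ℕ} (h : L ≤ stabilizer M24 (toSet a)) (e : Nat.beq a b = true) :
    L ≤ stabilizer M24 (toSet b) := Nat.eq_of_beq_eq_true e ▸ h

theorem inK22 {S : List ℕ} (h : allL S (fixAll [bit 23, bit 0]) = true) : ∀ p ∈ S, InK gpt 24 K22 (get 5 p) :=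
  inK_of_fixAll h fun _ h => ⟨fix_bit h (by norm_num) (by simp), fix_bit h (by norm_num) (by simp)⟩

theorem inK23 {S : List ℕ} (h : allL S (fixAll [bit 23]) = true) : ∀ p ∈ S, InK gpt 24 K23 (get 5 p) :=
  inK_of_fixAll h fun _ h => fix_bit h (by norm_num) (by simp)

theorem inKs {S : List ℕ} (m : ℕ) (h : allL S (fixAll [m]) = true) :
    ∀ p ∈ S, InK gpt 24 (stabilizer M24 (toSet m)) (get 5 p) := inK_of_fixAll h fun _ h => h m (by simp)

noncomputable def xa : M24 := elt 957066265438570870345079409109081152 (by decide +kernel)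
theorem ra : Rep gpt 24 xa (get 5 957066265438570870345079409109081152) := rep_elt _ _
theorem oa : orderOf xa = 11 := ra.orderOf_eq five_le gpt_inj (faith_M24 ⊤) trivial (by norm_num) (by decide +kernel)
theorem ma : xa ∈ K22 := mem_of_inK ra (inK22 (S := [957066265438570870345079409109081152]) (by decide +kernel) _ (by simp))
noncomputable def xb : M24 := elt 972665973880876605603335171504975904 (by decide +kernel)
theorem rb : Rep gpt 24 xb (get 5 972665973880876605603335171504975904) := rep_elt _ _
theorem ob : orderOf xb = 5 := rb.orderOf_eq five_le gpt_inj (faith_M24 ⊤) trivial (by norm_num) (by decide +kernel)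
theorem mb : xb ∈ K22 := mem_of_inK rb (inK22 (S := [972665973880876605603335171504975904]) (by decide +kernel) _ (by simp))
noncomputable def xg : M24 := elt 965098574925834787924750519291695488 (by decide +kernel)
theorem rg : Rep gpt 24 xg (get 5 965098574925834787924750519291695488) := rep_elt _ _
theorem og : orderOf xg = 7 := rg.orderOf_eq five_le gpt_inj (faith_M24 ⊤) trivial (by norm_num) (by decide +kernel)
theorem mg : xg ∈ K22 := mem_of_inK rg (inK22 (S := [965098574925834787924750519291695488]) (by decide +kernel) _ (by simp))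

theorem n11 : Nat.card (K22 ⊓ Subgroup.normalizer (Subgroup.zpowers xa : Set M24) : Subgroup M24) = 55 ∧
    Gen gpt 24 5 (K22 ⊓ Subgroup.normalizer (Subgroup.zpowers xa : Set M24)) [957066265438570870345079409109081152, 972665973880876605603335171504975904] :=
  norm_gen mulOk24 gpt_inj (faith_M24 _) (B := [1, 2, 7, 12, 20]) (by decide) (inK22 (S := [982036579614997150100699101189490976, 959745208369777543236338611130046496, 960723930279081571572176547144665120, 975639943687438487958887481638160416, 976944354185238578474546788649273376, 962660455969611261303912270539327520]) (by decide +kernel))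
    card_K22.le ma ra (e := 11) (by norm_num) (inK22 (by decide +kernel)) (by decide +kernel)

theorem n5 : Nat.card (K22 ⊓ Subgroup.normalizer (Subgroup.zpowers xb : Set M24) : Subgroup M24) = 20 ∧
    Gen gpt 24 5 (K22 ⊓ Subgroup.normalizer (Subgroup.zpowers xb : Set M24)) [961981639966852627238624984746215520, 980224387687010295957922729495201824] :=
  norm_gen mulOk24 gpt_inj (faith_M24 _) (B := [2, 12, 6, 16, 20, 4]) (by decide) (inK22 (S := [982036579614997150100699101189490976, 960926628022340272497014431978850528, 976489881377034400902232949705312736, 970255222635411104091894363722975520, 978935994059595565513698360758995104, 975077239929684527720384488344783200, 966564143901873346905572374908864736, 977759248181629214425604038922963552]) (by decide +kernel))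
    card_K22.le mb rb (e := 5) (by norm_num) (inK22 (by decide +kernel)) (by decide +kernel)

theorem n7 : Nat.card (K22 ⊓ Subgroup.normalizer (Subgroup.zpowers xg : Set M24) : Subgroup M24) = 21 ∧
    Gen gpt 24 5 (K22 ⊓ Subgroup.normalizer (Subgroup.zpowers xg : Set M24)) [965098574925834787924750519291695488, 984402040450430952719641601108390944] :=
  norm_gen mulOk24 gpt_inj (faith_M24 _) (B := [1, 12, 10, 2, 20]) (by decide) (inK22 (S := [982036579614997150100699101189490976, 959745208369777543236338611130046496, 980470994953993211391536821587586080, 966239000965260615588947573011457056, 973096267945776834731806873318821920, 974095057028403689993608435841861664]) (by decide +kernel))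
    card_K22.le mg rg (e := 7) (by norm_num) (inK22 (by decide +kernel)) (by decide +kernel)

theorem m11 : Nat.card (⊤ ⊓ Subgroup.normalizer (Subgroup.zpowers xa : Set M24) : Subgroup M24) = 110 ∧
    Gen gpt 24 5 (⊤ ⊓ Subgroup.normalizer (Subgroup.zpowers xa : Set M24)) [5702474992103377628641383078366519, 980216438571791237950577085547397152] :=
  norm_gen mulOk24 gpt_inj (faith_M24 _) (B := [1, 2, 7, 12, 20, 16, 19]) (by decide) (inK_top_of_allL (S := [956302485175575353788796878166559809, 265463202357446280297592754337532963, 416337522425981667696421399464314926, 895924744859645143409421321812576311, 262879185010201306187871662424557613, 7287309987501919540748045868599351, 917764388938690868968435404259428399, 628415807585468067137711840833407013]) (by decide +kernel))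
    card_top_M24.le trivial ra (e := 11) (by norm_num) (inK_top_of_allL (by decide +kernel)) (by decide +kernel)

theorem no22 {L : Subgroup M24} (hL : L ≤ K22) : Nat.card L ≠ 7920 ∧ Nat.card L ≠ 2112 ∧ Nat.card L ≠ 36960 := by
  refine ⟨fun h => ?_, fun h => ?_, fun h => ?_⟩
  · obtain ⟨c, hc, h1⟩ := exists_mem_cj hL ma (by norm_num) oa (m := 40320) card_K22 (by norm_num) (by rw [h]; norm_num)
    have h2 := cj_le hc hL
    rw [← card_cj c] at h
    obtain ⟨d, d1, d2, d3, d4⟩ := syl h2 h1 (by norm_num) oa h (by norm_num) n11.1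
    have : d = 55 := by
      have := Nat.le_of_dvd (by norm_num) d1
      interval_cases d <;> simp_all
    have h3 := InK.mon n11.2.1 (d4 this)
    obtain ⟨e, e1, e2, e3, e4⟩ := syl h2 (mem_of_inK rb (h3 _ (by simp))) (by norm_num) ob h (by norm_num) n5.1
    have : e = 20 := by
      have := Nat.le_of_dvd (by norm_num) e1
      have : 5 ∣ e := by
        by_contra h5
        interval_cases e <;> simp_all
      interval_cases e <;> simp_all
    have h4 := InK.mon n5.2.1 (e4 this)
    have := lb (InK.app (S := [957066265438570870345079409109081152]) (fun p hp => by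
      rw [List.mem_singleton.mp hp]; exact ⟨_, h1, ra⟩) h4) [[2, 0, 0, 1, 2, 1, 0], [1, 0, 3, 1, 0, 2], [2, 3, 4, 3, 2, 4]] [1, 4, 2, 3, 5] (N := 7921) (by decide +kernel)
    omega
  · obtain ⟨c, hc, h1⟩ := exists_mem_cj hL ma (by norm_num) oa (m := 40320) card_K22 (by norm_num) (by rw [h]; norm_num)
    rw [← card_cj c] at h
    obtain ⟨d, d1, d2, d3, -⟩ := syl (cj_le hc hL) h1 (by norm_num) oa h (by norm_num) n11.1
    have := Nat.le_of_dvd (by norm_num) d1
    interval_cases d <;> simp_all
  · obtain ⟨c, hc, h1⟩ := exists_mem_cj hL mg (by norm_num) og (m := 63360) card_K22 (by norm_num) (by rw [h]; norm_num)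
    rw [← card_cj c] at h
    obtain ⟨d, d1, d2, d3, -⟩ := syl (cj_le hc hL) h1 (by norm_num) og h (by norm_num) n7.1
    have := Nat.le_of_dvd (by norm_num) d1
    interval_cases d <;> simp_all

def tS : List ℕ := [231674957154936079751784485935465923, 971269592446826249552146775608034368, 968867065153972416576197650585651232, 970499966350631336865513127433832480, 984235865005994746954145143334668320, 984202951082164080105044112956360736]
def t0S : List ℕ := [971269592446826249552146775608034368, 968867065153972416576197650585651232, 970499966350631336865513127433832480, 984235865005994746954145143334668320, 984202951082164080105044112956360736]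
noncomputable def TT : Subgroup M24 := clos gpt 24 5 ⊤ tS
noncomputable def T0 : Subgroup M24 := clos gpt 24 5 K23 t0S
theorem gen_TT : Gen gpt 24 5 TT tS := gen_clos (faith_M24 _) (inK_top_of_allL (by decide +kernel))
theorem gen_T0 : Gen gpt 24 5 T0 t0S := gen_clos (faith_M24 _) (inK23 (by decide +kernel))
theorem card_TT : Nat.card TT = 2 ^ 10 :=
  (enum_gen mulOk24 gpt_inj (B := [23, 1, 4, 3]) (by decide) (faith_M24 _) gen_TT (L := okT) (by decide +kernel)).1
theorem card_T0 : Nat.card T0 = 2 ^ 7 :=
  (enum_gen mulOk24 gpt_inj (B := [1, 4, 3]) (by decide) (faith_M24 _) gen_T0 (L := okT) (by decide +kernel)).1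

abbrev XO : Subgroup M24 := KO ⊓ K23
abbrev XD : Subgroup M24 := stabilizer M24 (toSet 6) ⊓ K23
abbrev XT : Subgroup M24 := stabilizer M24 (toSet 8388615) ⊓ K23
abbrev XY : Subgroup M24 := XO ⊓ stabilizer M24 (gpt 0)
abbrev XE : Subgroup M24 := XD ⊓ KO
def xoS : List ℕ := [982905121557421576250731888875357189, 970530501382080136724352318313010240, 979121071158219704299181131031480352, 979578569886085571029620897964275744, 984235865005994746954145143334668320, 976531636853126291160407323722221600]
def xdS : List ℕ := [960879565298443628279628289227622437, 978270424222237088553180056721557536, 980224387687010295957922729495201824, 976531636853126291160407323722221600, 976990105829392847739289005721748544]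
def xtS : List ℕ := [971353280972386888527258707797674016, 964086964069478618855301856359809089, 980224387687010295957922729495201824, 984721978136738731986858641841030208, 972606645568131968584696805283956768]
def xyS : List ℕ := [983474171710640276212725794917664192, 980512820183673053517745274082149408, 980504394422866046962412236452235296, 976568219141625759021091627404003360, 972606645568131968584696805283956768]
def xeS : List ℕ := [966187703742862273607188451190375502, 964655101679034793884593747619121184, 983548720921252936276249910206105632, 984721978136738731986858641841030208, 972606645568131968584696805283956768]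
theorem xo_in : ∀ p ∈ xoS, InK gpt 24 XO (get 5 p) := InK.inf (inKs _ (by decide +kernel)) (inK23 (by decide +kernel))
theorem xd_in : ∀ p ∈ xdS, InK gpt 24 XD (get 5 p) := InK.inf (inKs _ (by decide +kernel)) (inK23 (by decide +kernel))
theorem xt_in : ∀ p ∈ xtS, InK gpt 24 XT (get 5 p) := InK.inf (inKs _ (by decide +kernel)) (inK23 (by decide +kernel))
theorem xy_in : ∀ p ∈ xyS, InK gpt 24 XY (get 5 p) :=
  InK.inf (InK.inf (inKs _ (by decide +kernel)) (inK23 (by decide +kernel)))
    (InK.mon (inK22 (by decide +kernel)) inf_le_right)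
theorem xe_in : ∀ p ∈ xeS, InK gpt 24 XE (get 5 p) :=
  InK.inf (InK.inf (inKs _ (by decide +kernel)) (inK23 (by decide +kernel))) (inKs _ (by decide +kernel))
theorem card_6 : (toSet 6).card = 2 := by rw [card_toSet]; decide +kernel
theorem card_tau : (toSet 8388615).card = 4 := by rw [card_toSet]; decide +kernel
theorem card_KD : Nat.card (stabilizer M24 (toSet 6)) = 887040 := by
  have := card_stab_subset (s := toSet 6) (by rw [card_6]; norm_num)
  rw [card_6, show Nat.choose 24 2 = 276 by decide] at this; omega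
theorem card_Kt : Nat.card (stabilizer M24 (toSet 8388615)) = 23040 := by
  have := card_stab_subset (s := toSet 8388615) (by rw [card_tau]; norm_num)
  rw [card_tau, show Nat.choose 24 4 = 10626 by decide +kernel] at this; omega
theorem card_XO : Nat.card XO = 40320 := (stab_point card_KO koS_inK (by norm_num) [0, 1, 4, 2, 3, 5] (by decide) xo_in (m := 8)
  (by decide +kernel) (by decide +kernel) (by norm_num)).2.1
theorem card_XD : Nat.card XD = 40320 := (stab_point card_KD (inKs (S := [261527270312451831803787690850453552, 884331108322750412965864554349200452]) _ (by decide +kernel)) (by norm_num)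
  [0, 3, 4, 5, 1] (by decide) xd_in (m := 22) (by decide +kernel) (by decide +kernel) (by norm_num)).2.1
theorem card_XT : Nat.card XT = 5760 := (stab_point card_Kt (inKs (S := [973893319780669367535642346935451682, 21237450931346983605972039295502391, 104470021861193235179524816308438039]) _ (by decide +kernel)) (by norm_num)
  [0, 3, 4, 1, 5] (by decide) xt_in (m := 4) (by decide +kernel) (by decide +kernel) (by norm_num)).2.1
theorem card_XY : Nat.card XY = 5760 := (stab_point card_XO xo_in (by norm_num) [1, 2, 4, 3, 5] (by decide) xy_in (m := 7)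
  (by decide +kernel) (by decide +kernel) (by norm_num)).2.1
theorem card_XE : Nat.card XE = 1920 := (stab_code card_XD xd_in (by decide +kernel) [0, 3, 4, 1, 5] (by decide) xe_in (m := 21)
  (by decide +kernel) (by decide +kernel) (by norm_num)).2.1

/-- an orbit of a subgroup of `K23` containing `T0` -/
theorem orb0 {L : Subgroup M24} (hL : L ≤ K23) (hS : ∀ p ∈ t0S, InK gpt 24 L (get 5 p)) {u : ℕ} (hu : u < 23) :
    ∃ D : Finset GolayPt, gpt u ∈ D ∧ gpt 23 ∉ D ∧ D.card ∣ Nat.card L ∧ L ≤ stabilizer M24 D ∧
      (∀ x ∈ D, ∃ g ∈ L, g • gpt u = x) ∧ D = toSet (un D [(0, 1), (1, 6), (3, 147496), (4, 8241104), (23, 8388608)]) := by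
  obtain ⟨D, h1, h2, h3, h4⟩ := exists_orb L (gpt u)
  refine ⟨D, h1, fun h => ?_, Dvd.intro _ h4.symm, h2, h3, eq_un hS _ (by decide +kernel) h2⟩
  obtain ⟨g, hg, e⟩ := h3 _ h
  rw [← hL hg, smul_left_cancel_iff] at e
  have := gpt_inj _ (by omega) _ (by norm_num) e
  omega

theorem lemA {L : Subgroup M24} (hL : L ≤ K23) (hS : ∀ p ∈ t0S, InK gpt 24 L (get 5 p)) :
    L ≤ XO ∨ L ≤ XT ∨ (L ≤ XD ∧ 7 ∣ Nat.card L) ∨ 11 ∣ Nat.card L ∨ 23 ∣ Nat.card L := by
  obtain ⟨D, h1, h2, h3, h4, -, h5⟩ := orb0 hL hS (u := 4) (by norm_num)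
  have hb := stab_bit (by norm_num) hL
  have hf := stab_full L
  by_cases c0 : gpt 0 ∈ D <;> by_cases c1 : gpt 1 ∈ D <;> by_cases c3 : gpt 3 ∈ D <;>
    simp only [un, h1, h2, c0, c1, c3, if_true, if_false] at h5 <;> rw [h5] at h3 h4 <;> rw [card_toSet] at h3
  · exact Or.inr (Or.inr (Or.inr (Or.inr (Dvd.dvd.trans (by decide +kernel) h3))))
  · exact Or.inl (le_inf (stab_near (stab_xor h4 hf) (by decide +kernel)) hL)
  · exact Or.inr (Or.inr (Or.inl ⟨le_inf (seq (stab_xor (stab_xor h4 hf) hb) (by decide +kernel)) hL, Dvd.dvd.trans (by decide +kernel) h3⟩))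
  · exact Or.inl (le_inf (stab_near (stab_xor h4 hf) (by decide +kernel)) hL)
  · exact Or.inr (Or.inr (Or.inr (Or.inl (Dvd.dvd.trans (by decide +kernel) h3))))
  · exact Or.inl (le_inf (stab_near (stab_xor h4 hf) (by decide +kernel)) hL)
  · exact Or.inr (Or.inl (le_inf (seq (stab_xor h4 hf) (by decide +kernel)) hL))
  · exact Or.inl (le_inf (stab_near (stab_xor h4 hf) (by decide +kernel)) hL)

theorem lemB {L : Subgroup M24} (hL : L ≤ XO) (hS : ∀ p ∈ t0S, InK gpt 24 L (get 5 p)) :
    L ≤ XT ∨ L ≤ XE ∨ L ≤ XY ∨ 7 ∣ Nat.card L := by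
  have hL' : L ≤ K23 := hL.trans inf_le_right
  have hO : L ≤ KO := hL.trans inf_le_left
  obtain ⟨D, h1, h2, h3, h4, h6, h5⟩ := orb0 hL' hS (u := 3) (by norm_num)
  have hb := stab_bit (by norm_num) hL'
  have c4 : gpt 4 ∉ D := fun h => by
    obtain ⟨g, hg, e⟩ := h6 _ h
    have : g • gpt 3 ∈ g • toSet oct0 := Finset.smul_mem_smul_finset ((mem_tb (by norm_num)).mpr (by decide +kernel))
    rw [hO hg, e, mem_tb (by norm_num)] at this
    exact absurd this (by decide +kernel)
  by_cases c0 : gpt 0 ∈ D <;> by_cases c1 : gpt 1 ∈ D <;>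
    simp only [un, h1, h2, c0, c1, c4, if_true, if_false] at h5 <;> rw [h5] at h3 h4 <;> rw [card_toSet] at h3
  · exact Or.inr (Or.inr (Or.inr (Dvd.dvd.trans (by decide +kernel) h3)))
  · exact Or.inr (Or.inl (le_inf (le_inf (seq (stab_xor (stab_xor h4 hO) hb) (by decide +kernel)) hL') hO))
  · exact Or.inr (Or.inr (Or.inl (le_inf hL (stab_pt (by norm_num) (seq (stab_xor (stab_xor h4 hO) hb) (by decide +kernel))))))
  · exact Or.inl (le_inf (seq (stab_xor h4 hO) (by decide +kernel)) hL')

theorem core23 {L : Subgroup M24} (hL : L ≤ K23) (h : Nat.card L = 40320) (hS : ∀ p ∈ t0S, InK gpt 24 L (get 5 p)) :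
    L = XO ∨ L = XD := by
  rcases lemA hL hS with e | e | e | e | e
  · exact Or.inl (Subgroup.eq_of_le_of_card_ge e (by rw [h, card_XO]))
  · have := Subgroup.card_le_of_le e; rw [h, card_XT] at this; omega
  · exact Or.inr (Subgroup.eq_of_le_of_card_ge e.1 (by rw [h, card_XD]))
  · rw [h] at e; omega
  · rw [h] at e; omega

theorem ex23 {L : Subgroup M24} (hL : L ≤ K23) (h : Nat.card L = 40320) : ∃ c ∈ K23, cj c L = XO ∨ cj c L = XD := by
  obtain ⟨c, hc, h1⟩ := exists_le_cj (R := T0) clos_le hL Nat.prime_two card_T0 (m := 79695) card_K23 (by norm_num)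
    (by rw [h]; norm_num)
  exact ⟨c, hc, core23 (cj_le hc hL) (by rw [card_cj, h]) (InK.mon gen_T0.1 h1)⟩

theorem lemT {H : Subgroup M24} (hS : ∀ p ∈ tS, InK gpt 24 H (get 5 p)) :
    H ≤ KO ∨ (Nat.card H = 24 * Nat.card (H ⊓ K23 : Subgroup M24) ∧ ∀ p ∈ t0S, InK gpt 24 (H ⊓ K23) (get 5 p)) := by
  obtain ⟨D, h1, h2, -, h4⟩ := exists_orb H (gpt 23)
  have h5 := eq_un hS [(23, 8536111), (4, 8241104)] (by decide +kernel) h2
  by_cases c : gpt 4 ∈ D <;> simp only [un, h1, c, if_true, if_false] at h5 <;> rw [h5] at h2 h4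
  · rw [card_toSet, show pc24 (8536111 ||| (8241104 ||| 0)) = 24 by decide +kernel] at h4
    exact Or.inr ⟨h4, InK.inf (fun p hp => hS p (by revert p; decide)) (inK23 (by decide +kernel))⟩
  · exact Or.inl (seq h2 (by decide +kernel))

theorem exT {H : Subgroup M24} (h : 2 ^ 10 ∣ Nat.card H) : ∃ c, ∀ p ∈ tS, InK gpt 24 (cj c H) (get 5 p) := by
  obtain ⟨c, -, h1⟩ := exists_le_cj (R := TT) (K := ⊤) le_top le_top Nat.prime_two card_TT (m := 239085) card_top_M24
    (by norm_num) h
  exact ⟨c, InK.mon gen_TT.1 h1⟩

theorem c759 {H : Subgroup M24} (h : Nat.card H = 322560) (hS : ∀ p ∈ tS, InK gpt 24 H (get 5 p)) : H = KO := by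
  rcases lemT hS with e | ⟨e, h0⟩
  · exact Subgroup.eq_of_le_of_card_ge e (by rw [h, card_KO])
  have h1 : Nat.card (H ⊓ K23 : Subgroup M24) = 13440 := by omega
  exfalso
  rcases lemA inf_le_right h0 with e | e | e | e | e
  · have := lb (inK_of_small e (k := 3) (p := 7) (by rw [h1, card_XO]) (by norm_num) (by norm_num)
      (S := [970169259948496556173012583079482478, 969229544776127504464930378754295330]) (InK.inf (inKs _ (by decide +kernel)) (inK23 (by decide +kernel))) (by decide +kernel))
      [[0, 1, 0], [2, 2, 0, 2, 0, 2], [3, 3, 3, 2, 2, 3, 2], [3, 4, 0, 1, 0, 2, 3, 2], [4, 5, 4, 3, 2, 0, 3, 5, 4, 1], [6, 6, 4, 4, 5, 6]] [0, 1, 2, 3, 4, 5] (N := 13441) (by decide +kernel)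
    omega
  · have := Subgroup.card_le_of_le e; rw [h1, card_XT] at this; omega
  · have := lb (inK_of_small e.1 (k := 3) (p := 7) (by rw [h1, card_XD]) (by norm_num) (by norm_num)
      (S := [983230666547903811523280900031055908, 967891006209102637957247770351077413]) (InK.inf (inKs _ (by decide +kernel)) (inK23 (by decide +kernel))) (by decide +kernel))
      [[0, 1, 0, 1, 0], [1, 1, 2, 0], [3, 2, 3], [3, 4, 2, 0, 3, 3, 4, 0], [5, 4, 5, 2, 3, 5, 4, 3]] [0, 3, 4, 5] (N := 13441) (by decide +kernel)
    omega
  · rw [h1] at e; omega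
  · rw [h1] at e; omega

theorem c253 {H : Subgroup M24} (h : Nat.card H = 967680) (hS : ∀ p ∈ tS, InK gpt 24 H (get 5 p)) : False := by
  rcases lemT hS with e | ⟨e, h0⟩
  · have := Subgroup.card_le_of_le e; rw [h, card_KO] at this; omega
  rcases core23 inf_le_right (by omega) h0 with e | e
  · have h1 : KO ≤ H := le_of_lb (InK.app hS (InK.mon xo_in (e ▸ inf_le_left))) (inKs _ (by decide +kernel))
      [[11, 9, 11, 11, 10], [12, 11, 8, 11, 9, 1, 9, 0, 9, 6, 8, 1, 9]] [0, 1, 3, 4, 5, 2, 6] card_KO (by decide +kernel)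
    rcases (S1565.result _ oct0_mem).le_iff.mp h1 with e | e
    · rw [e, card_top_M24] at h; omega
    · rw [e, card_KO] at h; omega
  · have := lb (InK.app hS (InK.mon xd_in (e ▸ inf_le_left))) [[0, 6, 6, 1, 3], [8, 9, 1, 11, 8, 11]] [0, 1, 3, 4, 5, 2, 6] (N := 967681) (by decide +kernel)
    omega

def sxc : ℕ := 356956288694669451926774591511289552437255
theorem sxc_mem : fam 6 sxc ∈ sextets := mem_sextets_of (by decide +kernel)

theorem c1771 {H : Subgroup M24} (h : Nat.card H = 138240) (hS : ∀ p ∈ tS, InK gpt 24 H (get 5 p)) :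
    H = stabilizer M24 (fam 6 sxc) := by
  rcases lemT hS with e | ⟨e, h0⟩
  · have := Subgroup.card_dvd_of_le e; rw [h, card_KO] at this; omega
  have h1 : Nat.card (H ⊓ K23 : Subgroup M24) = 5760 := by omega
  have hT : H ⊓ K23 ≤ XT → H = stabilizer M24 (fam 6 sxc) := fun e => by
    have e' := Subgroup.eq_of_le_of_card_ge e (by rw [h1, card_XT])
    exact (Subgroup.eq_of_le_of_card_ge (le_of_lb (InK.app hS (InK.mon xt_in (e' ▸ inf_le_left)))
      (inK_fam (by decide +kernel)) [[3, 2, 4, 0, 9, 5, 0]] [0, 1, 3, 4, 5, 2] (card_stab_sextet sxc_mem) (by decide +kernel))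
      (by rw [h, card_stab_sextet sxc_mem])).symm
  rcases lemA inf_le_right h0 with e | e | e | e | e
  · rcases lemB e h0 with e | e | e | e
    · exact hT e
    · have := Subgroup.card_le_of_le e; rw [h1, card_XE] at this; omega
    · have e' := Subgroup.eq_of_le_of_card_ge e (by rw [h1, card_XY])
      have := lb (InK.app hS (InK.mon xy_in (e' ▸ inf_le_left))) [[3, 7, 8, 3, 10, 7], [10, 3, 7, 3, 10, 2, 4, 1, 0, 9, 5, 0, 5], [12, 3, 7, 7]] [0, 1, 3, 4, 5, 2, 6] (N := 138241) (by decide +kernel)
      omega
    · rw [h1] at e; omega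
  · exact hT e
  · have := e.2; rw [h1] at this; omega
  · rw [h1] at e; omega
  · rw [h1] at e; omega

theorem no_dod {L : Subgroup M24} (h : Nat.card L = 36960) {d : ℕ} (hd : isDod d = true) :
    ¬ L ≤ stabilizer M24 (toSet d) := fun e => by
  have := Subgroup.card_dvd_of_le e
  obtain ⟨φ⟩ := equiv_K12 (mem_dodecads_of hd)
  rw [h, ← Nat.card_congr φ.toEquiv, card_K12] at this; omega

theorem c276 {H : Subgroup M24} (h : Nat.card H = 887040) (ha : xa ∈ H) : H = L22 := by
  obtain ⟨d, d1, d2, d3, d4⟩ := syl (K := ⊤) le_top ha (by norm_num) oa h (by norm_num) m11.1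
  have : d = 110 := by
    have := Nat.le_of_dvd (by norm_num) d1
    interval_cases d <;> simp_all
  have hS := InK.mon m11.2.1 (d4 this)
  obtain ⟨D, h1, h2, -, h4⟩ := exists_orb H (gpt 23)
  have h5 := eq_un hS [(23, 8388609), (1, 8388606)] (by decide +kernel) h2
  by_cases c : gpt 1 ∈ D <;> simp only [un, h1, c, if_true, if_false] at h5 <;> rw [h5] at h2 h4
  swap
  · exact Subgroup.eq_of_le_of_card_ge (seq h2 (by decide +kernel)) (by rw [h, card_L22])
  exfalso
  rw [card_toSet, show pc24 (8388609 ||| (8388606 ||| 0)) = 24 by decide +kernel] at h4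
  change _ = 24 * Nat.card (H ⊓ K23 : Subgroup M24) at h4
  have h6 : Nat.card (H ⊓ K23 : Subgroup M24) = 36960 := by omega
  clear h1 h2 c h5 D
  obtain ⟨D, h1, h2, h3, h5⟩ := exists_orb (H ⊓ K23) (gpt 1)
  have h7 : gpt 23 ∉ D := fun h => by
    obtain ⟨g, hg, e⟩ := h3 _ h
    rw [← hg.2, smul_left_cancel_iff] at e
    exact absurd e (by decide)
  have h8 := eq_un (S := [957066265438570870345079409109081152]) (L := H ⊓ K23) (fun p hp => by
      rw [List.mem_singleton.mp hp]; exact ⟨_, ⟨ha, ma.1⟩, ra⟩) [(0, 1), (1, 5845222), (3, 2543384), (23, 8388608)] (by decide +kernel) h2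
  have h9 : D.card ∣ 36960 := h6 ▸ Dvd.intro _ h5.symm
  have h10 : H ⊓ K23 ≤ stabilizer M24 D := h2
  have hb := stab_bit (by norm_num) (inf_le_right : H ⊓ K23 ≤ K23)
  have hf := stab_full (H ⊓ K23)
  by_cases c0 : gpt 0 ∈ D <;> by_cases c3 : gpt 3 ∈ D <;>
    simp only [un, h1, h7, c0, c3, if_true, if_false] at h8 <;> rw [h8] at h9 h10 <;> rw [card_toSet] at h9
  · exact absurd h9 (by decide +kernel)
  · exact no_dod h6 (d := 2543385) (by decide +kernel) (stab_near (stab_xor (stab_xor h10 hf) hb) (by decide +kernel))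
  · exact (no22 (le_inf inf_le_right (stab_pt (by norm_num) (seq (stab_xor (stab_xor h10 hf) hb) (by decide +kernel))))).2.2 h6
  · exact no_dod h6 (d := 14233830) (by decide +kernel) (stab_near h10 (by decide +kernel))

theorem card_of_index {G : Type*} [Group G] [Finite G] {H : Subgroup G} {N k m : ℕ} (hG : Nat.card G = N) (h : H.index = k)
    (e : N = k * m) (hk : 0 < k) : Nat.card H = m := by
  have := H.index_mul_card
  rw [h, hG, e] at this
  exact Nat.eq_of_mul_eq_mul_left hk this

end Cfsg.Agent.H6.MSub
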