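import Cfsg.Agent.H6.MSubB

/-! Maximality of `L₂(23)` in `M₂₄` and of `23:11` in `M₂₃`. -/

set_option autoImplicit false
set_option maxRecDepth 100000

namespace Cfsg.Agent.H6.MSub

open Cfsg MulAction H16
open scoped Pointwise

theorem syl2 {G : Type*} [Group G] {L : Subgroup G} [Finite L] {x : G} (hx : x ∈ L) {p : ℕ} (hp : p.Prime)
    (ho : orderOf x = p) (h2 : ¬ p ^ 2 ∣ Nat.card L) :
    ∃ n, n % p = 1 ∧ Nat.card L = n * Nat.card (L ⊓ Subgroup.normalizer (Subgroup.zpowers x : Set G) : Subgroup G) := by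
  obtain ⟨d, d1, d2, d3, -⟩ := syl le_rfl hx hp ho rfl h2 rfl
  have := Fact.mk hp
  have hz : Subgroup.zpowers x ≤ L := by rwa [Subgroup.zpowers_le]
  have h1 : Nat.card ((Subgroup.zpowers x).subgroupOf L) = p := by
    rw [Nat.card_congr (Subgroup.subgroupOfEquivOfLe hz).toEquiv, Nat.card_zpowers, ho]
  have hf : (Nat.card L).factorization p = 1 := by
    have a : p ∣ Nat.card L := h1 ▸ Subgroup.card_subgroup_dvd_card _
    have b := (hp.dvd_iff_one_le_factorization Nat.card_pos.ne').mp a
    have c : ¬ 2 ≤ (Nat.card L).factorization p := fun h =>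
      h2 ((hp.pow_dvd_iff_le_factorization Nat.card_pos.ne').mpr h)
    omega
  let P : Sylow p L := Sylow.ofCard _ (by rw [h1, hf, pow_one])
  have e1 := card_sylow_modEq_one p L
  rw [P.card_eq_index_normalizer] at e1
  have e2 : Subgroup.normalizer (P : Set L) = (Subgroup.normalizer (Subgroup.zpowers x : Set G)).subgroupOf L :=
    (Subgroup.subgroupOf_normalizer_eq hz).symm
  have e3 : Nat.card ((Subgroup.normalizer (Subgroup.zpowers x : Set G)).subgroupOf L) =
      Nat.card (L ⊓ Subgroup.normalizer (Subgroup.zpowers x : Set G) : Subgroup G) := by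
    rw [← Subgroup.inf_subgroupOf_left, Nat.card_congr (Subgroup.subgroupOfEquivOfLe inf_le_left).toEquiv]
  have e4 := Subgroup.index_mul_card (Subgroup.normalizer (P : Set L))
  rw [e2] at e1 e4
  rw [e3] at e4
  exact ⟨_, by rw [e1, Nat.mod_eq_of_lt hp.one_lt], e4.symm⟩

theorem gen_le {H K : Subgroup M24} {S : List ℕ} (h : Gen gpt 24 5 K S) (hS : ∀ p ∈ S, InK gpt 24 H (get 5 p)) :
    K ≤ H := (h.2 _ inf_le_right (InK.inf hS h.1)).trans inf_le_left

theorem perm_eq {σ τ : Equiv.Perm GolayPt} {f : ℕ → ℕ} (h : Rep gpt 24 σ f) (h' : Rep gpt 24 τ f) : σ = τ :=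
  Equiv.ext fun p => by obtain ⟨i, hi, rfl⟩ := exists_gpt p; exact (h i hi).2.trans (h' i hi).2.symm

noncomputable def ea : M24 := elt 956302485175575353788796878166559809 (by decide +kernel)
theorem rea : Rep gpt 24 ea (get 5 956302485175575353788796878166559809) := rep_elt _ _
theorem oea : orderOf ea = 23 := rea.orderOf_eq five_le gpt_inj (faith_M24 ⊤) trivial (by norm_num) (by decide +kernel)
theorem mea : ea ∈ K23 := mem_of_inK rea (inK23 (S := [956302485175575353788796878166559809]) (by decide +kernel) _ (by simp))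
noncomputable def eb : M24 := elt 983435072843990828779021698901151808 (by decide +kernel)
theorem reb : Rep gpt 24 eb (get 5 983435072843990828779021698901151808) := rep_elt _ _
theorem oeb : orderOf eb = 11 := reb.orderOf_eq five_le gpt_inj (faith_M24 ⊤) trivial (by norm_num) (by decide +kernel)
theorem meb : eb ∈ K23 := mem_of_inK reb (inK23 (S := [983435072843990828779021698901151808]) (by decide +kernel) _ (by simp))
noncomputable def eg : M24 := elt 1795248432537898728475572672376535 (by decide +kernel)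
theorem reg : Rep gpt 24 eg (get 5 1795248432537898728475572672376535) := rep_elt _ _
theorem oeg : orderOf eg = 2 := reg.orderOf_eq five_le gpt_inj (faith_M24 ⊤) trivial (by norm_num) (by decide +kernel)

theorem a24 : Nat.card (⊤ ⊓ Subgroup.normalizer (Subgroup.zpowers ea : Set M24) : Subgroup M24) = 253 ∧
    Gen gpt 24 5 (⊤ ⊓ Subgroup.normalizer (Subgroup.zpowers ea : Set M24)) [956302485175575353788796878166559809, 983435072843990828779021698901151808] :=
  norm_gen mulOk24 gpt_inj (faith_M24 _) (B := [0, 1, 2, 3, 4, 5, 6]) (by decide) (inK_top_of_allL (S := [956302485175575353788796878166559809, 974380510768821363662145534143076928, 588701202878309494642213483375400992, 269645269558539979302711968606292000, 477149684114315024567765310665492512, 930943920660663948730329567529633824, 215655977805262399894591978666559520, 608167165260361641911015062699608096]) (by decide +kernel))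
    card_top_M24.le trivial rea (e := 23) (by norm_num) (inK_top_of_allL (by decide +kernel)) (by decide +kernel)

theorem b24 : Nat.card (⊤ ⊓ Subgroup.normalizer (Subgroup.zpowers eb : Set M24) : Subgroup M24) = 110 ∧
    Gen gpt 24 5 (⊤ ⊓ Subgroup.normalizer (Subgroup.zpowers eb : Set M24)) [21507104985784244111699453981183703, 968955966875123533138286166201145376] :=
  norm_gen mulOk24 gpt_inj (faith_M24 _) (B := [1, 2, 4, 8, 16, 9, 18]) (by decide) (inK_top_of_allL (S := [956302485175575353788796878166559809, 265463202357446280297592754337532963, 416337522425981667696421399464314926, 225154460419289331935559361161988131, 594813379682619281842690544669657135, 302717088353453749575921738614999095, 853137991750864954331433091096283177, 265541673539428769216509628956313643]) (by decide +kernel))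
    card_top_M24.le trivial reb (e := 11) (by norm_num) (inK_top_of_allL (by decide +kernel)) (by decide +kernel)

theorem a23 : Nat.card (K23 ⊓ Subgroup.normalizer (Subgroup.zpowers ea : Set M24) : Subgroup M24) = 253 ∧
    Gen gpt 24 5 (K23 ⊓ Subgroup.normalizer (Subgroup.zpowers ea : Set M24)) [956302485175575353788796878166559809, 983435072843990828779021698901151808] :=
  norm_gen mulOk24 gpt_inj (faith_M24 _) (B := [0, 1, 2, 3, 4, 5]) (by decide) (inK23 (S := [971501157748176884671320016492304960, 969795201784771771712762379835658661, 973811261594183458656363083427465248, 978893954460679549674212909990283296, 971592882964418941354553515258775584, 966182099583441531322624363496310816, 976531636853126291160407323722221600]) (by decide +kernel))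
    card_K23.le mea rea (e := 23) (by norm_num) (inK23 (by decide +kernel)) (by decide +kernel)

theorem b23 : Nat.card (K23 ⊓ Subgroup.normalizer (Subgroup.zpowers eb : Set M24) : Subgroup M24) = 55 ∧
    Gen gpt 24 5 (K23 ⊓ Subgroup.normalizer (Subgroup.zpowers eb : Set M24)) [983435072843990828779021698901151808, 970459361523271695787015306425278496] :=
  norm_gen mulOk24 gpt_inj (faith_M24 _) (B := [1, 2, 4, 8, 16, 9]) (by decide) (inK23 (S := [971501157748176884671320016492304960, 984265152644864583295783201041465381, 962770860556343101094132285011789874, 971697813820281760500803892922484773, 976645697409625896103337176823171117, 979275980503885016865102517064042534, 973007450776971818204526000881469494]) (by decide +kernel))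
    card_K23.le meb reb (e := 11) (by norm_num) (inK23 (by decide +kernel)) (by decide +kernel)

noncomputable def LL : Subgroup M24 := clos gpt 24 5 ⊤ [956302485175575353788796878166559809, 983435072843990828779021698901151808, 1795248432537898728475572672376535]
noncomputable def FF : Subgroup M24 := clos gpt 24 5 ⊤ [956302485175575353788796878166559809, 983435072843990828779021698901151808]
theorem gen_LL : Gen gpt 24 5 LL [956302485175575353788796878166559809, 983435072843990828779021698901151808, 1795248432537898728475572672376535] := gen_clos (faith_M24 _) (inK_top_of_allL (by decide +kernel))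
theorem gen_FF : Gen gpt 24 5 FF [956302485175575353788796878166559809, 983435072843990828779021698901151808] := gen_clos (faith_M24 _) (inK_top_of_allL (by decide +kernel))
theorem card_ss {K : Subgroup M24} {S : List ℕ} (h : Gen gpt 24 5 K S) (B : List ℕ) (hB : ∀ b ∈ B, b < 24) {M : ℕ}
    (hc : withSS mul24 5 24 B S (fun lv => Nat.beq (cntLv 5 24 lv) M) = true) : Nat.card K = M := by
  obtain ⟨lv, h1, -, h2⟩ := withSS_spec mulOk24 gpt_inj hB (faith_M24 _) h hc
  exact (h1.card_eq gpt_inj).trans (Nat.eq_of_beq_eq_true h2)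
theorem card_LL : Nat.card LL = 6072 := card_ss gen_LL [23, 0, 1] (by decide) (by decide +kernel)
theorem card_FF : Nat.card FF = 253 := card_ss gen_FF [0, 1] (by decide) (by decide +kernel)
theorem FF_le : FF ≤ K23 := gen_le gen_FF (inK23 (by decide +kernel))

theorem arith {k : ℕ} (h1 : k ∣ 40320) (h2 : k % 253 = 1) : k = 1 := by
  have := Nat.le_of_dvd (by norm_num) h1
  obtain ⟨j, rfl⟩ : ∃ j, k = 253 * j + 1 := ⟨k / 253, by omega⟩
  have : j < 160 := by omega
  interval_cases j <;> simp_all

theorem maxF : MaxIn FF K23 := fun H h1 h2 => by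
  have hS := InK.mon gen_FF.1 h1
  have ha := mem_of_inK rea (hS _ (by simp))
  have hb := mem_of_inK reb (hS _ (by simp))
  have hd : Nat.card H ∣ 10200960 := card_K23 ▸ Subgroup.card_dvd_of_le h2
  obtain ⟨n, n1, n2⟩ := syl2 ha (by norm_num) oea fun h => absurd (h.trans hd) (by norm_num)
  obtain ⟨m, m1, m2⟩ := syl2 hb (by norm_num) oeb fun h => absurd (h.trans hd) (by norm_num)
  rw [le_antisymm (inf_le_inf_right _ h2) (le_inf (gen_le a23.2 hS) inf_le_right), a23.1] at n2
  have hle := inf_le_inf_right (Subgroup.normalizer (Subgroup.zpowers eb : Set M24)) h2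
  have d1 := Subgroup.card_dvd_of_le hle
  have d2 : 11 ∣ Nat.card (H ⊓ Subgroup.normalizer (Subgroup.zpowers eb : Set M24) : Subgroup M24) :=
    oeb ▸ Subgroup.orderOf_dvd_natCard _ ⟨hb, Subgroup.le_normalizer (Subgroup.mem_zpowers _)⟩
  rw [b23.1] at d1
  obtain ⟨e, he⟩ := d2
  have : e ∣ 5 := Nat.dvd_of_mul_dvd_mul_left (by norm_num : 0 < 11) (he ▸ d1)
  rcases (Nat.dvd_prime (by norm_num)).mp this with rfl | rfl
  · left
    have : n = 1 := arith (Nat.dvd_of_mul_dvd_mul_right (by norm_num : 0 < 253) (n2 ▸ hd)) (by rw [he] at m2; omega)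
    exact (Subgroup.eq_of_le_of_card_ge h1 (by rw [n2, this, card_FF])).symm
  · right
    have := Subgroup.eq_of_le_of_card_ge hle (by rw [he, b23.1])
    have := lb (InK.app (S := [956302485175575353788796878166559809]) (fun p hp => by rw [List.mem_singleton.mp hp]; exact ⟨_, ha, rea⟩)
      (InK.mon b23.2.1 (this ▸ inf_le_left))) [[0, 2, 0, 1, 0, 0, 0, 2], [1, 2, 0, 1, 1, 3, 0, 2, 1], [2, 4, 4, 2], [5, 4, 2, 4, 5, 5], [5, 5, 5, 4, 2, 4], [1, 4, 3, 6, 6], [5, 5, 2, 8, 2, 3, 1, 6], [6, 7, 7, 9, 9]] [0, 1, 2, 3, 4, 5] (N := 10200960) (by decide +kernel)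
    exact Subgroup.eq_of_le_of_card_ge h2 (by rwa [card_K23])

theorem eg_norm : eg ∈ Subgroup.normalizer (Subgroup.zpowers eb : Set M24) :=
  (mem_normalizer_zpowers (e := 11) (by norm_num) (oeb ▸ pow_orderOf_eq_one eb)).mpr ⟨10, by norm_num,
    eq_of_eqP (faith_M24 ⊤) trivial trivial (reg.pmul five_le reb) ((reb.ppow five_le 10).pmul five_le reg)
      (by decide +kernel)⟩

theorem maxL : MaxIn LL ⊤ := fun H h1 h2 => by
  have hS := InK.mon gen_LL.1 h1
  have ha := mem_of_inK rea (hS _ (by simp))
  have hb := mem_of_inK reb (hS _ (by simp))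
  have hg := mem_of_inK reg (hS _ (by simp))
  have hd : Nat.card H ∣ 244823040 := card_top_M24 ▸ Subgroup.card_dvd_of_le h2
  obtain ⟨n, n1, n2⟩ := syl2 ha (by norm_num) oea fun h => absurd (h.trans hd) (by norm_num)
  obtain ⟨m, m1, m2⟩ := syl2 hb (by norm_num) oeb fun h => absurd (h.trans hd) (by norm_num)
  rw [le_antisymm (inf_le_inf_right _ h2) (le_inf (gen_le a24.2 fun p hp => hS p (by
    simp only [List.mem_cons] at hp ⊢; tauto)) inf_le_right), a24.1] at n2
  obtain ⟨k, hk⟩ := Subgroup.card_dvd_of_le h1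
  rw [card_LL] at hk
  have hle := inf_le_inf_right (Subgroup.normalizer (Subgroup.zpowers eb : Set M24)) h2
  have d1 := Subgroup.card_dvd_of_le hle
  have d2 : 11 ∣ Nat.card (H ⊓ Subgroup.normalizer (Subgroup.zpowers eb : Set M24) : Subgroup M24) :=
    oeb ▸ Subgroup.orderOf_dvd_natCard _ ⟨hb, Subgroup.le_normalizer (Subgroup.mem_zpowers _)⟩
  have d3 : 2 ∣ Nat.card (H ⊓ Subgroup.normalizer (Subgroup.zpowers eb : Set M24) : Subgroup M24) :=
    oeg ▸ Subgroup.orderOf_dvd_natCard _ ⟨hg, eg_norm⟩
  rw [b24.1] at d1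
  obtain ⟨e, he⟩ := Nat.Coprime.mul_dvd_of_dvd_of_dvd (by norm_num) d2 d3
  have : e ∣ 5 := Nat.dvd_of_mul_dvd_mul_left (by norm_num : 0 < 11 * 2) (he ▸ d1)
  rcases (Nat.dvd_prime (by norm_num)).mp this with rfl | rfl
  · left
    have : k = 1 := arith (Nat.dvd_of_mul_dvd_mul_left (by norm_num : 0 < 6072) (hk ▸ hd)) (by rw [he] at m2; omega)
    exact (Subgroup.eq_of_le_of_card_ge h1 (by rw [hk, this, card_LL])).symm
  · right
    have := Subgroup.eq_of_le_of_card_ge hle (by rw [he, b24.1])
    have := lb (InK.app (S := [956302485175575353788796878166559809]) (fun p hp => by rw [List.mem_singleton.mp hp]; exact ⟨_, ha, rea⟩)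
      (InK.mon b24.2.1 (this ▸ inf_le_left))) [[0, 1, 2, 0], [2, 2, 2, 2, 3, 0, 1, 0], [3, 4, 2, 2, 0, 0, 3, 0, 4, 3, 0], [5, 4, 5], [4, 4, 5, 2, 2, 2, 2, 4, 2], [6, 7, 6, 5, 2, 4, 7, 7, 3, 2], [7, 6, 6, 8, 7, 6, 8], [8, 7], [10, 9, 7, 9, 8, 7, 8]] [0, 2, 1, 3, 4, 5, 6] (N := 244823040) (by decide +kernel)
    exact Subgroup.eq_of_le_of_card_ge h2 (by rwa [card_top_M24])

def u2 : (ZMod 23)ˣ := ⟨2, 12, by decide, by decide⟩

theorem rep_beta : Rep gpt 24 (Equiv.optionCongr (Units.mulLeft u2)) (get 5 983435072843990828779021698901151808) := by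
  unfold H16.Rep; decide +kernel

theorem sq_zmod : ∀ r s : ZMod 23, r * s = 1 → ∃ k < 11, r * r = 2 ^ k := by decide +kernel

theorem sq_pow {u : (ZMod 23)ˣ} (h : IsSquare u) :
    ∃ k : ℕ, Equiv.optionCongr (Units.mulLeft u) = (Equiv.optionCongr (Units.mulLeft u2)) ^ k := by
  obtain ⟨r, rfl⟩ := h
  obtain ⟨k, -, hk⟩ := sq_zmod r _ r.mul_inv
  have key : ∀ (k : ℕ) (p : GolayPt), ((Equiv.optionCongr (Units.mulLeft u2)) ^ k) p = p.map (fun x => 2 ^ k * x) := by
    intro k p
    induction k with
    | zero => cases p <;> simp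
    | succ k ih =>
      rw [pow_succ', Equiv.Perm.mul_apply, ih]
      cases p with
      | none => rfl
      | some x => simp [u2, pow_succ', mul_assoc]
  refine ⟨k, Equiv.ext fun p => ?_⟩
  rw [key, ← hk]
  cases p <;> simp

theorem u2_sq : IsSquare u2 := ⟨⟨5, 14, by decide, by decide⟩, by ext; decide⟩

theorem clos_eq {A : Set (Equiv.Perm GolayPt)} {S : List ℕ} (hS : ∀ p ∈ S, InK gpt 24 (⊤ : Subgroup M24) (get 5 p))
    (h1 : ∀ σ ∈ A, ∃ p ∈ S, Rep gpt 24 σ (get 5 p))
    (h2 : ∀ p ∈ S, p = 983435072843990828779021698901151808 ∨ ∃ σ ∈ A, Rep gpt 24 σ (get 5 p)) (hb : 983435072843990828779021698901151808 ∈ S) :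
    Subgroup.closure (A ∪ {g : Equiv.Perm GolayPt | ∃ u : (ZMod 23)ˣ, IsSquare u ∧ g = Equiv.optionCongr (Units.mulLeft u)})
      = (clos gpt 24 5 ⊤ S).map M24.subtype := by
  have key : ∀ σ : Equiv.Perm GolayPt, ∀ p ∈ S, Rep gpt 24 σ (get 5 p) → σ ∈ (clos gpt 24 5 ⊤ S).map M24.subtype :=
    fun σ p hp r => by
      obtain ⟨g, hg, rg⟩ := (gen_clos (faith_M24 _) hS).1 p hp
      exact ⟨g, hg, perm_eq rg r⟩
  apply le_antisymm
  · rw [Subgroup.closure_le]
    rintro σ (h | ⟨u, hu, rfl⟩)
    · obtain ⟨p, hp, r⟩ := h1 σ h; exact key σ p hp r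
    · obtain ⟨k, hk⟩ := sq_pow hu
      rw [hk]; exact Subgroup.pow_mem _ (key _ _ hb rep_beta) k
  · rw [Subgroup.map_le_iff_le_comap, clos, Subgroup.closure_le]
    rintro g ⟨-, p, hp, r⟩
    rcases h2 p hp with rfl | ⟨σ, hσ, r'⟩
    · exact Subgroup.subset_closure (Or.inr ⟨u2, u2_sq, perm_eq r rep_beta⟩)
    · exact Subgroup.subset_closure (Or.inl (show (g : Equiv.Perm GolayPt) ∈ A from perm_eq r' r ▸ hσ))

theorem cl_L : Subgroup.closure ({Equiv.optionCongr (Equiv.addRight (1 : ZMod 23)), projInv} ∪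
    {g : Equiv.Perm GolayPt | ∃ u : (ZMod 23)ˣ, IsSquare u ∧ g = Equiv.optionCongr (Units.mulLeft u)}) =
    LL.map M24.subtype := by
  refine clos_eq (inK_top_of_allL (by decide +kernel)) ?_ ?_ (by simp)
  · rintro σ (rfl | rfl)
    · exact ⟨_, by decide, rep_alpha⟩
    · exact ⟨_, by decide, rep_gamma⟩
  · intro p hp
    simp only [List.mem_cons, List.not_mem_nil, or_false] at hp
    rcases hp with rfl | rfl | rfl
    · exact Or.inr ⟨_, by simp, rep_alpha⟩
    · exact Or.inl rfl
    · exact Or.inr ⟨_, by simp, rep_gamma⟩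

theorem cl_F : Subgroup.closure ({Equiv.optionCongr (Equiv.addRight (1 : ZMod 23))} ∪
    {g : Equiv.Perm GolayPt | ∃ u : (ZMod 23)ˣ, IsSquare u ∧ g = Equiv.optionCongr (Units.mulLeft u)}) =
    FF.map M24.subtype := by
  refine clos_eq (inK_top_of_allL (by decide +kernel)) ?_ ?_ (by simp)
  · rintro σ rfl
    exact ⟨_, by decide, rep_alpha⟩
  · intro p hp
    simp only [List.mem_cons, List.not_mem_nil, or_false] at hp
    rcases hp with rfl | rfl
    · exact Or.inr ⟨_, by simp, rep_alpha⟩
    · exact Or.inl rfl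

theorem sub_map (K : Subgroup M24) : (K.map M24.subtype).subgroupOf M24 = K :=
  Subgroup.comap_map_eq_self_of_injective M24.subtype_injective K

end Cfsg.Agent.H6.MSub
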