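import Cfsg.Agent.H6.MSubC
import Cfsg.Agent.H16.Abs
import Cfsg.Agent.H12.Lin

/-! The centraliser of an octad involution of `M₂₄`. -/

set_option autoImplicit false
set_option maxRecDepth 100000

namespace Cfsg.Agent.H6.MSub

open Cfsg MulAction H16 Matrix
open scoped Pointwise

noncomputable def z0 : M24 := elt 981818691054096003685363657089320992 (by decide +kernel)
theorem rz : Rep gpt 24 z0 (get 5 981818691054096003685363657089320992) := rep_elt _ _
theorem oz : orderOf z0 = 2 := rz.orderOf_eq five_le gpt_inj (faith_M24 ⊤) trivial (by norm_num) (by decide +kernel)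
noncomputable abbrev CZ : Subgroup M24 := Subgroup.centralizer {z0}
def czS : List ℕ := [52175722657657394715627073100241937, 231835917844595141308859203098631618, 59236463332053254055005049460590693, 70568071819676001186373189022846693, 610891819688408784217528559055410723, 236640362003071688657525297027528705]
theorem CZ_facts : Nat.card CZ = 21504 ∧ Gen gpt 24 5 CZ czS := by
  have := cent_gen1 mulOk24 gpt_inj (faith_M24 ⊤) (B := [4, 15, 6, 18, 7, 8, 9]) (by decide) le_rfl (SK := [956302485175575353788796878166559809, 971537961287547170067179883682910833, 459574944353647851883203944220148970, 800359772194295224995152186644773389, 723335478555033424102806148415128011, 716687324626427388533484289582446773, 236640362003071688657525297027528705, 153847684931458851992149899768202318, 402631285795673732743689323034332587, 818380949533065261388094203310286224])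
    (inK_top_of_allL (by decide +kernel)) card_top_M24.le trivial rz [] (S := czS) (M := 21504) (by decide +kernel)
  rwa [top_inf_eq] at this

def s0 : SpecialLinearGroup (Fin 5) (ZMod 2) :=
  ⟨!![1, 1, 0, 0, 0; 0, 1, 0, 0, 0; 0, 0, 1, 0, 0; 0, 0, 0, 1, 0; 0, 0, 0, 0, 1], by decide +kernel⟩

theorem card5 : Nat.card (SpecialLinearGroup (Fin 5) (ZMod 2)) = 9999360 := by
  have := H12.card_SL_fin (ZMod.card 2) 5 (by norm_num)
  rw [show ∏ i : Fin 5, (2 ^ 5 - 2 ^ (i : ℕ)) = 9999360 by decide +kernel, show 2 - 1 = 1 from rfl, one_mul] at this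
  exact this

theorem gen5 : Gen (vecPt (Nat.cast : ℕ → ZMod 2) 2 5) (2 ^ 5) 5 (⊤ : Subgroup (SpecialLinearGroup (Fin 5) (ZMod 2)))
    [1458460010614293338769339142926772180550131322944, 1415736103303659633638305226116889076982748351520] :=
  gen_top (w := 5) (by norm_num) (inj_vecPt (inj_zmod 2) 5) card5
    [(⟨!![0, 0, 0, 0, 1; 1, 0, 0, 0, 0; 0, 1, 0, 0, 0; 0, 0, 1, 0, 0; 0, 0, 0, 1, 0], by decide +kernel⟩, 1458460010614293338769339142926772180550131322944), (⟨!![1, 1, 0, 0, 0; 0, 1, 0, 0, 0; 0, 0, 1, 0, 0; 0, 0, 0, 1, 0; 0, 0, 0, 0, 1], by decide +kernel⟩, 1415736103303659633638305226116889076982748351520)]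
    (by decide +kernel) [[0, 0, 0, 0, 1, 1, 1, 0], [0, 0, 0, 2, 0, 2, 0], [3, 3], [0, 0, 0, 3, 0, 0, 3, 1], [3, 5, 3, 5], [1, 6, 1], [2, 4, 5, 1, 1, 5, 2], [3, 8, 3, 0, 0, 0, 0, 2, 0, 8, 6], [2, 9, 5, 2]] [2, 3, 4, 8, 16] (by decide) (by decide +kernel)

def sk5 : List ℕ := [1458460010614293338769339142926772180550131322944, 1415736103303659633638305226116889076982748351520, 728515683881276237850846284227926081465314019872, 1082819111113524818823967053931731543531074979872, 1271400327231899863282374353556467165128177059872, 944424867801168495979397552871747385036469536800, 1321586448677080551339241652479065559638386772000, 1365874377081047306436322974412109905245258221600, 567263022958716773731412408839881112954408634400, 755844239077480489435203665284322668709849172000, 1271399475870032750641003250498837126634370336800]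
theorem sk5_eq : slp 5 (2 ^ 5) [[0, 0, 0, 0, 1, 1, 1, 0], [0, 0, 0, 2, 0, 2, 0], [3, 3], [0, 0, 0, 3, 0, 0, 3, 1], [3, 5, 3, 5], [1, 6, 1], [2, 4, 5, 1, 1, 5, 2], [3, 8, 3, 0, 0, 0, 0, 2, 0, 8, 6], [2, 9, 5, 2]] [1458460010614293338769339142926772180550131322944, 1415736103303659633638305226116889076982748351520] = sk5 := by decide +kernel

theorem C5_facts : Nat.card (Subgroup.centralizer {s0}) = 21504 ∧
    Gen (vecPt (Nat.cast : ℕ → ZMod 2) 2 5) (2 ^ 5) 5 (Subgroup.centralizer {s0}) [893870070658063318987057774179612752225192765472, 284208698450238923799022004682150073840081930272, 1415692895568631373389430061425573447181573130272, 894238614372998066582473396163874901859906979872, 1271400327231899863282374353556467165128177059872, 472788973109655254225256462799828337906457610272] := by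
  have := cent_gen1 (mulOk_pmul (w := 5) (n := 2 ^ 5) le_rfl) (inj_vecPt (inj_zmod 2) 5) (faith_SL (surj_zmod 2) 5 ⊤)
    (B := [2, 3, 4, 8, 16]) (by decide) le_rfl (SK := sk5) (sk5_eq ▸ InK.slp le_rfl _ gen5.1) (by rw [Subgroup.card_top, card5])
    (x := s0) trivial (px := 1415736103303659633638305226116889076982748351520) (by decide +kernel) [] (S := [893870070658063318987057774179612752225192765472, 284208698450238923799022004682150073840081930272, 1415692895568631373389430061425573447181573130272, 894238614372998066582473396163874901859906979872, 1271400327231899863282374353556467165128177059872, 472788973109655254225256462799828337906457610272]) (M := 21504) (by decide +kernel)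
  rwa [top_inf_eq] at this

theorem iso5 : Nonempty (CZ ≃* Subgroup.centralizer {s0}) := by
  obtain ⟨φ, h⟩ := exists_hom (w := 6) gpt_inj (inj_vecPt (inj_zmod 2) 5) (by decide) (faith_M24 CZ)
    (faith_SL (surj_zmod 2) 5 (Subgroup.centralizer {s0})) [(52175722657657394715627073100241937, 893870070658063318987057774179612752225192765472), (231835917844595141308859203098631618, 284208698450238923799022004682150073840081930272), (59236463332053254055005049460590693, 1271399565617488977727518392330962134497664010272), (70568071819676001186373189022846693, 1415692895568631373389430061425573447181573130272), (610891819688408784217528559055410723, 894238614372998066582473396163874901859906979872), (236640362003071688657525297027528705, 1271400327231899863282374353556467165128177059872)] [(52175722657657394715627073100241937, 893870070658063318987057774179612752225192765472), (231835917844595141308859203098631618, 284208698450238923799022004682150073840081930272), (70568071819676001186373189022846693, 1415692895568631373389430061425573447181573130272),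 (610891819688408784217528559055410723, 894238614372998066582473396163874901859906979872), (236640362003071688657525297027528705, 1271400327231899863282374353556467165128177059872), (596654750537752186788767474980520034, 472788973109655254225256462799828337906457610272)] CZ_facts.2
    (inK_of_memB (mulOk_pmul le_rfl) (inj_vecPt (inj_zmod 2) 5) (B := [2, 3, 4, 8, 16]) (by decide) C5_facts.2.1 C5_facts.1.le
      (by decide +kernel)) [] [4, 15, 6, 18, 7, 8, 9] (by decide) (by decide +kernel)
  have hs : Function.Surjective φ := surj_of_gen C5_facts.2 φ fun q hq => by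
    obtain ⟨e, he, rfl⟩ := List.mem_map.mp (show q ∈ List.map Prod.snd [(52175722657657394715627073100241937, 893870070658063318987057774179612752225192765472), (231835917844595141308859203098631618, 284208698450238923799022004682150073840081930272), (70568071819676001186373189022846693, 1415692895568631373389430061425573447181573130272), (610891819688408784217528559055410723, 894238614372998066582473396163874901859906979872), (236640362003071688657525297027528705, 1271400327231899863282374353556467165128177059872), (596654750537752186788767474980520034, 472788973109655254225256462799828337906457610272)] from hq)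
    exact (h e (List.mem_append_right _ he)).imp fun _ h => h.2
  exact ⟨MulEquiv.ofBijective φ (hs.bijective_of_nat_card_le (by rw [CZ_facts.1, C5_facts.1]))⟩

theorem inCZ {S : List ℕ} (h : withLv mul24 5 24 [4, 15, 6, 18, 7, 8, 9] czS 21504
    (fun lv => allL S fun p => memB mul24 5 24 lv p (pid 5 24)) = true) : ∀ p ∈ S, InK gpt 24 CZ (get 5 p) :=
  inK_of_memB mulOk24 gpt_inj (by decide) CZ_facts.2.1 CZ_facts.1.le h

def qS : List ℕ := [961365507626256404119956257276790816, 52581399748916891978076548417785573, 594863519240043370414977289511141922, 735182055212258915281538319703348675, 610972855239753370621941044088046114, 151456856085879939559718682089981009]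
noncomputable def Q0 : Subgroup M24 := clos gpt 24 5 CZ qS
theorem gen_Q0 : Gen gpt 24 5 Q0 qS := gen_clos (faith_M24 _) (inCZ (by decide +kernel))
theorem Q0_facts : Nat.card Q0 = 128 ∧ NormBy CZ Q0 :=
  normal_clos mulOk24 gpt_inj (faith_M24 _) CZ_facts.2 (inCZ (by decide +kernel)) (B := [4, 0]) (by decide)
    (by decide +kernel)
theorem inQ0 {S : List ℕ} (h : withLv mul24 5 24 [4, 0] qS 128
    (fun lv => allL S fun p => memB mul24 5 24 lv p (pid 5 24)) = true) : ∀ p ∈ S, InK gpt 24 Q0 (get 5 p) :=
  inK_of_memB mulOk24 gpt_inj (by decide) gen_Q0.1 Q0_facts.1.le h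

theorem commAll_of {H : Subgroup M24} {S : List ℕ} (hS : ∀ p ∈ S, InK gpt 24 H (get 5 p)) {g : M24} {p : ℕ}
    (r : Rep gpt 24 g (get 5 p)) (h : ∀ x ∈ H, g * x = x * g) : commAll mul24 5 24 S p = true := by
  rw [commAll]
  exact allL_iff.mpr fun q hq => by
    obtain ⟨x, hx, rx⟩ := hS q hq
    exact eqP_of_rep gpt_inj (r.mulP mulOk24 rx) (h x hx ▸ rx.mulP mulOk24 r)

theorem eqM {g h : M24} {p q : ℕ} (h1 : Rep gpt 24 g (get 5 p)) (h2 : Rep gpt 24 h (get 5 q)) (e : eqP 5 24 p q = true) :
    g = h := eq_of_eqP (faith_M24 ⊤) trivial trivial h1 h2 e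

theorem es0 : ESData Q0 z0 := by
  have h := (enum_gen mulOk24 gpt_inj (B := [4, 0]) (by decide) (faith_M24 _) gen_Q0 (M := 128)
    (L := fun p => andB (orB (eqP 5 24 (mul24 p p) (pid 5 24)) (eqP 5 24 (mul24 p p) 981818691054096003685363657089320992))
      (orB (notB (commAll mul24 5 24 qS p)) (orB (eqP 5 24 p (pid 5 24)) (eqP 5 24 p 981818691054096003685363657089320992)))) (by decide +kernel)).2
  refine ⟨mem_of_inK rz (inQ0 (S := [981818691054096003685363657089320992]) (by decide +kernel) _ (by simp)), fun e => ?_,
    fun x hx => (Subgroup.mem_centralizer_singleton_iff.mp (clos_le hx)).symm, fun x hx => ?_, fun y hy hc => ?_, ?_⟩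
  · have := oz; rw [e, orderOf_one] at this; omega
  · obtain ⟨p, r, hp⟩ := h x hx
    exact (orB_iff.mp (andB_iff.mp hp).1).imp (eqM (r.mulP mulOk24 r) (Rep.pid five_le)) (eqM (r.mulP mulOk24 r) rz)
  · obtain ⟨p, r, hp⟩ := h y hy
    rcases orB_iff.mp (andB_iff.mp hp).2 with e | e
    · exact absurd (commAll_of gen_Q0.1 r hc) (notB_iff.mp e)
    · exact (orB_iff.mp e).imp (eqM r (Rep.pid five_le)) (eqM r rz)
  · obtain ⟨x, hx, rx⟩ := gen_Q0.1 961365507626256404119956257276790816 (by decide)
    obtain ⟨y, hy, ry⟩ := gen_Q0.1 151456856085879939559718682089981009 (by decide)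
    exact ⟨x, hx, y, hy, fun e => absurd (eqP_of_rep gpt_inj (rx.mulP mulOk24 ry) (e ▸ ry.mulP mulOk24 rx))
      (by decide +kernel)⟩

theorem E16_le : E16 ≤ Q0 := gen_le E16_facts.2 (inQ0 (by decide +kernel))

theorem z0_mem : z0 ∈ E16 := mem_of_inK rz (e16S_inK _ (by decide))

theorem E16_cen (g : M24) (h : ∀ x ∈ E16, g * x = x * g) : g ∈ E16 := by
  obtain ⟨p, r, hp⟩ := forall_mem_of_bt mulOk24 gpt_inj (B := [4, 15, 6, 18, 7, 8, 9]) (by decide) CZ_facts.2.1 CZ_facts.1.le
    (Pre := preCent 5 24 e16S) (Q := qCent 5 24 e16S)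
    (L := fun p => orB (notB (commAll mul24 5 24 e16S p)) (Nat.beq (Nat.land oct0 (fixMask 5 24 p)) oct0))
    (by decide +kernel) (Subgroup.mem_centralizer_singleton_iff.mpr (h _ z0_mem))
    (pass_cent gpt_inj fun q hq => let ⟨x, hx, rx⟩ := e16S_inK q hq; ⟨x, rx, h x hx⟩)
  rcases orB_iff.mp hp with e | e
  · exact absurd (commAll_of e16S_inK r h) (notB_iff.mp e)
  · have : toSet oct0 ⊆ fixSet g := by
      rw [r.fixSet_eq]; exact (toSet_subset_iff (by decide)).mpr (Nat.eq_of_beq_eq_true e)
    exact (mem_fixingSubgroup_iff _).mpr fun x hx => mem_fixSet.mp (this hx)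

theorem card_fix_inv {x : M24} (h : orderOf x = 2) : (fixSet x).card = 8 ∨ (fixSet x).card = 0 := by
  obtain ⟨c, e | e⟩ := class2 h
  · left; rw [e, fixSet_conj, Finset.card_smul_finset, card_fix2A]
  · right; rw [e, fixSet_conj, Finset.card_smul_finset, card_fix2B]

theorem fix_E16 {e : M24} (he : e ∈ E16) (h1 : e ≠ 1) : fixSet e = toSet oct0 := by
  have h2 : toSet oct0 ⊆ fixSet e := fun x hx => mem_fixSet.mpr ((mem_fixingSubgroup_iff _).mp he x hx)
  have h3 := (mem_octads.mp oct0_mem).2
  have h4 := Finset.card_le_card h2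
  have := card_fix_inv (orderOf_eq_prime (E16_sq e he) h1)
  exact (Finset.eq_of_subset_of_card_le h2 (by omega)).symm

theorem E16_norm {e : M24} (he : e ∈ E16) (h1 : e ≠ 1) (g : M24) (hg : g * e = e * g) (x : M24) (hx : x ∈ E16) :
    g * x * g⁻¹ ∈ E16 := by
  have h2 := fixSet_conj g e
  rw [hg, mul_inv_cancel_right, fix_E16 he h1] at h2
  have := (conj_mem_fixing g _ x).mp hx
  rwa [← h2] at this

noncomputable def K0 : Subgroup M24 := clos gpt 24 5 CZ [233263767198245883310130638624995383, 730296429182505698059058037863254039]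
theorem gen_K0 : Gen gpt 24 5 K0 [233263767198245883310130638624995383, 730296429182505698059058037863254039] := gen_clos (faith_M24 _) (inCZ (by decide +kernel))
theorem card_K0 : Nat.card K0 = 168 := card_ss (gen_K0.slp five_le [[0, 1, 1, 1, 1], [2, 0, 1, 0, 2, 1]]) [0, 1, 2] (by decide) (by decide +kernel)
theorem card3 : Nat.card (SpecialLinearGroup (Fin 3) (ZMod 2)) = 168 := by
  have := H12.card_SL_fin (ZMod.card 2) 3 (by norm_num)
  rw [show ∏ i : Fin 3, (2 ^ 3 - 2 ^ (i : ℕ)) = 168 by decide +kernel, show 2 - 1 = 1 from rfl, one_mul] at this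
  exact this
theorem iso3 : Nonempty (K0 ≃* SpecialLinearGroup (Fin 3) (ZMod 2)) := by
  obtain ⟨f⟩ := exists_equiv (w := 5) gpt_inj (inj_vecPt (inj_zmod 2) 3) (by decide) (faith_M24 _)
    (faith_SL (surj_zmod 2) 3 ⊤) [(233263767198245883310130638624995383, 5208840), (730296429182505698059058037863254039, 3650976)] gen_K0
    (gen_top (w := 3) (by norm_num) (inj_vecPt (inj_zmod 2) 3) card3
      [(⟨!![1, 0, 1; 0, 0, 1; 0, 1, 1], by decide +kernel⟩, 5208840), (⟨!![0, 0, 1; 0, 1, 1; 1, 1, 0], by decide +kernel⟩, 3650976)] (by decide +kernel)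
      [[1, 0, 1], [1, 0, 0, 1, 1, 1], [3, 3]] [1, 2, 4] (by decide) (by decide +kernel))
    (by rw [card_K0, Subgroup.card_top, card3]) [[0, 1, 1, 1, 1], [2, 0, 1, 0, 2, 1]] [0, 1, 2] (by decide) (by decide +kernel)
  exact ⟨f.trans Subgroup.topEquiv⟩

theorem conj_z0 {z : M24} (hz : orderOf z = 2) (h : (fixSet z).card = 8) : ∃ c : M24, z = c * z0 * c⁻¹ := by
  have key : ∀ x : M24, orderOf x = 2 → (fixSet x).card = 8 → ∃ c : M24, x = c * t2A * c⁻¹ := fun x hx h => by
    obtain ⟨c, e | e⟩ := class2 hx
    · exact ⟨c, e⟩
    · rw [e, fixSet_conj, Finset.card_smul_finset, card_fix2B] at h; omega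
  obtain ⟨a, ha⟩ := key z hz h
  obtain ⟨b, hb⟩ := key z0 oz (by rw [rz.card_fixSet]; decide +kernel)
  exact ⟨a * b⁻¹, by rw [ha, hb]; group⟩

end Cfsg.Agent.H6.MSub
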