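import Cfsg.Agent.H6.SpT
import Cfsg.Agent.H28.RgA
import Cfsg.Agent.H14.CT4
import Cfsg.Agent.L0.PresSL3
import Cfsg.Agent.S2278
import Cfsg.Agent.S2279

/-! Block embeddings of special linear groups and small generating sets of their products. -/

set_option autoImplicit false

namespace Cfsg.Agent.H6.Om

open Cfsg.Agent.H14 Cfsg.Agent.H28 Cfsg.Agent.L0 Cfsg.Agent.H6.Sp Subgroup Matrix
open scoped MatrixGroups

variable {m n : ℕ} {F : Type*} [Field F]

/-- the inclusion matrix -/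
def inc (F : Type*) [Field F] (ι : Fin m ↪ Fin n) : Matrix (Fin n) (Fin m) F := of fun p i => if p = ι i then 1 else 0

theorem inc_mul (ι : Fin m ↪ Fin n) : (inc F ι)ᵀ * inc F ι = 1 := by
  ext i j
  simp [inc, mul_apply, one_apply, eq_comm]

/-- the block embedding -/
def slEmb (ι : Fin m ↪ Fin n) : SpecialLinearGroup (Fin m) F →* SpecialLinearGroup (Fin n) F :=
  MonoidHom.mk' (fun A => ⟨1 + inc F ι * ((A.1 - 1) * (inc F ι)ᵀ), by
    rw [det_one_add_mul_comm, Matrix.mul_assoc, inc_mul, Matrix.mul_one, add_sub_cancel, A.2]⟩) fun A B => Subtype.ext (by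
    change _ = (1 + _) * (1 + _)
    simp only [sl_mul, Matrix.mul_add, Matrix.add_mul, Matrix.mul_one, Matrix.one_mul, Matrix.mul_assoc]
    rw [← Matrix.mul_assoc (inc F ι)ᵀ, inc_mul, Matrix.one_mul]
    simp only [Matrix.sub_mul, Matrix.mul_sub, Matrix.one_mul, Matrix.mul_assoc]
    abel)

theorem slEmb_Xn (ι : Fin m ↪ Fin n) (i j : Fin m) (t : F) : slEmb ι (Xn i j t) = Xn (ι i) (ι j) t := by
  by_cases h : i = j
  · simp [Xn, h]
  apply Subtype.ext
  rw [Xnv (ι.injective.ne h)]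
  change 1 + inc F ι * (((Xn i j t).1 - 1) * _) = _
  rw [Xnv h, transvection, transvection, add_sub_cancel_left]
  congr 1
  ext p q
  rw [mul_apply, Finset.sum_eq_single i (by simp +contextual [mul_apply, single_apply, eq_comm]) (by simp), mul_apply,
    Finset.sum_eq_single j (by simp +contextual [single_apply, eq_comm]) (by simp)]
  simp [inc, single_apply, ite_and, eq_comm]
  split_ifs <;> rfl

theorem Xn_eq {I : Type} [Fintype I] [DecidableEq I] {i j : I} (h : i ≠ j) (t : F) :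
    SpecialLinearGroup.transvection h t = Xn i j t := Subtype.ext (Xnv h t).symm

theorem Xn_top {I : Type} [Fintype I] [DecidableEq I] {M : Subgroup (SpecialLinearGroup I F)}
    (h : ∀ i j t, i ≠ j → Xn i j t ∈ M) : M = ⊤ := H12.SL_eq_top_of_transvection_mem fun i j e c => Xn_eq e c ▸ h i j c e

theorem Xn_adj {M : Subgroup (SpecialLinearGroup (Fin (n + 1)) F)} (h1 : ∀ (k : Fin n) t, Xn k.castSucc k.succ t ∈ M)
    (h2 : ∀ (k : Fin n) t, Xn k.succ k.castSucc t ∈ M) : M = ⊤ := Xn_top fun i j t e =>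
  Xn_eq e t ▸ (rgA n F).x_mem_of_sub' (J := Set.univ) (fun k _ t => (Xn_eq k.castSucc_lt_succ.ne t ▸ h1 k t :))
    (fun k _ t => (Xn_eq k.castSucc_lt_succ.ne' t ▸ h2 k t :)) (r := ⟨(i, j), e⟩) (fun _ h => absurd trivial h) t

/-- the monomial elements -/
def Nn {I : Type} [Fintype I] [DecidableEq I] (i j : I) (t : F) : SpecialLinearGroup I F := Xn i j t * Xn j i (-t⁻¹) * Xn i j t

theorem Nn_conj {i j p q : Fin (n + 1)} (h : i ≠ j) (h' : p ≠ q) {t : F} (ht : t ≠ 0) : ∃ c : Fˣ, ∀ u : F,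
    Nn i j t * Xn p q u * (Nn i j t)⁻¹ = Xn (Equiv.swap i j p) (Equiv.swap i j q) (c * u) := by
  obtain ⟨c, hc⟩ := ((rgA n F).rep_n ⟨(i, j), h⟩ ht).conj_x ⟨(p, q), h'⟩
  refine ⟨c, fun u => ?_⟩
  have := hc u
  rw [RS.rP_apply, reflA_eq] at this
  simpa only [RG0.n, rgA_x, Xn_eq] using! this

theorem commutator_SL (hn : 3 ≤ n) : commutator (SpecialLinearGroup (Fin n) F) = ⊤ := Xn_top fun i j t e => by
  obtain ⟨k, -, h⟩ := Finset.exists_mem_notMem_of_card_lt_card (s := {i, j}) (t := Finset.univ)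
    (Finset.card_le_two.trans_lt (by simp; omega))
  simp only [Finset.mem_insert, Finset.mem_singleton, not_or] at h
  rw [← mul_one t, ← Xn_comm (Ne.symm h.1) e h.2]
  exact commutator_mem_commutator (mem_top _) (mem_top _)

section prod

variable {A B : Type*} [Group A] [Group B] {D : Subgroup (A × B)}

theorem split_mem {a : A} {b : B} {k l : ℕ} (ha : a ^ l = 1) (hb : b ^ k = 1) (h : k.Coprime l) (hl : l ≠ 0)
    (hD : (a, b) ∈ D) : (a, 1) ∈ D ∧ (1, b) ∈ D := by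
  have h1 : ((a, 1) : A × B) ∈ D := by
    obtain ⟨c, -, hc⟩ := Nat.exists_mul_mod_eq_of_coprime 1 h hl
    have := pow_mem hD (k * c)
    rwa [Prod.pow_mk, pow_mul b, hb, one_pow, pow_eq_pow_mod _ ha, hc, ← pow_eq_pow_mod _ ha, pow_one] at this
  exact ⟨h1, by simpa using mul_mem (inv_mem h1) hD⟩

theorem inl_mem {u v : A} (h : closure {u, v} = ⊤) (hp : commutator A = ⊤) (hu : (u, 1) ∈ D) {c : B} (hv : (v, c) ∈ D) (a : A) :
    (a, 1) ∈ D := by
  have h1 : D.map (MonoidHom.fst A B) = ⊤ := by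
    rw [eq_top_iff, ← h, closure_le]
    rintro _ (rfl | rfl)
    exacts [⟨_, hu, rfl⟩, ⟨_, hv, rfl⟩]
  haveI : (D.comap (MonoidHom.inl A B)).Normal := ⟨fun x hx g => by
    obtain ⟨y, hy, rfl⟩ : g ∈ D.map (MonoidHom.fst A B) := h1 ▸ mem_top g
    have := mul_mem (mul_mem hy hx) (inv_mem hy)
    rwa [show y * MonoidHom.inl A B x * y⁻¹ = MonoidHom.inl A B (y.1 * x * y.1⁻¹) from Prod.ext rfl (by simp)] at this⟩
  have h2 : commutator A ≤ D.comap (MonoidHom.inl A B) :=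
    Normal.commutator_le_of_self_sup_commutative_eq_top (H := zpowers v) (by
      rw [eq_top_iff, ← h, closure_le]
      rintro _ (rfl | rfl)
      exacts [mem_sup_left hu, mem_sup_right (mem_zpowers _)]) inferInstance
  exact h2 (hp ▸ mem_top a)

theorem prod_top {u v : A} {c d : B} (h : closure {u, v} = ⊤) (h' : closure {c, d} = ⊤) (h1 : (u, 1) ∈ D) (h2 : (v, 1) ∈ D)
    (h3 : (1, c) ∈ D) (h4 : (1, d) ∈ D) : D = ⊤ := by
  have a1 : ⊤ ≤ D.comap (MonoidHom.inl A B) := by rw [← h, closure_le]; rintro _ (rfl | rfl); exacts [h1, h2]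
  have a2 : ⊤ ≤ D.comap (MonoidHom.inr A B) := by rw [← h', closure_le]; rintro _ (rfl | rfl); exacts [h3, h4]
  exact eq_top_iff.2 fun x _ => by
    have := mul_mem (mem_comap.1 (a1 (mem_top x.1))) (mem_comap.1 (a2 (mem_top x.2)))
    simpa using this

end prod

theorem sl2_two [Finite F] (p : ℕ) [CharP F p] : ∃ (c d : SL(2, F)) (k : ℕ), c ^ k = 1 ∧ k.Coprime p ∧ closure {c, d} = ⊤ ∧
    (commutator SL(2, F) = ⊤ ∨ d ^ p = 1) := by
  have pp := CharP.char_is_prime F p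
  obtain ⟨ζ, hζ⟩ := IsCyclic.exists_generator (α := Fˣ)
  have gen : ∀ {L : Subgroup SL(2, F)}, X2 1 ∈ L → D2 ζ ∈ L → W2 ∈ L → L = ⊤ :=
    sl2_gen (MonoidHom.id _) Function.surjective_id ζ hζ
  have m1 : ∀ a b : SL(2, F), a ∈ closure {a, b} := fun a b => subset_closure (by simp)
  have m2 : ∀ a b : SL(2, F), b ∈ closure {a, b} := fun a b => subset_closure (by simp)
  by_cases h : (ζ : F) ^ 2 = 1
  · have a1 : (X2 1 : SL(2, F)) ^ p = 1 := by rw [← add_nat' X2_add, CharP.cast_eq_zero, zero_mul, add_zero' X2_add]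
    have a2 : ∀ {L : Subgroup SL(2, F)}, X2 1 ∈ L → W2 ∈ L → L = ⊤ := fun h1 h2 => gen h1 (by
      rcases sq_eq_one_iff.1 h with e | e
      · rw [show ζ = 1 from Units.ext e, map_one]; exact one_mem _
      · rw [show ζ = -1 from Units.ext e, ← W2_sq]; exact mul_mem h2 h2) h2
    by_cases e : p = 2
    · refine ⟨X2 1 * W2, X2 1, 3, Subtype.ext ?_, by rw [e]; decide, a2 (m2 _ _) ?_, .inr a1⟩
      · simp [pow_succ, sl_mul, X2v, W2v, Matrix.one_fin_two]
      · exact (Subgroup.mul_mem_cancel_left _ (m2 _ _)).1 (m1 _ _)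
    · refine ⟨W2, X2 1, 2 ^ 2, Subtype.ext ?_, ((Nat.coprime_primes Nat.prime_two pp).2 (Ne.symm e)).pow_left 2,
        a2 (m2 _ _) (m1 _ _), .inr a1⟩
      simp [pow_succ, sl_mul, W2v, Matrix.one_fin_two]
  · refine ⟨D2 ζ, X2 1 * W2, Nat.card F - 1, by rw [← map_pow, ← Nat.card_units, pow_card_eq_one', map_one], ?_, ?_,
      .inl (SL2.commutator_eq_top ζ.ne_zero h)⟩
    · haveI := Fintype.ofFinite F
      have : p ∣ Nat.card F := by
        rw [Nat.card_eq_fintype_card, ← CharP.cast_eq_zero_iff F p]; exact FiniteField.cast_card_eq_zero F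
      exact Nat.Coprime.coprime_dvd_right this ((Nat.coprime_self_sub_left Nat.card_pos).2 (by simp))
    have a1 := m1 (D2 ζ) (X2 1 * W2)
    have a2 := m2 (D2 ζ) (X2 1 * W2)
    generalize closure {D2 ζ, X2 1 * W2} = L at a1 a2
    have a3 := mul_mem a1 (mul_mem (mul_mem a2 a1) (inv_mem a2))
    rw [show ∀ d x w : SL(2, F), d * (x * w * d * (x * w)⁻¹) = d * x * (w * d * w⁻¹) * x⁻¹ by intros; group, W2_D2, D2_X2,
      ← L0.add_neg' X2_add, ← X2_add] at a3
    have a4 : ∀ t : F, X2 (t * ((ζ : F) ^ 2 * 1 + -1)) ∈ L := fun t => by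
      induction t using sq_induction with
      | h0 => rw [zero_mul, add_zero' X2_add]; exact one_mem _
      | h1 e =>
        obtain ⟨k, rfl⟩ := hζ e
        have : D2 (ζ ^ k) ∈ L := map_zpow D2 ζ k ▸ zpow_mem a1 k
        exact D2_X2 (ζ ^ k) _ ▸ mul_mem (mul_mem this a3) (inv_mem this)
      | h2 a b ha hb => rw [add_mul, X2_add]; exact mul_mem ha hb
    have a5 : X2 1 ∈ L := by
      have := a4 ((ζ : F) ^ 2 * 1 + -1)⁻¹
      rwa [inv_mul_cancel₀ (by rwa [mul_one, ← sub_eq_add_neg, sub_ne_zero])] at this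
    exact gen a5 a1 ((L.mul_mem_cancel_left a5).1 a2)

theorem prod_gen [Finite F] (hm : 2 ≤ m) : ∃ L : List (SpecialLinearGroup (Fin m) F × SL(2, F)),
    L.length ≤ (if m = 2 then 3 else 2) ∧ closure {x | x ∈ L} = ⊤ := by
  obtain ⟨p, hp⟩ := CharP.exists F
  have pp := CharP.char_is_prime F p
  obtain ⟨c, d, k, h1, h2, h3, h4⟩ := sl2_two (F := F) p
  split_ifs with e
  · subst e
    refine ⟨[(c, 1), (d, c), (1, d)], le_rfl, ?_⟩
    have a1 : ∀ x ∈ [(c, 1), (d, c), (1, d)], x ∈ closure {x | x ∈ [(c, 1), (d, c), (1, d)]} := fun x hx => subset_closure hx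
    simp only [List.forall_mem_cons] at a1
    have a2 := h4.elim (fun h => inl_mem h3 h a1.1 a1.2.1 d) fun h => (split_mem h h1 h2 pp.ne_zero a1.2.1).1
    exact prod_top h3 h3 a1.1 a2 (by simpa using mul_mem (inv_mem a2) a1.2.1) a1.2.2.1
  haveI := Fintype.ofFinite F
  obtain ⟨u, v, hu, h⟩ : ∃ u v : SpecialLinearGroup (Fin m) F, IsNilpotent (u.1 - 1) ∧ closure {u, v} = ⊤ := by
    by_cases e' : m = 3
    · subst e'
      obtain ⟨u, g, a, -, b⟩ := S2278.result (F := F)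
      exact ⟨u, _, a, b⟩
    · obtain ⟨⟨u, v, a, -, b⟩, -⟩ := S2279.result (F := F) m (by omega)
      exact ⟨u, v, a.1, b⟩
  obtain ⟨r, hr⟩ := hu
  have h5 : u ^ p ^ r = 1 := Subtype.ext (by
    haveI : Nonempty (Fin m) := ⟨⟨0, by omega⟩⟩
    haveI := Fact.mk pp
    have := sub_pow_char_pow_of_commute p r (Commute.one_right u.1)
    rw [pow_eq_zero_of_le (Nat.lt_pow_self pp.one_lt).le hr, one_pow, eq_comm, sub_eq_zero] at this
    exact this)
  refine ⟨[(u, c), (v, d)], le_rfl, ?_⟩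
  have a1 : ∀ x ∈ [(u, c), (v, d)], x ∈ closure {x | x ∈ [(u, c), (v, d)]} := fun x hx => subset_closure hx
  simp only [List.forall_mem_cons] at a1
  have a2 := split_mem h5 h1 (h2.pow_right r) (pow_ne_zero _ pp.ne_zero) a1.1
  have a3 := inl_mem h (commutator_SL (by omega)) a2.1 a1.2.1 v
  exact prod_top h h3 a2.1 a3 a2.2 (by simpa using mul_mem (inv_mem a3) a1.2.1)

end Cfsg.Agent.H6.Om
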