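import Cfsg.Agent.H6.OmA
import Cfsg.Agent.H28.RgD

/-! The Curtis–Tits theorem for the orthogonal group of plus type. -/

set_option autoImplicit false

namespace Cfsg.Agent.H6.Om

open Cfsg.Agent.H13 Cfsg.Agent.H14 Cfsg.Agent.H28 Cfsg.Agent.L0 Subgroup Matrix QuadraticMap
open scoped MatrixGroups commutatorElement

theorem ct_sl {K : Type*} [Field K] {Γ G' : Type*} [Group Γ] [Group G'] {ι Φ : Type} [Fintype ι] [DecidableEq ι] {R : RS ι Φ}
    [Finite Φ] (hl : ∀ r s, R.len r = R.len s) (Y : RG R K G') (hc : ∀ i, ∃ j, R.car j i = -1) (a : ι → Bool → K → Γ)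
    (h0 : ∀ i b t u, a i b (t + u) = a i b t * a i b u) (h1 : ∀ i j, R.car i j = -1 → Edge (a i) (a j))
    (h2 : ∀ i j, R.car i j = 0 → ∀ b c t u, Commute (a i b t) (a j c u)) :
    ∃ X : RG R K (Γ × G'), RG0.Hom X.toRG0 Y.toRG0 (MonoidHom.snd _ _) ∧ (∀ i t, (X.x (R.simple i) t).1 = a i true t) ∧
      ∀ i t, (X.x (R.neg (R.simple i)) t).1 = a i false t := by
  classical
  have n1 : ∀ i j, R.neg (R.simple i) ≠ R.simple j := fun i j e => R.not_pos_neg_simple i (e ▸ R.pos_simple j)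
  have key : ∀ i j, ∃ z : Φ → K → Γ, (∀ r ∈ R.sub {i, j}, ∀ t u, z r (t + u) = z r t * z r u) ∧
      (∀ r ∈ R.sub {i, j}, ∀ s ∈ R.sub {i, j}, 0 ≤ R.pair r s → ∀ t u, Commute (z r t) (z s u)) ∧
      (∀ r ∈ R.sub {i, j}, ∀ s ∈ R.sub {i, j}, R.pair r s = -1 → ∀ t u, ⁅z r t, z s u⁆ = z (R.refl r s) (Y.η r s * t * u)) ∧
      z (R.simple i) = a i true ∧ z (R.neg (R.simple i)) = a i false ∧ z (R.simple j) = a j true ∧
        z (R.neg (R.simple j)) = a j false := fun i j => by
    by_cases h : R.car i j = -1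
    · exact Y.exists_z_edge hl h (h1 i j h)
    obtain ⟨z, z1, z2⟩ : ∃ z : Φ → K → Γ, (∀ k, z (R.simple k) = a k true) ∧ ∀ k, z (R.neg (R.simple k)) = a k false :=
      ⟨fun r => if h : ∃ k, r = R.simple k then a h.choose true else if h : ∃ k, r = R.neg (R.simple k) then a h.choose false else 1,
        fun k => by
          have : ∃ l, R.simple k = R.simple l := ⟨k, rfl⟩
          simp only [dif_pos this, ← R.simple_injective this.choose_spec], fun k => by
          have : ∃ l, R.neg (R.simple k) = R.neg (R.simple l) := ⟨k, rfl⟩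
          simp only [dif_neg (not_exists.2 (n1 k)), dif_pos this, ← R.simple_injective (R.neg_injective this.choose_spec)]⟩
    have b : ∀ r ∈ R.sub {i, j}, ∃ k ∈ ({i, j} : Set ι), r = R.simple k ∨ r = R.neg (R.simple k) := fun r hr => by
      rcases R.sub_cases_sl hl hr with e | e | e | e | e <;> simp_all
    have c : ∀ k ∈ ({i, j} : Set ι), ∀ l ∈ ({i, j} : Set ι), k = l ∨ R.car k l = 0 := by
      have : i = j ∨ R.car i j = 0 := or_iff_not_imp_left.2 fun e => by
        have p2 : R.car j i = R.car i j := by simpa [RS.pair_simple_simple] using R.pair_comm_sl hl (R.simple j) (R.simple i)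
        have := R.car_cases e; omega
      rintro k (rfl | rfl) l (rfl | rfl)
      exacts [Or.inl rfl, this, this.imp Eq.symm R.car_eq_zero_comm.1, Or.inl rfl]
    have d : ∀ k b t u, Commute (a k b t) (a k b u) := fun k b t u => by rw [Commute, SemiconjBy, ← h0, ← h0, add_comm]
    refine ⟨z, fun r hr => ?_, fun r hr s hs h => ?_, fun r hr s hs h => ?_, z1 i, z2 i, z1 j, z2 j⟩
    · obtain ⟨k, -, rfl | rfl⟩ := b r hr <;> simp [z1, z2, h0]
    · obtain ⟨k, hk, rfl | rfl⟩ := b r hr <;> obtain ⟨l, hl, rfl | rfl⟩ := b s hs <;> simp only [z1, z2] <;>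
        rcases c k hk l hl with rfl | e <;> first | exact d _ _ | exact h2 _ _ e _ _ | simp at h
    · obtain ⟨k, hk, rfl | rfl⟩ := b r hr <;> obtain ⟨l, hl, rfl | rfl⟩ := b s hs <;>
        rcases c k hk l hl with rfl | e <;> simp [RS.pair_simple_simple, *] at h
  choose z z1 z2 z3 z4 z5 z6 z7 using key
  choose Z e hZ' using fun i j => Y.exists_homOn_sl hl (z i j) (z1 i j) (z2 i j) (z3 i j)
  have m : ∀ {J : Set ι} {k r}, k ∈ J → r = R.simple k ∨ r = R.neg (R.simple k) → r ∈ R.sub J := by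
    rintro J k r h (rfl | rfl); exacts [RG.simple_mem_sub.2 h, RG.neg_mem_sub (RG.simple_mem_sub.2 h)]
  have hd : ∀ i, ∃ j, Y.DecOn {i, j} (R.srefl j (R.simple i)) := fun i => by
    obtain ⟨j, hj⟩ := hc i
    have p := (R.pair_simple_simple j i).trans hj
    have q : R.ht (R.srefl j (R.simple i)) = 2 := by rw [R.ht_srefl, ← R.pair_simple, p]; simp
    refine ⟨j, RS.htv, by rw [← R.ht_def, q]; decide, fun t => ?_⟩
    have := Y.comm_sl hl p (Y.η (R.simple j) (R.simple i) * t) 1
    rw [← mul_assoc, Y.η_cast_mul_self, one_mul, mul_one, R.refl_simple] at this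
    have b : ∀ k ∈ ({i, j} : Set ι), ∀ u, Y.x (R.simple k) u ∈ Y.gen ({k | 0 < RS.htv (R.vec k) ∧ k ≠ R.srefl j (R.simple i)} ∩
        R.sub {i, j}) := fun k hk => Y.x_mem_gen ⟨⟨(R.pos_simple k).ht_pos, fun e => by simp [← e] at q⟩, RG.simple_mem_sub.2 hk⟩
    exact this ▸ mul_mem (mul_mem (mul_mem (b j (by simp) _) (b i (by simp) _)) (inv_mem (b j (by simp) _))) (inv_mem (b i (by simp) _))
  obtain ⟨X, x1, x2⟩ := curtisTits Z e (fun i j k hk r hr => funext fun t => by
    rw [hZ' i j r (m hk hr), hZ' k k r (m (by simp) hr)]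
    rcases hk with rfl | rfl <;> rcases hr with rfl | rfl <;> simp [z4, z5, z6, z7]) hd
  have m1 : ∀ i {r}, _ → r ∈ R.sub {i, i} := fun i => m (k := i) (by simp)
  refine ⟨x1.rg (Y.dec_all fun i => let ⟨j, f, h1, h2⟩ := hd i
      ⟨_, R.sP_mem_W j, f, by simpa using h1, fun t => by simpa using Y.gen_mono Set.inter_subset_left (h2 t)⟩), x1,
    fun i t => ?_, fun i t => ?_⟩ <;> change (X.x _ t).1 = _
  · simp [x2 i i _ (m1 i (Or.inl rfl)), hZ' i i _ (m1 i (Or.inl rfl)), z4]
  · simp [x2 i i _ (m1 i (Or.inr rfl)), hZ' i i _ (m1 i (Or.inr rfl)), z5]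

variable {m l : ℕ} {K : Type*} [Field K]

theorem OG_ext' {g h : OG (QPlus m K)} (H : ∀ z, g.1 (Pi.single z 1) = h.1 (Pi.single z 1)) : g = h :=
  Subtype.ext (LinearEquiv.toLinearMap_injective ((Pi.basisFun K (Idx m)).ext fun z => by simpa using H z))

theorem conj_YD {g : OG (QPlus m K)} {a b a' b' : Idx m} {c d : K} (ha : g.1 (Pi.single a 1) = c • Pi.single a' 1)
    (hb : g.1 (Pi.single b 1) = d • Pi.single b' 1) (h : a'.swap ≠ b') (t : K) : g * YD a b t * g⁻¹ = YD a' b' (c * d * t) := by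
  rw [YD, conj_sieg, map_smul, ha, hb, sieg_smul_left (Q_single _) (by simp [polar_single, h]), smul_smul, smul_smul, YD]
  congr 2; ring

/-- the monomial elements -/
noncomputable def ND (x y : Idx m) : OG (QPlus m K) := YD x y 1 * YD x.swap y.swap 1 * YD x y 1

theorem ND_single {x y : Idx m} (h : ix x ≠ ix y) (z : Idx m) :
    (ND x y : OG (QPlus m K)).1 (Pi.single z 1) = (if ix z = ix x then (-1 : K) else 1) • Pi.single (σD x y z) 1 := by
  obtain ⟨a1, a2, a3, a4, a5, a6, a7, a8, a9, a10, a11, a12⟩ := neD h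
  simp only [ND, OG_mul_apply, YD_apply a3, YD_apply (a := x.swap) (b := y.swap) (by simpa using a2)]
  rcases σD_cases h z with ⟨rfl, e⟩ | ⟨rfl, e⟩ | ⟨rfl, e⟩ | ⟨rfl, e⟩ | ⟨b1, b2, b3, b4, e⟩ <;> simp only [e]
  · simp [*]; abel
  · simp [h.symm, *]
  · simp [h.symm, *]
  · simp [*]; abel
  simp [ix_eq_iff, b1.symm, b2.symm, b3.symm, b4.symm, eq_comm (b := z.swap), H28.swap_eq_iff, b1, b2, b3, b4]

theorem ND_conj {x y a b : Idx m} (h : ix x ≠ ix y) (h' : ix a ≠ ix b) (t : K) : ND x y * YD a b t * (ND x y)⁻¹ =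
    YD (σD x y a) (σD x y b) ((if ix a = ix x then -1 else 1) * (if ix b = ix x then -1 else 1) * t) :=
  conj_YD (ND_single h a) (ND_single h b) (neD (ix_σD h h')).2.2.1 t

theorem hD_single (r : ΦD (l + 2)) {t : K} (ht : t ≠ 0) (z : Idx (l + 2)) :
    ((rgD l K).h r t).1 (Pi.single z 1) = (t ^ (ip r.1.1 z + ip r.1.2 z)) • Pi.single z 1 := by
  change ((rg0D l K).n r t).1 (((rg0D l K).n r (-1)).1 _) = _
  rw [nD_single l K r (by simp), map_smul, nD_single l K r ht, σD_σD r.2.ne, smul_smul]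
  congr 1
  have := neD r.2.ne
  have h1 := sg_cast (K := K) r.1.1
  have h2 : ix r.1.1 ≠ ix r.1.2 := r.2.ne
  rcases σD_cases r.2.ne z with ⟨rfl, e⟩ | ⟨rfl, e⟩ | ⟨rfl, e⟩ | ⟨rfl, e⟩ | ⟨b1, b2, b3, b4, e⟩ <;> simp only [e]
  iterate 4 simp [ip, δD, h2.symm, ← mul_assoc, *]
  simp [ip, δD, ix_eq_iff, b1.symm, b2.symm, b3.symm, b4.symm, eq_comm (b := z.swap), H28.swap_eq_iff, b1, b2, b3, b4]

theorem hD_center : (rgD l K).h (simpleD (Fin.last l).castSucc) (-1) * (rgD l K).h (simpleD (Fin.last _)) (-1) = 1 :=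
  OG_ext' fun z => by
  rw [OG_mul_apply, hD_single _ (by simp), map_smul, hD_single _ (by simp), smul_smul, ← zpow_add₀ (by simp)]
  have : ip (.inr (Fin.last (l + 1))) z = -ip (.inl (Fin.last (l + 1))) z := by
    rw [← εD_dot, ← εD_dot, ← neg_dotProduct, ← εD_swap]; rfl
  simp only [simpleD, Fin.val_castSucc, Fin.val_last, le_refl, dif_pos, add_le_iff_nonpos_right, nonpos_iff_eq_zero,
    one_ne_zero, dif_neg, not_false_eq_true]
  change (-1 : K) ^ (ip (.inl (Fin.last l).castSucc) z + ip (.inl (Fin.last _)) z +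
    (ip (.inl (Fin.last l).castSucc) z + ip (.inr (Fin.last _)) z)) • _ = _
  rw [this, show ∀ a b : ℤ, a + b + (a + -b) = 2 * a by intros; ring, _root_.zpow_mul]
  simp

theorem D_ker [Finite K] {G : Type*} [Group G] {X : RG (rsD l) K G} {π : G →* OG (QPlus (l + 2) K)}
    (e : RG0.Hom X.toRG0 (rgD l K).toRG0 π)
    (hz : X.h (simpleD (Fin.last l).castSucc) (-1) * X.h (simpleD (Fin.last _)) (-1) = 1) {g : G} (hg : g ∈ X.grp)
    (h : π g = 1) : g = 1 := by
  have h1 := X.hmul_of_finite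
  have h2 := (rgD l K).hmul_of_finite
  have h3 := RG.mem_H_of_map_eq_one e hg h
  rw [← RG.torX_range _ h1] at h3
  obtain ⟨c, rfl⟩ := h3
  have h4 : π (X.torX h1 c) = (rgD l K).torX h2 c :=
    DFunLike.congr_fun (MonoidHom.pi_ext (f := π.comp (X.torX h1)) (g := (rgD l K).torX h2) fun i t => by
      rw [MonoidHom.comp_apply, RG.torX_single, RG.torX_single]; exact e.map_h _ _) c
  rw [h4] at h
  let μ : Fin (l + 2) → Fin (l + 2) → ℤ := fun i k => (if k.val = i ∧ i.val ≤ l ∨ k.val = l + 1 ∧ l ≤ i.val then 1 else 0) -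
    if k.val + 1 = i.val then 1 else 0
  have key : ∀ i c, ((rgD l K).torX h2 c).1 (Pi.single (.inl i) 1) = ((∏ k, c k ^ μ i k : Kˣ) : K) • Pi.single (.inl i) 1 :=
    fun i c => by
    induction c using Pi.mulSingle_induction with
    | one => simp
    | mul f g hf hg => rw [map_mul, OG_mul_apply, hg, map_smul, hf, smul_smul]; simp [mul_zpow, Finset.prod_mul_distrib, mul_comm]
    | mulSingle k t =>
      rw [RG.torX_single, Finset.prod_eq_single k (by simp +contextual) (by simp), hD_single _ t.ne_zero]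
      simp only [Euc.rs_simple, eucD, simpleD, Pi.mulSingle_eq_same, Units.val_zpow_eq_zpow_val]
      have := i.2
      have := k.2
      split_ifs with e <;> congr 2 <;> simp [ip, μ, Fin.ext_iff] <;> omega
  have k2 : ∀ i, ∏ k, c k ^ μ i k = 1 := fun i => by
    have := congrFun (key i c) (.inl i)
    rw [h] at this
    exact Units.ext (by simpa using this.symm)
  have k3 : ∀ j (hj : j < l), c ⟨j, by omega⟩ = 1 := fun j => by
    induction j with
    | zero =>
      intro hj
      have := k2 ⟨0, by omega⟩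
      rw [Finset.prod_eq_single ⟨0, by omega⟩ (fun k _ hk => by
        rw [show μ ⟨0, by omega⟩ k = 0 by simp only [μ, ne_eq, Fin.ext_iff] at hk ⊢; split_ifs <;> first | omega | contradiction,
          zpow_zero]) (by simp)] at this
      simpa [μ] using this
    | succ j ih =>
      intro hj
      have := k2 ⟨j + 1, by omega⟩
      rw [Finset.prod_eq_single ⟨j + 1, by omega⟩ (fun k _ hk => ?_) (by simp)] at this
      · simpa [μ, hj.le] using this
      · by_cases e : k.val = j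
        · rw [show k = ⟨j, by omega⟩ from Fin.ext e, ih (by omega), _root_.one_zpow]
        · rw [show μ ⟨j + 1, by omega⟩ k = 0 by simp only [μ, ne_eq, Fin.ext_iff] at hk ⊢; split_ifs <;> omega, zpow_zero]
  have k4 : ∀ f : Fin (l + 2) → ℤ, ∏ k, c k ^ f k =
      c (Fin.last l).castSucc ^ f (Fin.last l).castSucc * c (Fin.last _) ^ f (Fin.last _) := fun f => by
    rw [Fin.prod_univ_castSucc, Fin.prod_univ_castSucc, Finset.prod_eq_one, one_mul]
    intro k _
    rw [show k.castSucc.castSucc = ⟨k, by omega⟩ from rfl, k3 k k.2, _root_.one_zpow]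
  have k5 := k2 (Fin.last l).castSucc
  have k6 := k2 (Fin.last _)
  rw [k4] at k5 k6
  simp [μ, inv_mul_eq_one, show l + 1 + 1 ≠ l by omega] at k5 k6
  have k7 : c = Pi.mulSingle (Fin.last l).castSucc (c (Fin.last _)) * Pi.mulSingle (Fin.last _) (c (Fin.last _)) := by
    funext k
    induction k using Fin.lastCases with
    | last => simp
    | cast k =>
      induction k using Fin.lastCases with
      | last => simp [k6]
      | cast k => simpa using! k3 k k.2
  rw [k7, map_mul, RG.torX_single, RG.torX_single]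
  rw [k6] at k5
  rcases mul_self_eq_one_iff.1 (show (c (Fin.last _) : K) * c (Fin.last _) = 1 by simpa using congrArg Units.val k5) with e | e
  · simp [e, RG0.h_one]
  · rw [e]; exact hz

end Cfsg.Agent.H6.Om
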