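import Cfsg.Agent.H6.SpW

/-! The symplectic group as the completion of an amalgam of rank two groups. -/

set_option autoImplicit false

namespace Cfsg.Agent.H6.Sp

open Cfsg.Agent.H14 Cfsg.Agent.H28 Cfsg.Agent.H12 Cfsg.Agent.L0 Subgroup
open scoped MatrixGroups

variable {m n : ℕ} {K : Type*} [Field K] {G : Type*} [Group G] {G' : Type*} [Group G']

theorem eq_of_inj {π : G →* G'} {M : Subgroup G} (hM : ∀ g ∈ M, π g = 1 → g = 1) {g h : G} (hg : g ∈ M) (hh : h ∈ M)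
    (e : π g = π h) : g = h := mul_inv_eq_one.1 (hM _ (mul_mem hg (inv_mem hh)) (by simp [e]))

theorem exists_sec3 (hn : 2 ≤ n) (π : G →* SpG n K) (σ : Fin n → SL(2, K) →* G) (μ : Fin n → Fin n → K → G)
    (p1 : ∀ k A, π (σ k A) = emb k A) (p2 : ∀ i j : Fin n, j.val = i.val + 1 → ∀ t, π (μ i j t) = X (.inl i) (.inl j) t)
    {i j : Fin n} (hi : i.val = 0) (hj : j.val + 1 = n) {M N : Subgroup G}
    (hM : ∀ g ∈ M, π g = 1 → g = 1) (hN : ∀ g ∈ N, π g = 1 → g = 1)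
    (m1 : ∀ l, l ≠ i → ∀ A, σ l A ∈ M) (m2 : ∀ t, σ i (X2 t) ∈ M) (m3 : ∀ k l : Fin n, l.val = k.val + 1 → ∀ t, μ k l t ∈ M)
    (n1 : ∀ l, l ≠ j → ∀ A, σ l A ∈ N) (n2 : ∀ t, σ j (X2 t) ∈ N) (n3 : ∀ k l : Fin n, l.val = k.val + 1 → ∀ t, μ k l t ∈ N)
    (hc : Commute (σ i W2) (σ j W2)) :
    ∃ Φ : SpG n K →* G, (∀ k A, Φ (emb k A) = σ k A) ∧
      ∀ k l : Fin n, l.val = k.val + 1 → ∀ t, Φ (X (.inl k) (.inl l) t) = μ k l t := by
  have hij : i ≠ j := fun e => by subst e; omega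
  have cm : ∀ {M : Subgroup G}, (∀ g ∈ M, π g = 1 → g = 1) → ∀ k, σ k W2 ∈ M → ∀ y ∈ M, ∀ a b t, a.swap ≠ b → π y = X a b t →
      a ≠ .inr k → b ≠ .inr k → a ≠ .inl k → b ≠ .inl k → Commute (σ k W2) y := fun hM k h y hy a b t hab e a1 a2 a3 a4 => by
    have : ∀ a : Idx n, a ≠ .inr k → a ≠ .inl k → ix a ≠ k := by
      rintro (l | l) h h'
      exacts [fun e => h' (congrArg _ e), fun e => h (congrArg _ e)]
    exact eq_of_inj hM (mul_mem h hy) (mul_mem hy h) (by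
      simpa [p1, e] using (emb_X_comm k W2 hab (this a a1 a3) (this b a2 a4) t).eq)
  obtain ⟨Φ, h1, h2⟩ := exists_sec2 hn π hij hM hN (p1 i W2) (p1 j W2) hc (n1 i hij _) (m1 j hij.symm _)
    fun a b hab a1 a2 a3 a4 t => by
    have : X a b t ∈ (M ⊓ N).map π := by
      by_cases e : a = b
      · subst e
        rcases a with k | k
        · refine ⟨σ k (X2 t), ⟨?_, ?_⟩, by rw [p1, emb_X2]⟩
          · by_cases e : k = i; exacts [e ▸ m2 t, m1 k e _]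
          · by_cases e : k = j; exacts [e ▸ n2 t, n1 k e _]
        · exact ⟨σ k (L2 t), ⟨m1 k (by simpa using a1) _, n1 k (by simpa using a3) _⟩, by rw [p1, emb_L2]⟩
      have key : ∀ a : Idx n, a ≠ .inr i → a ≠ .inr j → a = .inl (ix a) ∨ ix a ≠ i ∧ ix a ≠ j := by
        rintro (l | l) h h'
        exacts [.inl rfl, .inr ⟨fun e => h (congrArg _ e), fun e => h' (congrArg _ e)⟩]
      exact short_mem (M := (M ⊓ N).map π) (P := fun l => l ≠ i ∧ l ≠ j) (fun l b1 b2 => ⟨by rintro rfl; omega, by rintro rfl; omega⟩)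
        (fun l hl A => ⟨σ l A, ⟨m1 l hl.1 A, n1 l hl.2 A⟩, p1 l A⟩)
        (fun k l h t => ⟨μ k l t, ⟨m3 k l h t, n3 k l h t⟩, p2 k l h t⟩) (ix_ne e hab) (key a a1 a3) (key b a2 a4) t
    obtain ⟨y, ⟨y1, y2⟩, e⟩ := this
    exact ⟨y, e, y1, y2, cm hN i (n1 i hij _) y y2 a b t hab e a1 a2, cm hM j (m1 j hij.symm _) y y1 a b t hab e a3 a4⟩
  refine ⟨Φ, fun k A => ?_, fun k l h t => eq_of_inj hM ((h2 _ _ t (by simp)).1 (by simp) (by simp)) (m3 k l h t)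
    (by rw [h1, p2 k l h])⟩
  by_cases e : k = i
  · have e' : k ≠ j := e ▸ hij
    exact eq_of_inj hN (emb_mem (M := N.comap Φ) (fun t => (h2 _ _ t (by simp)).2 (by simp) (by simp))
      (fun t => (h2 _ _ t (by simp)).2 (by simpa) (by simpa)) A) (n1 k e' A) (by rw [h1, p1])
  · exact eq_of_inj hM (emb_mem (M := M.comap Φ) (fun t => (h2 _ _ t (by simp)).1 (by simp) (by simp))
      (fun t => (h2 _ _ t (by simp)).1 (by simpa) (by simpa)) A) (m1 k e A) (by rw [h1, p1])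

/-- amalgam data -/
structure AD (n : ℕ) (K : Type*) [Field K] (G : Type*) [Group G] where
  σ : Fin n → SL(2, K) →* G
  μ : Fin n → Fin n → K → G
  r2 : ∀ i j : Fin n, j.val = i.val + 1 → ∃ φ : SpG 2 K →* G, (∀ A, φ (emb 0 A) = σ i A) ∧ (∀ A, φ (emb 1 A) = σ j A) ∧
    ∀ t, φ (X (.inl 0) (.inl 1) t) = μ i j t
  ss : ∀ i j, i ≠ j → ∀ A B, Commute (σ i A) (σ j B)
  mm : ∀ i j k l : Fin n, j.val = i.val + 1 → l.val = k.val + 1 → ∀ t u, Commute (μ i j t) (μ k l u)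
  ms : ∀ i j k : Fin n, j.val = i.val + 1 → k ≠ i → k ≠ j → ∀ t A, Commute (μ i j t) (σ k A)

/-- a homomorphism extends the data -/
def AD.Lift (D : AD n K G) (Φ : SpG n K →* G) : Prop := (∀ k A, Φ (emb k A) = D.σ k A) ∧
  ∀ k l : Fin n, l.val = k.val + 1 → ∀ t, Φ (X (.inl k) (.inl l) t) = D.μ k l t

/-- restriction to an interval -/
def AD.res (D : AD n K G) (ι : Fin m ↪ Fin n) (c : ℕ) (h : ∀ i, (ι i).val = i + c) : AD m K G where
  σ i := D.σ (ι i)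
  μ i j := D.μ (ι i) (ι j)
  r2 i j e := D.r2 _ _ (by rw [h, h]; omega)
  ss i j e := D.ss _ _ (ι.injective.ne e)
  mm i j k l e e' := D.mm _ _ _ _ (by rw [h, h]; omega) (by rw [h, h]; omega)
  ms i j k e e1 e2 := D.ms _ _ _ (by rw [h, h]; omega) (ι.injective.ne e1) (ι.injective.ne e2)

/-- the embedding of two indices -/
def two {i j : Fin n} (h : i ≠ j) : Fin 2 ↪ Fin n := ⟨![i, j], by simpa using h⟩

/-- the product with the standard data -/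
noncomputable def AD.std (D : AD n K G) : AD n K (G × SpG n K) where
  σ i := (D.σ i).prod (emb i)
  μ i j t := (D.μ i j t, X (.inl i) (.inl j) t)
  r2 i j e := by
    obtain ⟨φ, h1, h2, h3⟩ := D.r2 i j e
    have h : i ≠ j := fun h => by subst h; omega
    exact ⟨φ.prod (jm (two h)), fun A => Prod.ext (h1 A) (jm_emb ..), fun A => Prod.ext (h2 A) (jm_emb ..),
      fun t => Prod.ext (h3 t) (jm_X _ (by simp) _)⟩
  ss i j e A B := Prod.ext (D.ss i j e A B) (emb_comm e A B)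
  mm i j k l e e' t u := Prod.ext (D.mm i j k l e e' t u) (X_ll ..)
  ms i j k e e1 e2 t A := Prod.ext (D.ms i j k e e1 e2 t A) (emb_X_comm k A (a := .inl i) (b := .inl j) (by simp) e1.symm e2.symm t).symm

theorem AD.end (hF : ∃ a : K, a ≠ 0 ∧ a ≠ 1) (D : AD n K G) (π : G →* SpG n K) (p1 : ∀ k A, π (D.σ k A) = emb k A)
    (p2 : ∀ i j : Fin n, j.val = i.val + 1 → ∀ t, π (D.μ i j t) = X (.inl i) (.inl j) t)
    {ι : Fin m ↪ Fin n} {c : ℕ} {h : ∀ i, (ι i).val = i + c} {Φ : SpG m K →* G} (hΦ : (D.res ι c h).Lift Φ)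
    {x : Fin n} (hx : ∀ l, l ∈ Set.range ι ↔ l ≠ x) {k : Fin m} (hk : k.val = 0 ∧ (ι k).val = x + 1 ∨ k.val + 1 = m ∧ x.val = ι k + 1) :
    ∃ M : Subgroup G, (∀ g ∈ M, π g = 1 → g = 1) ∧ (∀ l, l ≠ x → ∀ A, D.σ l A ∈ M) ∧ (∀ t, D.σ x (X2 t) ∈ M) ∧
      ∀ k l : Fin n, l.val = k.val + 1 → ∀ t, D.μ k l t ∈ M := by
  have hx' : ∀ l, ι l ≠ x := fun l => (hx _).1 ⟨l, rfl⟩
  have ad : ∀ i j : Fin m, j.val = i.val + 1 → (ι j).val = ι i + 1 := fun i j e => by rw [h, h]; omega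
  obtain ⟨i, j, ψ, hij, a0, a1, a2, a3⟩ : ∃ (i j : Fin n) (ψ : SpG 2 K →* G), j.val = i.val + 1 ∧
      (i = ι k ∧ j = x ∨ i = x ∧ j = ι k) ∧ (∀ A, ψ (emb 0 A) = D.σ (ι k) A) ∧ (∀ A, ψ (emb 1 A) = D.σ x A) ∧
      ∀ t, ψ (X (.inl 0) (.inl 1) t) = D.μ i j t := by
    rcases hk with ⟨-, hk⟩ | ⟨-, hk⟩
    · obtain ⟨φ, b1, b2, b3⟩ := D.r2 x (ι k) hk
      refine ⟨x, ι k, φ.comp (MulAut.conj (pm K (Equiv.swap 0 1))).toMonoidHom, hk, .inr ⟨rfl, rfl⟩, fun A => ?_, fun A => ?_,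
        fun t => ?_⟩ <;> change φ (_ * _ * _) = _
      · simp [pm_emb, b2]
      · simp [pm_emb, b1]
      · rw [pm_X _ (by simp), ← b3, X_symm]; simp
    · obtain ⟨φ, b1, b2, b3⟩ := D.r2 (ι k) x hk
      exact ⟨ι k, x, φ, hk, .inl ⟨rfl, rfl⟩, b1, b2, b3⟩
  have a4 : ∀ t, ψ (X (.inl 1) (.inl 1) t) = D.σ x (X2 t) := fun t => by rw [← emb_X2, a2]
  obtain ⟨M, m1, m2, m3, m4⟩ := heis hF Φ k ψ (fun A => by rw [a1, hΦ.1]; rfl) (fun g t hg => by
      refine mem_centralizer_singleton_iff.1 (gen_stab (M := (centralizer {ψ (X (.inl 0) (.inl 1) t)}).comap Φ)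
        (hk.imp And.left And.left) (fun l hl A => ?_) (fun p q e u => ?_) (fun u => ?_) hg) <;>
        rw [mem_comap, mem_centralizer_singleton_iff]
      · have := ι.injective.ne hl
        rw [hΦ.1, a3]
        exact (D.ms i j (ι l) hij (by rcases a0 with ⟨rfl, rfl⟩ | ⟨rfl, rfl⟩; exacts [this, hx' l])
          (by rcases a0 with ⟨rfl, rfl⟩ | ⟨rfl, rfl⟩; exacts [hx' l, this]) t A).symm
      · rw [hΦ.2 p q e, a3]; exact D.mm _ _ _ _ (ad p q e) hij u t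
      · rw [← emb_X2, hΦ.1, show (D.res ι c h).σ k (X2 u) = _ from (a1 _).symm, emb_X2]
        exact (X_ll ..).map ψ)
    (fun g t => by
      have := gen_top (M := (centralizer {D.σ x (X2 t)}).comap Φ)
        (fun l A => by rw [mem_comap, mem_centralizer_singleton_iff, hΦ.1]; exact D.ss _ _ (hx' l) _ _)
        (fun p q e u => by
          rw [mem_comap, mem_centralizer_singleton_iff, hΦ.2 p q e]
          exact D.ms _ _ _ (ad p q e) (hx' p).symm (hx' q).symm _ _)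
      rw [a4]
      exact mem_centralizer_singleton_iff.1 (mem_comap.1 (this ▸ mem_top g)))
    π ι (x := x) (fun e => (hx x).1 e rfl) (fun g => by
      have := gen_top (M := (π.comp Φ).eqLocus (jm ι)) (fun l A => by
        change π (Φ _) = _
        rw [hΦ.1, jm_emb]; exact p1 _ _) (fun p q e u => by
        change π (Φ _) = _
        rw [hΦ.2 p q e, jm_X _ (by simp)]; exact p2 _ _ (ad p q e) _)
      exact show g ∈ (π.comp Φ).eqLocus (jm ι) from this ▸ mem_top g)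
    (fun t => by rw [a3, p2 i j hij]; rcases a0 with ⟨rfl, rfl⟩ | ⟨rfl, rfl⟩; exacts [rfl, congrFun (X_symm ..) t])
    (fun t => by rw [a4, p1, emb_X2])
  refine ⟨M, m1, fun l hl A => ?_, fun t => a4 t ▸ m4 t, fun p q e t => ?_⟩
  · obtain ⟨l, rfl⟩ := (hx l).2 hl
    exact (hΦ.1 l A) ▸ m2 _
  by_cases e' : p ≠ x ∧ q ≠ x
  · obtain ⟨p, rfl⟩ := (hx p).2 e'.1
    obtain ⟨q, rfl⟩ := (hx q).2 e'.2
    exact (hΦ.2 p q (by rw [h, h] at e; omega) t) ▸ m2 _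
  have : p = i ∧ q = j := by
    have b1 : p ≠ x → ∃ l : Fin m, p.val = l + c := fun e => by obtain ⟨l, rfl⟩ := (hx p).2 e; exact ⟨l, h l⟩
    have b2 : q ≠ x → ∃ l : Fin m, q.val = l + c := fun e => by obtain ⟨l, rfl⟩ := (hx q).2 e; exact ⟨l, h l⟩
    have := h k
    simp only [ne_eq, Fin.ext_iff] at *
    grind
  rw [this.1, this.2, ← a3]
  exact m3 t

theorem AD.exists_lift (hF : ∃ a : K, a ≠ 0 ∧ a ≠ 1) (hn : 2 ≤ n) (D : AD n K G) : ∃ Φ, D.Lift Φ := by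
  induction n, hn using Nat.le_induction with
  | base =>
    obtain ⟨φ, h1, h2, h3⟩ := D.r2 0 1 rfl
    refine ⟨φ, Fin.forall_fin_two.2 ⟨h1, h2⟩, fun k l e => ?_⟩
    obtain ⟨rfl, rfl⟩ : k = 0 ∧ l = 1 := by constructor <;> ext <;> simp <;> omega
    exact h3
  | succ m hm ih =>
    have lf : ∀ (ι : Fin m ↪ Fin (m + 1)) (c : ℕ) (h : ∀ i, (ι i).val = i + c), ∃ Φ, (D.std.res ι c h).Lift Φ :=
      fun ι c h => by
      obtain ⟨Φ, h1, h2⟩ := ih (D.res ι c h)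
      exact ⟨Φ.prod (jm ι), fun k A => Prod.ext (h1 k A) (jm_emb ..), fun k l e t => Prod.ext (h2 k l e t) (jm_X _ (by simp) _)⟩
    obtain ⟨Φ, hΦ⟩ := lf Fin.castSuccEmb 0 fun _ => rfl
    obtain ⟨Ψ, hΨ⟩ := lf (Fin.succEmb m) 1 fun _ => rfl
    obtain ⟨M, m1, m2, m3, m4⟩ := D.std.end hF (MonoidHom.snd _ _) (fun _ _ => rfl) (fun _ _ _ _ => rfl) hΨ (x := 0)
      (by simp) (k := ⟨0, by omega⟩) (.inl ⟨rfl, rfl⟩)
    obtain ⟨N, n1, n2, n3, n4⟩ := D.std.end hF (MonoidHom.snd _ _) (fun _ _ => rfl) (fun _ _ _ _ => rfl) hΦ (x := Fin.last m)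
      (fun l => by have := l.2; simp [Fin.ext_iff]; omega) (k := ⟨m - 1, by omega⟩) (.inr ⟨by simp; omega, by simp; omega⟩)
    obtain ⟨Θ, h1, h2⟩ := exists_sec3 (by omega) (MonoidHom.snd _ _) D.std.σ D.std.μ (fun _ _ => rfl) (fun _ _ _ _ => rfl)
      (i := 0) (j := Fin.last m) rfl rfl m1 n1 m2 m3 m4 n2 n3 n4 (D.std.ss _ _ (by simp [Fin.ext_iff]; omega) _ _)
    exact ⟨(MonoidHom.fst _ _).comp Θ, fun k A => congrArg Prod.fst (h1 k A), fun k l e t => congrArg Prod.fst (h2 k l e t)⟩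

end Cfsg.Agent.H6.Sp
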