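import Cfsg.Agent.H6.OmB
import Cfsg.Agent.H6.SpX

/-! Bounded presentations of the orthogonal groups of plus type. -/

set_option autoImplicit false

namespace Cfsg.Agent.H6.Om

open Cfsg.Agent.H13 Cfsg.Agent.H14 Cfsg.Agent.H28 Cfsg.Agent.L0 Subgroup Matrix QuadraticMap
open scoped MatrixGroups commutatorElement

variable {n l : ℕ} {F : Type} [Field F]

theorem exists_J [Finite F] (hn : 3 ≤ n) : ∃ J : SpecialLinearGroup (Fin n) F →* OG (QPlus n F),
    ∀ i j a, i ≠ j → J (Xn i j a) = YD (.inl i) (.inr j) a := by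
  obtain ⟨J, h⟩ := (steinberg (F := F) hn).2 (OG (QPlus n F)) (fun i j a => if i = j then 1 else YD (.inl i) (.inr j) a)
    (fun i j a b => by split_ifs with e; exacts [(one_mul _).symm, YD_add (by simpa) _ _])
    (fun i j k l a b h1 h2 h3 h4 => by
      rw [if_neg h1, if_neg h2]
      exact YD_commute (by exact h1) (by exact h2) (by simp) (by simpa) (by simpa) (by simp) _ _)
    (fun i j k a b h1 h2 h3 => by
      have c1 : Commute (YD (.inl i) (.inr k) (a * b)) (YD (.inl i) (.inr j) a : OG (QPlus n F)) :=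
        YD_commute (by exact h2) (by exact h1) (by simp) (by simpa) (by simpa using h2.symm) (by simp) _ _
      have c2 : Commute (YD (.inl i) (.inr k) (a * b)) (YD (.inl j) (.inr k) b : OG (QPlus n F)) :=
        YD_commute (by exact h2) (by exact h3) (by simp) (by simpa) (by simpa using h3.symm) (by simp) _ _
      have := YD_comm (K := F) (a := .inl i) (b := .inr j) (y := .inr k) h1 h3 (by simpa) a b
      rw [YD_swap (a := .inl i) (by simpa), neg_neg, mul_comm b a, Sum.swap_inr] at this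
      rw [if_neg h1, if_neg h2, if_neg h3, this, ← (c2.mul_right c1).eq]
      group)
  exact ⟨J, fun i j a e => (h i j a e).trans (if_neg e)⟩

theorem Hn_conj {i j p q : Fin (n + 1)} (h : i ≠ j) (h' : p ≠ q) {t : F} (ht : t ≠ 0) (u : F) :
    Nn i j t * Nn i j (-1) * Xn p q u * (Nn i j t * Nn i j (-1))⁻¹ = Xn p q (t ^ (((if i = p then 1 else 0) -
      (if j = p then 1 else 0)) - ((if i = q then 1 else 0) - (if j = q then 1 else 0)) : ℤ) * u) := by
  have := (rgA n F).h_conj ⟨(i, j), h⟩ ⟨(p, q), h'⟩ ht u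
  rw [pairA] at this
  simpa only [RG0.h, RG0.n, rgA_x, Xn_eq] using! this

theorem st3 {H : Type*} [Group H] (φ : SpecialLinearGroup (Fin n) F →* H) {f : Fin 3 → Fin n} (hf : Function.Injective f) :
    St3 fun p q t => φ (Xn (f p) (f q) t) :=
  ⟨fun i j _ t u => by rw [Xn_add, map_mul], fun i j k a b c t u => by
    rw [← map_commutatorElement, commutatorElement_def, Xn_comm (hf.ne a) (hf.ne c) (hf.ne b)],
    fun i j k l _ _ c d t u => (Xn_far (hf.ne d) (hf.ne c) t u).map φ⟩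

/-- the next to last index -/
abbrev il (l : ℕ) : Fin (l + 2) := (Fin.last l).castSucc

theorem om_inj [Finite F] (hl : 2 ≤ l) {J : SpecialLinearGroup (Fin (l + 2)) F →* OG (QPlus (l + 2) F)}
    (hJ : ∀ i j a, i ≠ j → J (Xn i j a) = YD (.inl i) (.inr j) a) {H : Type} [Group H]
    (φ : SpecialLinearGroup (Fin (l + 2)) F →* H) (v : H) (π : H →* OG (QPlus (l + 2) F)) (p1 : ∀ A, π (φ A) = J A)
    (p2 : π v = ND (.inl 0) (.inl (Fin.last _))) (hg : ∀ M : Subgroup H, (∀ A, φ A ∈ M) → v ∈ M → M = ⊤)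
    (r1 : ∀ p q t, p ≠ q → (p = 0 ∨ p = Fin.last _ ↔ q = 0 ∨ q = Fin.last _) → Commute v (φ (Xn p q t)))
    (r2 : v * φ (Nn (il l) 0 (-1)) * v = φ (Nn (il l) 0 (-1)) * v * φ (Nn (il l) 0 (-1)))
    (r3 : ∀ p q t, p ≠ q → (p = 0 ∨ p = Fin.last _ ↔ q = 0 ∨ q = Fin.last _) →
      Commute (v * φ (Xn (il l) 0 (-1)) * v⁻¹) (φ ((Nn (il l) 0 (-1))⁻¹ * Xn p q t * Nn (il l) 0 (-1))))
    (r4 : φ (Nn (il l) (Fin.last _) (-1) * Nn (il l) (Fin.last _) (-1)) * (v * φ (Nn (il l) 0 1 * Nn (il l) 0 1) * v⁻¹) = 1) :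
    Function.Injective π := by
  have n1 : il l ≠ 0 := by simp [Fin.ext_iff]; omega
  have n2 : il l ≠ 1 := by simp [Fin.ext_iff]; omega
  have n3 : il l ≠ Fin.last _ := Fin.castSucc_ne_last _
  have n4 : (1 : Fin (l + 2)) ≠ Fin.last _ := by simp [Fin.ext_iff]; omega
  have n5 : (0 : Fin (l + 2)) ≠ Fin.last _ := by simp
  set s := Nn (F := F) (il l) 0 (-1) with hs
  let ψ : SpecialLinearGroup (Fin (l + 2)) F →* H := (MulAut.conj v).toMonoidHom.comp φ
  have hψ : ∀ A, ψ A = v * φ A * v⁻¹ := fun _ => rfl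
  let Z := centralizer {g | ∃ p q t, p ≠ q ∧ (p = il l ∨ p = Fin.last _ ↔ q = il l ∨ q = Fin.last _) ∧ g = φ (Xn p q t)}
  have z0 : ∀ y, (∀ p q t, p ≠ q → (p = 0 ∨ p = Fin.last _ ↔ q = 0 ∨ q = Fin.last _) → Commute y (φ (s⁻¹ * Xn p q t * s))) →
      y ∈ Z := by
    rintro y h _ ⟨p, q, t, h1, h2, rfl⟩
    obtain ⟨c, hc⟩ := Nn_conj (F := F) n1 h1 (t := -1) (by simp)
    have := h _ _ (c * t) ((Equiv.swap (il l) 0).injective.ne h1) (by
      simp only [Equiv.swap_apply_eq_iff, Equiv.swap_apply_right, Equiv.swap_apply_of_ne_of_ne n3.symm n5.symm, h2])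
    rw [← hc, ← hs] at this
    simpa [mul_assoc] using this.symm.eq
  have z1 : ∀ t, ψ (Xn (il l) 0 t) ∈ Z := fun t => by
    induction t using Sp.unit_induction with
    | h0 => rw [add_zero' (Xn_add _ _), map_one]; exact one_mem _
    | h1 e =>
      have c1 : ∀ t, Commute v (φ (Nn (il l) 1 t)) := fun t => by
        have a := fun t => r1 _ _ t n2 (by simp [n1, n3, n4])
        simpa only [Nn, map_mul] using ((a _).mul_right (r1 _ _ _ n2.symm (by simp [n1, n3, n4]))).mul_right (a _)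
      set D := Nn (il l) 1 (-e : F) * Nn (il l) 1 (-1) with hD
      have c2 : Commute v (φ D) := by rw [hD, map_mul]; exact (c1 _).mul_right (c1 _)
      have c3 := Hn_conj (F := F) n2 n1 (t := -e) (by simp) (-1)
      simp only [if_true, if_neg n2.symm, if_neg n1, if_neg (one_ne_zero (α := Fin (l + 2))), sub_zero, zpow_one, mul_neg,
        mul_one, neg_neg, ← hD] at c3
      rw [← c3, map_mul, map_mul, map_inv, hψ D, c2.eq, mul_inv_cancel_right]
      rintro _ ⟨p, q, t, h1, h2, rfl⟩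
      have c4 := Hn_conj (F := F) n2 h1 (t := -e) (by simp)
      generalize (((if il l = p then 1 else 0) - (if 1 = p then 1 else 0)) - ((if il l = q then 1 else 0) -
        (if 1 = q then 1 else 0)) : ℤ) = k at c4
      rw [← mul_inv_cancel_left₀ (zpow_ne_zero k (show (-e : F) ≠ 0 by simp)) t, ← c4, ← hD, map_mul, map_mul, map_inv]
      exact commute_conj (z0 _ r3 _ ⟨p, q, _, h1, h2, rfl⟩) _
  have z2 : ψ s ∈ Z := z0 _ fun p q t h1 h2 => by
    rw [hψ, mul_inv_eq_of_eq_mul (b := v) (a := v * φ s) (c := (φ s)⁻¹ * v * φ s) (by rw [mul_assoc, mul_assoc, ← mul_assoc v, r2]; group),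
      map_mul, map_mul, map_inv]
    simpa using commute_conj (r1 p q t h1 h2) (φ s)⁻¹
  have z3 : ∀ t, ψ (Xn 0 (il l) t) ∈ Z := fun t => by
    obtain ⟨c, hc⟩ := Nn_conj (F := F) n1 n1 (t := -1) (by simp)
    have := mul_mem (mul_mem z2 (z1 (c⁻¹ * t))) (inv_mem z2)
    rw [← map_inv, ← map_mul, ← map_mul, hc] at this
    simpa using this
  let a : Fin (l + 2) → Bool → F → H := fun k b t =>
    if h : k.val ≤ l then φ (if b then Xn k ⟨k + 1, by omega⟩ t else Xn ⟨k + 1, by omega⟩ k t)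
    else ψ (if b then Xn (il l) 0 (-t) else Xn 0 (il l) (-t))
  have a1 : ∀ (k : Fin (l + 2)) (h : k.val ≤ l) b t,
      a k b t = φ (if b then Xn k ⟨k + 1, by omega⟩ t else Xn ⟨k + 1, by omega⟩ k t) := fun k h b t => dif_pos h
  have a2 : ∀ (k : Fin (l + 2)), ¬ k.val ≤ l → ∀ b t, a k b t = ψ (if b then Xn (il l) 0 (-t) else Xn 0 (il l) (-t)) :=
    fun k h b t => dif_neg h
  have e1 : ∀ i j : Fin (l + 2), i.val + 1 = j → j.val ≤ l → Edge (a i) (a j) := fun i j h1 h2 => by
    obtain ⟨j, hj⟩ := j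
    obtain rfl : i.val + 1 = j := h1
    refine ⟨_, st3 φ (f := ![i, ⟨i + 1, by omega⟩, ⟨i + 1 + 1, by simp at h2; omega⟩]) (inj3 ?_ ?_ ?_), ?_, ?_, ?_, ?_⟩
    iterate 3 (intro e; have := congrArg Fin.val e; simp only at this; omega)
    all_goals funext t; simp [a1 _ h2, a1 i (by omega)]
  have e2 : ∀ i j : Fin (l + 2), i.val + 1 = l → j.val = l + 1 → Edge (a i) (a j) := fun i j h1 h2 => by
    have b1 : i ≠ il l := by simp [Fin.ext_iff]; omega
    have b2 : i ≠ 0 := fun e => by rw [e, Fin.val_zero] at h1; omega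
    have b3 : i ≠ Fin.last _ := by simp [Fin.ext_iff]; omega
    have b4 : ⟨i + 1, by omega⟩ = il l := Fin.ext h1
    refine ⟨_, (st3 ψ (inj3 b1 b2 n1)).tw (RingHom.id F) ![1, 1, -1] fun i => by fin_cases i <;> simp, ?_, ?_, ?_, ?_⟩ <;>
      funext t
    · simp [a1 i (by omega), b4, hψ, (r1 _ _ _ b1 (by simp [*])).eq]
    · simp [a1 i (by omega), b4, hψ, (r1 _ _ _ b1.symm (by simp [*])).eq]
    · simp [a2 j (by omega), div_neg]
    · simp [a2 j (by omega), neg_div]
  have c1 : ∀ i j : Fin (l + 2), i.val ≤ l → i.val + 1 ≠ l → ¬ j.val ≤ l → ∀ b c t u, Commute (a i b t) (a j c u) :=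
    fun i j h1 h2 h3 b c t u => by
    have : a j c u ∈ Z := by rw [a2 j h3]; cases c; exacts [z3 _, z1 _]
    rw [a1 i h1]
    cases b <;> exact this _ ⟨_, _, t, by simp [Fin.ext_iff], by simp [Fin.ext_iff]; omega, rfl⟩
  obtain ⟨X, x1, x2, x3⟩ := ct_sl (R := rsD l) (fun _ _ => rfl) (rgD l F) (fun i => by
      by_cases h : i.val = l + 1
      · exact ⟨⟨l - 1, by omega⟩, by rw [carD, if_neg (by simp [Fin.ext_iff]; omega), if_pos (by simp; omega)]⟩
      by_cases h' : i.val = 0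
      · exact ⟨⟨1, by omega⟩, by rw [carD, if_neg (by simp [Fin.ext_iff]; omega), if_pos (.inr (.inl (by simp only; omega)))]⟩
      · exact ⟨⟨i - 1, by omega⟩, by rw [carD, if_neg (by simp [Fin.ext_iff]; omega), if_pos (.inl (by simp only; omega))]⟩) a
    (fun i b t u => by
      by_cases h : i.val ≤ l
      · cases b <;> simp [a1 i h, Xn_add]
      · cases b <;> simp [a2 i h, Xn_add, add_comm])
    (fun i j h => by
      rw [carD] at h
      split_ifs at h with b1 b2 <;> try omega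
      rcases b2 with b | b | b | b
      exacts [e1 i j b.1 b.2, (e1 j i b.1 b.2).symm, e2 i j b.1 b.2, (e2 j i b.1 b.2).symm])
    (fun i j h b c t u => by
      rw [carD] at h
      split_ifs at h with b1 b2 <;> try omega
      have b3 := Fin.val_ne_of_ne b1
      by_cases hi : i.val ≤ l <;> by_cases hj : j.val ≤ l
      · rw [a1 i hi, a1 j hj]
        cases b <;> cases c <;> exact (Xn_far (by simp [Fin.ext_iff]; omega) (by simp [Fin.ext_iff]; omega) _ _).map φ
      · exact c1 i j hi (by omega) hj b c t u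
      · exact (c1 j i hj (by omega) hi c b u t).symm
      · omega)
  have top : ∀ M : Subgroup (H × OG (QPlus (l + 2) F)), (∀ i t, X.x ((rsD l).simple i) t ∈ M) →
      (∀ i t, X.x ((rsD l).neg ((rsD l).simple i)) t ∈ M) → X.grp ≤ M := fun M h1 h2 => X.gen_le.2 fun r _ t =>
    X.x_mem_of_sub' (J := Set.univ) (fun i _ => h1 i) (fun i _ => h2 i) (fun _ h => absurd trivial h) t
  have σ1 : σD (.inl 0) (.inl (Fin.last (l + 1))) (.inl (il l)) = .inl (il l) ∧
      σD (.inl 0) (.inl (Fin.last (l + 1))) (.inr (il l)) = .inr (il l) ∧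
      σD (.inl 0) (.inl (Fin.last (l + 1))) (.inl 0) = .inr (Fin.last _) ∧
      σD (.inl 0) (.inl (Fin.last (l + 1))) (.inr 0) = .inl (Fin.last _) := by simp [σD, Equiv.swap_apply_def, n1, n3]
  have g1 := top ((π.comp (MonoidHom.fst _ _)).eqLocus (MonoidHom.snd _ _)) (fun i t => by
      change π (X.x _ t).1 = MonoidHom.snd _ _ _
      rw [x2, x1.map_x, rgD_x]
      by_cases h : i.val ≤ l
      · simp [a1 i h, p1, hJ, Fin.ext_iff, eucD, simpleD, h, sg]
      · rw [a2 i h, hψ, map_mul, map_mul, map_inv, p1, p2, if_pos rfl, hJ _ _ _ n1, ND_conj (by exact n5) (by exact n1), σ1.1, σ1.2.2.2]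
        simp [eucD, simpleD, h, sg, ix, n1]; rfl) fun i t => by
      change π (X.x _ t).1 = MonoidHom.snd _ _ _
      rw [x3, x1.map_x, rgD_x]
      by_cases h : i.val ≤ l
      · simp [a1 i h, p1, hJ, Fin.ext_iff, eucD, simpleD, h, sg]
        exact YD_swap (by simp [Fin.ext_iff]) t
      · rw [a2 i h, hψ, map_mul, map_mul, map_inv, p1, p2, if_neg (by simp), hJ _ _ _ n1.symm, ND_conj (by exact n5) (by exact n1.symm), σ1.2.1,
          σ1.2.2.1, YD_swap (by simp)]
        simp [eucD, simpleD, h, sg, ix, n1]; rfl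
  have m1 : ∀ i b t, a i b t ∈ X.grp.map (MonoidHom.fst _ _) := fun i b t => by
    cases b
    exacts [⟨_, X.x_mem_grp _ t, x3 i t⟩, ⟨_, X.x_mem_grp _ t, x2 i t⟩]
  have m2 : ∀ A, φ A ∈ X.grp.map (MonoidHom.fst _ _) := fun A => by
    have := Xn_adj (M := (X.grp.map (MonoidHom.fst _ _)).comap φ)
      (fun k t => by simpa [a1 k.castSucc (by simp; omega)] using! m1 k.castSucc true t)
      fun k t => by simpa [a1 k.castSucc (by simp; omega)] using! m1 k.castSucc false t
    exact mem_comap.1 (this ▸ mem_top A)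
  have g2 := hg _ m2 (by
    have b1 := m1 (Fin.last _) true 1
    have b2 := m1 (Fin.last _) false (-1)
    simp only [a2 (Fin.last _) (by simp), if_true, Bool.false_eq_true, if_false, neg_neg] at b1 b2
    have b3 : ψ s ∈ X.grp.map (MonoidHom.fst _ _) := by simpa [hs, Nn] using mul_mem (mul_mem b1 b2) b1
    have := mul_mem (mul_mem (m2 s) b3) (inv_mem (m2 s))
    rwa [hψ, ← mul_assoc, ← mul_assoc, ← r2, mul_inv_cancel_right, mul_inv_cancel_right] at this)
  rw [injective_iff_map_eq_one]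
  intro h e
  obtain ⟨g, hg, rfl⟩ : h ∈ X.grp.map (MonoidHom.fst _ _) := g2 ▸ mem_top h
  rw [D_ker x1 (Prod.ext ?_ ?_) hg ((g1 hg).symm.trans e), map_one]
  · simp only [RG0.h, RG0.n, Prod.fst_mul, Prod.fst_one]
    erw [x2, x3, x2, x3]
    rw [← r4, ← hψ]
    simp [a1 (il l) le_rfl, a2 (Fin.last _) (by simp), Nn]; rfl
  · have := hD_center (l := l) (K := F)
    rwa [← x1.map_h, ← x1.map_h, ← map_mul] at this

end Cfsg.Agent.H6.Om
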