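import Cfsg.Agent.H6.OmC

/-! Bounded presentations of the orthogonal groups of plus type, the count. -/

set_option autoImplicit false

namespace Cfsg.Agent.H6.Om

open Cfsg.Agent.H13 Cfsg.Agent.H14 Cfsg.Agent.H28 Cfsg.Agent.L0 Subgroup Matrix QuadraticMap
open scoped MatrixGroups commutatorElement

variable {n l : ℕ} {F : Type} [Field F]

theorem exists_κ : ∃ κ : SpecialLinearGroup (Fin l) F × SL(2, F) →* SpecialLinearGroup (Fin (l + 2)) F,
    ∀ M : Subgroup (SpecialLinearGroup (Fin (l + 2)) F), (∀ x, κ x ∈ M) ↔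
      ∀ p q t, p ≠ q → (p = 0 ∨ p = Fin.last _ ↔ q = 0 ∨ q = Fin.last _) → Xn p q t ∈ M := by
  let ι : Fin l ↪ Fin (l + 2) := (Fin.succEmb l).trans Fin.castSuccEmb
  let ι' : Fin 2 ↪ Fin (l + 2) := Sp.two (i := 0) (j := Fin.last _) (by simp)
  have a1 : ∀ p, ¬ (ι p = 0 ∨ ι p = Fin.last _) := fun p => by simp [ι]
  have a2 : ∀ p, ι' p = 0 ∨ ι' p = Fin.last _ := fun p => by fin_cases p <;> simp [ι', Sp.two]
  have a3 : ∀ p q, ι p ≠ ι' q := fun p q e => a1 p (e ▸ a2 q)
  refine ⟨(slEmb ι).noncommCoprod (slEmb ι') fun A B => ?_, fun M => ⟨fun h p q t h1 h2 => ?_, fun h x => mul_mem ?_ ?_⟩⟩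
  · have := Xn_top (M := (centralizer {slEmb ι' B}).comap (slEmb (F := F) ι)) fun i j t _ => by
      have := Xn_top (M := (centralizer {slEmb ι (Xn i j t)}).comap (slEmb (F := F) ι')) fun p q u _ => by
        rw [mem_comap, mem_centralizer_singleton_iff, slEmb_Xn, slEmb_Xn]
        exact Xn_far (a3 _ _).symm (a3 _ _).symm _ _
      exact mem_centralizer_singleton_iff.2 (mem_centralizer_singleton_iff.1 (mem_comap.1 (this ▸ mem_top B))).symm
    exact mem_centralizer_singleton_iff.1 (mem_comap.1 (this ▸ mem_top A))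
  · by_cases e : p = 0 ∨ p = Fin.last _
    · have b : ∀ p, p = 0 ∨ p = Fin.last _ → ∃ k, ι' k = p := by rintro _ (rfl | rfl); exacts [⟨0, rfl⟩, ⟨1, rfl⟩]
      obtain ⟨p, rfl⟩ := b p e
      obtain ⟨q, rfl⟩ := b q (h2.1 e)
      have : slEmb ι 1 * slEmb ι' (Xn p q t) ∈ M := h (1, Xn p q t)
      rwa [map_one, one_mul, slEmb_Xn] at this
    · have b : ∀ p, ¬ (p = 0 ∨ p = Fin.last _) → ∃ k, ι k = p := fun p h => by
        simp only [Fin.ext_iff, Fin.val_zero, Fin.val_last] at h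
        exact ⟨⟨p - 1, by omega⟩, Fin.ext (by simp [ι]; omega)⟩
      obtain ⟨p, rfl⟩ := b p e
      obtain ⟨q, rfl⟩ := b q (mt h2.2 e)
      have : slEmb ι (Xn p q t) * slEmb ι' 1 ∈ M := h (Xn p q t, 1)
      rwa [map_one, mul_one, slEmb_Xn] at this
  · have := Xn_top (M := M.comap (slEmb ι)) fun i j t e => by
      rw [mem_comap, slEmb_Xn]; exact h _ _ _ (ι.injective.ne e) (iff_of_false (a1 _) (a1 _))
    exact mem_comap.1 (this ▸ mem_top x.1)
  · have := Xn_top (M := M.comap (slEmb ι')) fun i j t e => by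
      rw [mem_comap, slEmb_Xn]; exact h _ _ _ (ι'.injective.ne e) (iff_of_true (a2 _) (a2 _))
    exact mem_comap.1 (this ▸ mem_top x.2)

theorem YD_opp {m : ℕ} {a b : Idx m} (h : ix a ≠ ix b) (u t : F) : Commute (YD a b u) (YD a b.swap t) := by
  have := YD_comm (y := a) h h.symm (swap_ne a) u (-t)
  rwa [YD_self, mul_one, YD_swap (a := a) (neD h).2.2.2.1, neg_neg] at this

theorem om_pres [Finite F] (hl : 2 ≤ l) {ι : Type} {g : ι → SpecialLinearGroup (Fin (l + 2)) F} {r : ℕ} (hg : Pres g r) :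
    ∃ g : ι ⊕ Unit → Om (QPlus (l + 2) F), Pres g (r + if l = 2 then 8 else 6) := by
  obtain ⟨J, hJ⟩ := exists_J (F := F) (n := l + 2) (by omega)
  obtain ⟨κ, hκ⟩ := exists_κ (F := F) (l := l)
  obtain ⟨L, h1, h2⟩ := prod_gen (F := F) hl
  have n1 : il l ≠ 0 := by simp [Fin.ext_iff]; omega
  have n3 : il l ≠ Fin.last _ := Fin.castSucc_ne_last _
  have n5 : (0 : Fin (l + 2)) ≠ Fin.last _ := by simp
  have mY : ∀ a b t, YD a b t ∈ Om (QPlus (l + 2) F) := fun a b t => rgD_grp l F (by omega) ▸ sieg_mem_grp l F _ _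
  have mJ : ∀ A, J A ∈ Om (QPlus (l + 2) F) := fun A => by
    have := Xn_top (M := (Om (QPlus (l + 2) F)).comap J) fun i j t e => by rw [mem_comap, hJ _ _ _ e]; exact mY _ _ _
    exact mem_comap.1 (this ▸ mem_top A)
  set ν : OG (QPlus (l + 2) F) := ND (.inl 0) (.inl (Fin.last _)) with hν
  set s := Nn (F := F) (il l) 0 (-1) with hs
  have b0 : J s = ND (.inr 0) (.inl (il l)) := by
    simp [hs, Nn, ND, hJ _ _ _ n1, hJ _ _ _ n1.symm, YD_swap (a := .inl (il l)) (b := .inr 0) (by simpa using n1)]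
  have b1 : ∀ t, ν * YD (.inl (il l)) (.inr 0) t * ν⁻¹ = YD (.inl (il l)) (.inl (Fin.last _)) (-t) := fun t => by
    rw [hν, ND_conj (by exact n5) (by exact n1)]; simp [σD, Equiv.swap_apply_def, n1, n3, ix]
  have b2 : ∀ t, ν * YD (.inl 0) (.inr (il l)) t * ν⁻¹ = YD (.inr (il l)) (.inr (Fin.last _)) t := fun t => by
    rw [hν, ND_conj (by exact n5) (by exact n1.symm), YD_swap (by simp [σD, Equiv.swap_apply_def, n1, n3])]
    simp [σD, Equiv.swap_apply_def, n1, n3, ix]
  have b3 : ∀ t, J s * YD (.inl (il l)) (.inl (Fin.last _)) t * (J s)⁻¹ = YD (.inl 0) (.inl (Fin.last _)) t := fun t => by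
    rw [b0, ND_conj (by exact n1.symm) (by exact n3)]; simp [σD, Equiv.swap_apply_def, n1, n3.symm, ix]
  have b4 : ∀ t, J s * YD (.inr (il l)) (.inr (Fin.last _)) t * (J s)⁻¹ = YD (.inr 0) (.inr (Fin.last _)) t := fun t => by
    rw [b0, ND_conj (by exact n1.symm) (by exact n3)]; simp [σD, Equiv.swap_apply_def, n1, n3.symm, ix]
  have cj : ∀ g a b : OG (QPlus (l + 2) F), g * (a * b) * g⁻¹ = g * a * g⁻¹ * (g * b * g⁻¹) := fun g a b => by group
  let a : SpecialLinearGroup (Fin (l + 2)) F → FreeGroup (SpecialLinearGroup (Fin (l + 2)) F ⊕ Unit) := fun A => .of (.inl A)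
  let V : FreeGroup (SpecialLinearGroup (Fin (l + 2)) F ⊕ Unit) := .of (.inr ())
  refine ⟨_, (hg.ext (J.codRestrict _ mJ) (fun _ => ⟨ν, mul_mem (mul_mem (mY _ _ _) (mY _ _ _)) (mY _ _ _)⟩)
    (L.map (fun x => V * a (κ x) * (a (κ x) * V)⁻¹) ++
      L.map (fun x => V * a (Xn (il l) 0 (-1)) * V⁻¹ * a (s⁻¹ * κ x * s) * (a (s⁻¹ * κ x * s) * (V * a (Xn (il l) 0 (-1)) * V⁻¹))⁻¹) ++
      [V * a s * V * (a s * V * a s)⁻¹,
        a (Nn (il l) (Fin.last _) (-1) * Nn (il l) (Fin.last _) (-1)) * (V * a (Nn (il l) 0 1 * Nn (il l) 0 1) * V⁻¹)])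
    ?_ ?_ ?_).mono (by simp; split_ifs at h1 ⊢ <;> omega)⟩
  · simp only [List.forall_mem_append, List.forall_mem_map, List.mem_cons, List.not_mem_nil, or_false, forall_eq_or_imp,
      forall_eq, map_mul, V, a, map_inv, mul_inv_eq_one, FreeGroup.lift_apply_of, Sum.elim_inl, Sum.elim_inr,
      Subtype.ext_iff (p := fun x => x ∈ Om (QPlus (l + 2) F)),
      Subgroup.coe_mul, MonoidHom.codRestrict_apply, Subgroup.coe_inv, Subgroup.coe_one]
    refine ⟨⟨fun x _ => ?_, fun x _ => ?_⟩, ?_, ?_⟩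
    · refine (mem_centralizer_singleton_iff.1 ((hκ ((centralizer {ν}).comap J)).2 (fun p q t e e' => ?_) x)).symm
      rw [mem_comap, mem_centralizer_singleton_iff, eq_comm, ← mul_inv_eq_iff_eq_mul, hJ _ _ _ e, hν,
        ND_conj (by exact n5) (by exact e)]
      by_cases c : p = 0 ∨ p = Fin.last _
      · rw [YD_swap (a := .inr q) (by simpa using e.symm)]
        rcases c with rfl | rfl <;> rcases e'.1 (by simp) with rfl | rfl <;> simp [σD, Equiv.swap_apply_def, ix] at e ⊢
      · have c' := not_or.1 (mt e'.2 c)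
        simp [σD, Equiv.swap_apply_def, ix, not_or.1 c, c']
    · have := mem_centralizer_singleton_iff.1 ((hκ ((centralizer {YD (.inl 0) (.inl (Fin.last _)) 1}).comap J)).2
        (fun p q t e e' => by
          rw [mem_comap, mem_centralizer_singleton_iff, hJ _ _ _ e]
          by_cases c : p = 0 ∨ p = Fin.last _
          · rcases c with rfl | rfl <;> rcases e'.1 (by simp) with rfl | rfl
            · exact absurd rfl e
            · exact (YD_opp (a := .inl 0) (b := .inl (Fin.last _)) n5 _ _).symm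
            · rw [YD_swap (a := .inl (Fin.last _)) (b := .inl 0) (by simp)]
              exact (YD_opp (a := .inl (Fin.last _)) (b := .inl 0) n5.symm _ _).symm
            · exact absurd rfl e
          · have c' := not_or.1 (mt e'.2 c)
            exact YD_commute (by exact e) (by exact n5) (by simp) (by simp) (by simpa using c'.1) (by simpa using c'.2) _ _) x)
      rw [← b3] at this
      have := commute_conj this (J s)⁻¹
      rw [hJ _ _ _ n1, b1, neg_neg]
      simpa [mul_assoc] using this.symm.eq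
    · have : J s * (ν * J s * ν⁻¹) * (J s)⁻¹ = ν := by
        conv_lhs => enter [1, 2]; rw [hs, Nn, map_mul, map_mul, cj, cj, hJ _ _ _ n1, hJ _ _ _ n1.symm, b1, b2]
        rw [cj, cj, b3, b4]; simp [hν, ND]
      calc ν * J s * ν = J s * (ν * J s * ν⁻¹) * (J s)⁻¹ * J s * ν := by rw [this]
        _ = _ := by group
    · simp only [Nn, map_mul, cj, hJ _ _ _ n1, hJ _ _ _ n1.symm, hJ _ _ _ n3, hJ _ _ _ n3.symm, b1, b2]
      have := hD_center (l := l) (K := F)
      simp only [RG0.h, RG0.n, rgD_x] at this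
      simpa [eucD, simpleD, sg, YD_swap (a := .inr (il l)) (b := .inl (Fin.last _)) (by simpa using n3)] using! this
  · refine map_injective (Om (QPlus (l + 2) F)).subtype_injective ?_
    rw [← MonoidHom.range_eq_map, range_subtype]
    refine le_antisymm (map_subtype_le _) ((rgD_grp l F (by omega)).ge.trans ((rgD l F).gen_le.2 fun r _ t => ?_))
    generalize hM : Subgroup.map (Om (QPlus (l + 2) F)).subtype _ = M
    have m1 : ∀ A, J A ∈ M := fun A => hM.le ⟨_, mem_sup_left ⟨A, rfl⟩, rfl⟩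
    have m2 : ν ∈ M := hM.le ⟨_, mem_sup_right (subset_closure ⟨(), rfl⟩), rfl⟩
    refine (rgD l F).x_mem_of_sub' (J := Set.univ) (fun i _ t => ?_) (fun i _ t => ?_) (fun _ h => absurd trivial h) t <;>
      by_cases h : i.val ≤ l
    · simpa [rgD_x, eucD, simpleD, h, sg, hJ, Fin.ext_iff] using m1 (Xn i ⟨i + 1, by omega⟩ t)
    · have := mul_mem (mul_mem m2 (m1 (Xn (il l) 0 (-t)))) (inv_mem m2)
      rw [hJ _ _ _ n1, b1] at this
      simpa [rgD_x, eucD, simpleD, h, sg] using! this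
    · have := m1 (Xn ⟨i + 1, by omega⟩ i t)
      rw [hJ _ _ _ (by simp [Fin.ext_iff]), YD_swap (by simp [Fin.ext_iff])] at this
      simpa [rgD_x, eucD, simpleD, h, sg] using this
    · have := mul_mem (mul_mem m2 (m1 (Xn 0 (il l) (-t)))) (inv_mem m2)
      rw [hJ _ _ _ n1.symm, b2] at this
      simpa [rgD_x, eucD, simpleD, h, sg] using! this
  · intro H _ φ t π p1 p2 hg hR
    simp only [List.forall_mem_append, List.forall_mem_map, List.mem_cons, List.not_mem_nil, or_false, forall_eq_or_imp,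
      forall_eq, V, a, map_inv, FreeGroup.lift_apply_of, Sum.elim_inl, Sum.elim_inr, map_mul (FreeGroup.lift _),
      mul_inv_eq_one] at hR
    obtain ⟨⟨r1, r3⟩, r2, r4⟩ := hR
    have key : ∀ (y : H) (f : SpecialLinearGroup (Fin (l + 2)) F →* H), (∀ x ∈ L, y * f (κ x) = f (κ x) * y) →
        ∀ p q t, p ≠ q → (p = 0 ∨ p = Fin.last _ ↔ q = 0 ∨ q = Fin.last _) → Commute y (f (Xn p q t)) := fun y f h p q t e e' => by
      have : ⊤ ≤ ((centralizer {y}).comap f).comap κ := by
        rw [← h2, closure_le]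
        exact fun x hx => mem_centralizer_singleton_iff.2 (h x hx).symm
      exact (mem_centralizer_singleton_iff.1 ((hκ ((centralizer {y}).comap f)).1 (fun x => this (mem_top x)) p q t e e')).symm
    refine Function.Injective.of_comp (f := (Om (QPlus (l + 2) F)).subtype) (om_inj hl hJ φ (t ())
      ((Om (QPlus (l + 2) F)).subtype.comp π) (fun A => congrArg Subtype.val (p1 A)) (congrArg Subtype.val (p2 ()))
      (fun M a1 a2 => ?_) (key _ φ r1) r2 (fun p q t e e' => by simpa using key _ (φ.comp (MulAut.conj s⁻¹).toMonoidHom) (by simpa using r3) p q t e e') r4)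
    rw [eq_top_iff, ← hg, sup_le_iff, closure_le]
    exact ⟨by rintro _ ⟨A, rfl⟩; exact a1 A, by rintro _ ⟨⟨⟩, rfl⟩; exact a2⟩

end Cfsg.Agent.H6.Om
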