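import Cfsg.Agent.H6.OmD
import Cfsg.Agent.L0.PresA5

/-! Bounded presentations of `Ω⁺` and `PΩ⁺` over any finite field. -/

set_option autoImplicit false

namespace Cfsg.Agent.H6.Om

open Cfsg.Agent.H13 Cfsg.Agent.L0 Subgroup Matrix

theorem om_pres' {F : Type} [Field F] [Finite F] (n : ℕ) (hn : 4 ≤ n) : ∃ (ι : Type) (_ : Fintype ι) (r : ℕ)
    (g : ι → Om (QPlus n F)), Fintype.card ι ≤ 8 ∧ r + 8 ≤ (if n ≤ 5 then 29 else 31) + Fintype.card ι ∧ Pres g r := by
  obtain ⟨l, rfl⟩ : ∃ l, n = l + 2 := ⟨n - 2, by omega⟩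
  by_cases h2 : l = 2
  · subst h2
    obtain ⟨g, hg⟩ := sl4_pres (F := F)
    obtain ⟨g, hg⟩ := om_pres le_rfl hg
    exact ⟨_, inferInstance, _, g, by simp, by simp, hg⟩
  by_cases h3 : l = 3
  · subst h3
    obtain ⟨g, hg⟩ := (small6 5 (by omega)).2
    obtain ⟨g, hg⟩ := sln_pres (F := F) le_rfl hg
    obtain ⟨g, hg⟩ := om_pres (by omega) hg
    exact ⟨_, inferInstance, _, g, by simp, by simp, hg⟩
  obtain ⟨g, hg⟩ := (p7 (l + 2) (by omega)).2.1
  obtain ⟨g, hg⟩ := sln_pres (F := F) (by omega) hg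
  obtain ⟨g, hg⟩ := om_pres (by omega) hg
  exact ⟨_, inferInstance, _, g, by simp, by simp [h2, show ¬ l + 2 ≤ 5 by omega], hg⟩

theorem om_pom_pres (K : Type*) [Field K] [Finite K] (n : ℕ) (hn : 4 ≤ n) : ∃ (ι : Type) (_ : Fintype ι) (r : ℕ)
    (g : ι → Omega K (quadFormPlus n K)) (g' : ι → POmega K (quadFormPlus n K)), Fintype.card ι ≤ 8 ∧
      r + 8 ≤ (if n ≤ 5 then 29 else 31) + Fintype.card ι ∧ Pres g r ∧ Pres g' (r + 1) := by
  obtain ⟨F, _, _, ⟨e⟩⟩ := H12.exists_small_field K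
  obtain ⟨ι, _, r, g, h1, h2, hg⟩ := om_pres' (F := F) n hn
  let s : SemiSim (QPlus n K) (QPlus n F) := ⟨AddEquiv.piCongrRight fun _ => e.toAddEquiv, e, 1, one_ne_zero,
    fun a v => by ext; simp, fun v => show quadFormPlus n F _ = 1 * e (quadFormPlus n K v) by simp [quadFormPlus]⟩
  have h := hg.equiv (commutatorEquiv s.conj).symm
  have hz := fun z => (nd_QPlus (m := n) (F := K)).mem_center_Om_iff (good_of_five (by simp; omega)) (by simp; omega) z
  obtain ⟨z, hz⟩ : ∃ z : Om (QPlus n K), center _ = normalClosure {x | x ∈ [z]} := by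
    by_cases c : negOne (QPlus n K) ∈ Om (QPlus n K)
    · refine ⟨⟨_, c⟩, le_antisymm (fun x hx => ?_) (normalClosure_le_normal (by simpa using (hz _).2 (.inr rfl)))⟩
      rcases (hz x).1 hx with h | h
      · rw [show x = 1 from Subtype.ext h]; exact one_mem _
      · exact subset_normalClosure (by simpa [Subtype.ext_iff (a1 := x)] using h)
    · refine ⟨1, le_antisymm (fun x hx => ?_) (normalClosure_le_normal (by simp))⟩
      rcases (hz x).1 hx with h | h
      · rw [show x = 1 from Subtype.ext h]; exact one_mem _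
      · exact absurd (h ▸ x.2) c
  exact ⟨ι, inferInstance, r, _, _, h1, h2, h.equiv (omegaEquiv (QPlus n K)).symm,
    (h.quot (QuotientGroup.mk' (center _)) (QuotientGroup.mk'_surjective _) [z] (by rwa [QuotientGroup.ker_mk'])).equiv
      (pomegaEquiv (QPlus n K)).symm⟩

end Cfsg.Agent.H6.Om
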