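import Cfsg.Agent.H8.Glaub4
import Cfsg.Agent.H8.Gal1
import Cfsg.Agent.H8.Deg1
import Cfsg.Agent.H25.Real
import Cfsg.Agent.H6.SylNorm
import Cfsg.Agent.H2.Basic

/-! Groups whose real irreducible characters have degree prime to `p` (Isaacs–Navarro). -/

set_option autoImplicit false

open scoped ComplexConjugate
open Cfsg Cfsg.Agent.H4 Cfsg.Agent.H5 Cfsg.Agent.H8 Cfsg.Agent.H1 Subgroup

namespace Cfsg.Agent.H6.RP

universe u

variable {G : Type*} [Group G] [Finite G] {p : ℕ} [hp : Fact p.Prime]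

/-- the subgroup generated by the `q`-elements -/
abbrev gen (q : ℕ) (G : Type*) [Group G] : Subgroup G := closure {g : G | ∃ k : ℕ, orderOf g = q ^ k}

instance gen_normal (q : ℕ) (G : Type*) [Group G] : (gen q G).Normal :=
  ⟨fun n hn g => by
    have : (gen q G).map (MulAut.conj g).toMonoidHom ≤ gen q G := by
      rw [MonoidHom.map_closure]
      refine closure_mono ?_
      rintro _ ⟨x, ⟨k, hk⟩, rfl⟩
      exact ⟨k, ((MulAut.conj g).orderOf_eq x).trans hk⟩
    exact this ⟨n, hn, rfl⟩⟩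

omit [Finite G] in
theorem mem_gen {g : G} {j : ℕ} (h : g ^ p ^ j = 1) : g ∈ gen p G :=
  let ⟨k, _, hk⟩ := (Nat.dvd_prime_pow hp.out).1 (orderOf_dvd_of_pow_eq_one h); subset_closure ⟨k, hk⟩

theorem not_dvd_index_gen : ¬ p ∣ (gen p G).index := fun h => by
  obtain ⟨P⟩ : Nonempty (Sylow p G) := inferInstance
  refine P.not_dvd_index (h.trans (index_dvd_of_le fun x hx => ?_))
  obtain ⟨j, hj⟩ := P.isPGroup' ⟨x, hx⟩
  exact mem_gen (congrArg Subtype.val hj)

theorem odd_index_gen : Odd (gen 2 G).index := Nat.odd_iff.2 (Nat.two_dvd_ne_zero.1 not_dvd_index_gen)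

theorem map_gen {H : Type*} [Group H] (f : G →* H) (hf : Function.Surjective f) : (gen p G).map f = gen p H := by
  refine le_antisymm ?_ ((closure_le _).2 fun y hy => ?_)
  · rw [map_le_iff_le_comap, closure_le]
    rintro x ⟨k, hk⟩
    exact mem_gen (j := k) (by rw [← map_pow, ← hk, pow_orderOf_eq_one, map_one])
  · obtain ⟨x, h1, rfl⟩ := exists_lift_pElem hp.out f hf hy
    exact mem_map_of_mem f (subset_closure h1)

/-- all real irreducible characters have degree prime to `p` -/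
def RH (p : ℕ) (G : Type*) [Group G] : Prop :=
  ∀ χ : IrrCharacter G, (∀ g, (χ.1 g).im = 0) → ¬ p ∣ charDegree χ.1

omit [Finite G] hp in
theorem RH.quot (h : RH p G) (N : Subgroup G) [N.Normal] : RH p (G ⧸ N) := fun χ hχ =>
  h ⟨_, χ.2.inflate⟩ fun _ => hχ _

/-- real conjugacy classes -/
abbrev RC (G : Type*) [Group G] := {c : ConjClasses G // ∀ k, ConjClasses.mk k = c → IsConj k k⁻¹}

/-- the class of a real element -/
def rc {G : Type*} [Group G] (x : G) (h : IsConj x x⁻¹) : RC G := ⟨ConjClasses.mk x, fun k hk => by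
  obtain ⟨e, rfl⟩ := isConj_iff.mp (ConjClasses.mk_eq_mk_iff_isConj.mp hk).symm
  obtain ⟨d, hd⟩ := isConj_iff.mp h
  exact isConj_iff.mpr ⟨e * d * e⁻¹, by rw [conj_inv (a := x), ← hd]; group⟩⟩

theorem rc_surj {G : Type*} [Group G] (c : RC G) : ∃ x h, rc x h = c :=
  let ⟨x, hx⟩ := ConjClasses.mk_surjective c.1; ⟨x, c.2 x hx, Subtype.ext hx⟩

theorem rc_eq {G : Type*} [Group G] {x y : G} {h h'} : rc x h = rc y h' ↔ IsConj x y :=
  Subtype.ext_iff.trans ConjClasses.mk_eq_mk_iff_isConj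

/-- image of a real class -/
def rcMap {G H : Type*} [Group G] [Group H] (f : G →* H) (c : RC G) : RC H :=
  ⟨ConjClasses.map f c.1, by
    obtain ⟨x, h, rfl⟩ := rc_surj c
    exact (rc (f x) (map_inv f x ▸ f.map_isConj h)).2⟩

theorem rcMap_rc {G H : Type*} [Group G] [Group H] (f : G →* H) (x : G) (h) :
    rcMap f (rc x h) = rc (f x) (map_inv f x ▸ f.map_isConj h) := rfl

theorem exists_real_of_lift (N : Subgroup G) [N.Normal]
    (hl : ∀ y : G ⧸ N, IsConj y y⁻¹ → ∃ x : G, (x : G ⧸ N) = y ∧ IsConj x x⁻¹) {y : G} (hy : y ∈ N) (h1 : y ≠ 1)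
    (hr : IsConj y y⁻¹) : ∃ χ : IrrCharacter G, (∀ g, (χ.1 g).im = 0) ∧ ¬ N ≤ charKer χ.1 := by
  by_contra! h
  have h2 : Nat.card (RC G) ≤ Nat.card (RC (G ⧸ N)) := by
    rw [← card_real_irr, ← card_real_irr]
    refine Nat.card_le_card_of_injective (fun χ => ⟨⟨_, χ.1.2.deflate (h _ χ.2)⟩, fun g => ?_⟩) fun χ ψ e => ?_
    · obtain ⟨g, rfl⟩ := QuotientGroup.mk_surjective g
      exact (congrArg Complex.im (deflate_mk (h _ χ.2) g)).trans (χ.2 g)
    · exact Subtype.ext (Subtype.ext (funext fun g => by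
        rw [← deflate_mk (h _ χ.2), ← deflate_mk (h _ ψ.2)]; exact congrFun (congrArg (fun x => x.1.1) e) (g : G ⧸ N)))
  have h3 : Function.Surjective (rcMap (QuotientGroup.mk' N)) := fun c => by
    obtain ⟨z, hz, rfl⟩ := rc_surj c
    obtain ⟨x, rfl, hx⟩ := hl z hz
    exact ⟨rc x hx, rfl⟩
  have h4 := (h3.bijective_of_nat_card_le h2).1 (a₁ := rc 1 (by simp)) (a₂ := rc y hr) (by
    rw [rcMap_rc, rcMap_rc, rc_eq, map_one, QuotientGroup.mk'_apply, (QuotientGroup.eq_one_iff y).2 hy])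
  exact h1 (isConj_one_right.1 (rc_eq.1 h4))

theorem exists_real_lift_of_odd (N : Subgroup G) [N.Normal] (ho : ¬ 2 ∣ Nat.card N) (y : G ⧸ N)
    (hy : IsConj y y⁻¹) : ∃ x : G, (x : G ⧸ N) = y ∧ IsConj x x⁻¹ := by
  classical
  obtain ⟨s, ⟨j, hj⟩, hs⟩ := H25.exists_two_elt_inverting hy
  obtain ⟨t, ⟨k, hk⟩, rfl⟩ := exists_lift_pElem Nat.prime_two (QuotientGroup.mk' N) (QuotientGroup.mk'_surjective N)
    (y := s) (let ⟨k, _, h⟩ := (Nat.dvd_prime_pow Nat.prime_two).1 (orderOf_dvd_of_pow_eq_one hj); ⟨k, h⟩)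
  let f : Function.End {x : G // (x : G ⧸ N) = y} := fun x => ⟨(t * x * t⁻¹)⁻¹, by
    rw [QuotientGroup.mk_inv, QuotientGroup.mk_mul, QuotientGroup.mk_mul, x.2, inv_eq_iff_eq_inv]; exact hs⟩
  have h1 : ∀ m x, ((f ^ (2 * m)) x).1 = t ^ (2 * m) * x * (t ^ (2 * m))⁻¹ := fun m x => by
    induction m with
    | zero => simp; rfl
    | succ m ih =>
      rw [show 2 * (m + 1) = 2 * m + 1 + 1 from rfl, pow_succ', pow_succ']
      change (t * (t * ((f ^ (2 * m)) x).1 * t⁻¹)⁻¹ * t⁻¹)⁻¹ = _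
      rw [ih]; group
  haveI := Fintype.ofFinite {x : G // (x : G ⧸ N) = y}
  have h2 := Equiv.Perm.card_fixedPoints_modEq (f := f) (p := 2) (n := k + 1) (funext fun x => Subtype.ext (by
    rw [pow_succ', h1, mul_comm 2, pow_mul, ← hk, pow_orderOf_eq_one]; simp; rfl))
  obtain ⟨z, rfl⟩ := QuotientGroup.mk_surjective y
  have h3 : Nat.card {x : G // (x : G ⧸ N) = z} = Nat.card N := Nat.card_congr
    ⟨fun x => ⟨x.1⁻¹ * z, QuotientGroup.eq.1 x.2⟩, fun n => ⟨z * n.1⁻¹, QuotientGroup.eq.2 (by simp)⟩,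
      fun x => by simp, fun n => by simp⟩
  rw [← Nat.card_eq_fintype_card, h3] at h2
  obtain ⟨⟨x, hx⟩⟩ := Fintype.card_pos_iff.1 (Nat.pos_of_ne_zero fun h => ho (Nat.modEq_zero_iff_dvd.1 (h ▸ h2)))
  exact ⟨x, x.2, isConj_iff.2 ⟨t, inv_eq_iff_eq_inv.1 (congrArg Subtype.val hx)⟩⟩

omit [Finite G] in
theorem exists_real_mem (M : Subgroup G) [hM : M.Normal] (j : ℕ) : ∀ t : G, t ^ 2 ^ j = 1 →
    t ∉ centralizer (M : Set G) → ∃ y ∈ M, y ≠ 1 ∧ IsConj y y⁻¹ := by
  induction j with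
  | zero => intro t h h'; rw [pow_zero, pow_one] at h; exact absurd (h ▸ one_mem _) h'
  | succ j ih =>
    intro t h h'
    by_cases h2 : t ^ 2 ∈ centralizer (M : Set G)
    · obtain ⟨m, hm, h3⟩ : ∃ m ∈ M, m * t ≠ t * m := by
        by_contra! h; exact h' h
      refine ⟨m⁻¹ * (t * m * t⁻¹), M.mul_mem (M.inv_mem hm) (hM.conj_mem m hm t), fun e => h3 ?_,
        isConj_iff.2 ⟨t, ?_⟩⟩
      · rw [inv_mul_eq_one] at e; exact (eq_mul_inv_iff_mul_eq.1 e)
      · have := h2 m hm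
        calc _ = (t * m * t⁻¹)⁻¹ * (t ^ 2 * m * (t ^ 2)⁻¹) := by rw [sq]; group
          _ = _ := by rw [← this]; group
    · exact ih _ (by rw [← pow_mul, ← pow_succ']; exact h) h2

theorem exists_real_mem' (M : Subgroup G) [M.Normal] (h : ¬ gen 2 G ≤ centralizer (M : Set G)) :
    ∃ y ∈ M, y ≠ 1 ∧ IsConj y y⁻¹ := by
  by_contra h'
  refine h ((closure_le _).2 fun t ⟨k, hk⟩ => by_contra fun h1 => h' ?_)
  exact exists_real_mem M k t (hk ▸ pow_orderOf_eq_one t) h1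

theorem not_dvd_index_inertia {K : Type*} [Group K] [Fintype K] (E : NEmb K G) {χ : G → ℂ}
    (hχ : IsIrrCharacter G χ) (hd : ¬ p ∣ charDegree χ) {θ : K → ℂ} (hθ : IsIrrCharacter K θ)
    (h : classInner (fun n => χ (E.f n)) θ ≠ 0) : ¬ p ∣ (E.inertia θ).index := fun h1 => by
  haveI := Fintype.ofFinite G
  have h2 := E.clifford_degree hχ hθ h
  obtain ⟨e, he⟩ := (hχ.isCharacter.comp E.f).classInner_nat hθ.isCharacter
  rw [he, ← hθ.isCharacter.charDegree_cast, ← Nat.cast_mul, ← Nat.cast_mul] at h2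
  exact hd (charDegree_eq_of h2 ▸ (h1.mul_left e).mul_right _)

theorem core (G : Type u) [Group G] [Finite G] : ∀ A U P : Subgroup G, A.Normal → Group.IsSolvable A →
    ¬ p ∣ A.index → RH p G → U.Normal → gen 2 G ≤ U → (∀ x ∈ U, ∃ k, x ^ p ^ k ∈ gen 2 G) →
    IsSylowIn p P U → P.Normal := by
  refine H2.card_induction (P := fun G _ _ => ∀ A U P : Subgroup G, A.Normal → Group.IsSolvable A →
    ¬ p ∣ A.index → RH p G → U.Normal → gen 2 G ≤ U → (∀ x ∈ U, ∃ k, x ^ p ^ k ∈ gen 2 G) →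
    IsSylowIn p P U → P.Normal) (fun G _ _ ih => ?_) G
  intro A U P hA hs hi hR hU hK hq hP
  by_cases h0 : P = ⊥
  · rw [h0]; infer_instance
  have hPA : P ≤ A := fun x hx => let ⟨j, hj⟩ := hP.isPGroup ⟨x, hx⟩
    H25.mem_of_pow_eq_one_of_not_dvd_index hp.out (congrArg Subtype.val hj) (le_normalizer_of_normal (mem_top x)) hi
  obtain ⟨N, hN, hNl⟩ := H2.exists_isMinNormal_le (N := A ⊓ U) inferInstance
    fun h => h0 (eq_bot_iff.2 (h ▸ le_inf hPA hP.le))
  obtain ⟨hc, q, hq', hNq⟩ := hN.exists_prime_of_isSolvable (isSolvable_of_le (hNl.trans inf_le_left) hs)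
  haveI := hN.normal
  have hf := QuotientGroup.mk'_surjective N
  have hL : (N ⊔ P).Normal := by
    have := (ih (G ⧸ N) (card_quotient_lt hN.ne_bot) (A.map _) (U.map _) (P.map _) (hA.map _ hf) (isSolvable_map _ hs)
      (fun h => hi (h.trans (index_map_dvd A hf))) (hR.quot N) (hU.map _ hf) (map_gen (p := 2) _ hf ▸ map_mono hK)
      (by rintro _ ⟨x, hx, rfl⟩
          obtain ⟨k, hk⟩ := hq x hx
          exact ⟨k, by rw [← map_pow, ← map_gen (p := 2) _ hf]; exact mem_map_of_mem _ hk⟩)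
      (hP.map _)).comap (QuotientGroup.mk' N)
    rwa [comap_map_eq, QuotientGroup.ker_mk', sup_comm] at this
  have hNU := hNl.trans inf_le_right
  by_cases hpq : q = p
  · subst hpq
    rwa [sup_eq_right.2 (hP.le_of_le_normalizer hNU (H2.isPGroup_of_forall_pow_eq_one hNq)
      le_normalizer_of_normal)] at hL
  have hcp : q.Coprime p := (Nat.coprime_primes hq' hp.out).2 hpq
  have hd : ∀ g, ∃ n ∈ N, ∃ h ∈ normalizer (P : Set G), n * h = g := fun g => by
    obtain ⟨k, hk, h⟩ := (hP.of_le le_sup_right (sup_le hNU hP.le)).exists_mul_normalizer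
      (le_normalizer_of_normal (mem_top g))
    obtain ⟨n, hn, y, hy, rfl⟩ := (mem_sup_of_le_normalizer_left le_normalizer_of_normal).1 hk
    exact ⟨n, hn, _, mul_mem (le_normalizer hy) h, by group⟩
  have ht : N ⊔ normalizer (P : Set G) = ⊤ := eq_top_iff.2 fun g _ => by
    obtain ⟨n, hn, h, hh, rfl⟩ := hd g; exact mul_mem_sup hn hh
  by_cases hD : N ⊓ normalizer (P : Set G) = ⊥
  swap
  · have := hN.eq_of_le (H2.normal_of_sup_eq_top (H2.le_normalizer_of_le_of_isMulCommutative inf_le_left)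
      (le_normalizer_inf le_normalizer_of_normal le_normalizer) ht) inf_le_left hD
    rw [sup_eq_right.2 (this ▸ inf_le_right)] at ht
    exact normalizer_eq_top_iff.1 ht
  exfalso
  have hb : ∀ x ∈ N, x ∈ normalizer (P : Set G) → x = 1 := fun x h1 h2 => mem_bot.1 (hD ▸ ⟨h1, h2⟩)
  obtain ⟨y, hy, hy1, hyr⟩ : ∃ y ∈ N, y ≠ 1 ∧ IsConj y y⁻¹ := by
    by_cases h : gen 2 G ≤ centralizer (N : Set G)
    swap
    · exact exists_real_mem' N h
    obtain ⟨y, hy, hy1⟩ := (bot_or_exists_ne_one N).resolve_left hN.ne_bot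
    by_cases h2 : q = 2
    · exact ⟨y, hy, hy1, by rw [inv_eq_of_mul_eq_one_left ((sq y).symm.trans (h2 ▸ hNq y hy))]⟩
    refine absurd (hb y hy ((show gen 2 G ≤ _ from (closure_le _).2 fun t ⟨k, hk⟩ => ?_) ?_)) hy1
    · obtain ⟨n, hn, w, hw, rfl⟩ := hd t
      have h3 : Commute n w := by
        have := h (subset_closure ⟨k, hk⟩) n hn
        rwa [mul_assoc, mul_right_inj] at this
      have h4 := hk ▸ pow_orderOf_eq_one (n * w)
      rw [h3.mul_pow] at h4
      have h5 := hb _ (N.pow_mem hn _) (eq_inv_of_mul_eq_one_left h4 ▸ inv_mem (pow_mem hw _))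
      rw [mem_bot.1 (H3.mem_of_pow_mem_of_coprime (K := ⊥) (((Nat.coprime_primes hq' Nat.prime_two).2 h2).pow_right k)
        (hNq n hn) h5), one_mul]
      exact hw
    · obtain ⟨k, hk⟩ := hq y (hNU hy)
      exact H3.mem_of_pow_mem_of_coprime (hcp.pow_right k) (hNq y hy ▸ one_mem _) hk
  obtain ⟨χ, h1, h2⟩ := exists_real_of_lift N (fun z hz => by
    obtain ⟨c, hc⟩ := isConj_iff.1 hz
    have key : ∀ z : G ⧸ N, ∃ h ∈ normalizer (P : Set G), (h : G ⧸ N) = z := fun z => by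
      obtain ⟨g, rfl⟩ := QuotientGroup.mk_surjective z
      obtain ⟨n, hn, h, hh, rfl⟩ := hd g
      exact ⟨h, hh, by rw [QuotientGroup.mk_mul, (QuotientGroup.eq_one_iff n).2 hn, one_mul]⟩
    obtain ⟨a, ha, rfl⟩ := key z
    obtain ⟨b, hb', rfl⟩ := key c
    exact ⟨a, rfl, isConj_iff.2 ⟨b, inv_mul_eq_one.1 (hb _ (QuotientGroup.eq.1 hc)
      (mul_mem (inv_mem (mul_mem (mul_mem hb' ha) (inv_mem hb'))) (inv_mem ha)))⟩⟩) hy hy1 hyr
  haveI := Fintype.ofFinite N
  obtain ⟨θ, h3, h4⟩ := exists_irr_under N χ.2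
  obtain ⟨lam, rfl⟩ := h3.exists_linear_of_comm fun a b => Subtype.ext (H2.mul_comm_of_mem a.2 b.2)
  obtain ⟨m, hm⟩ := IsPGroup.iff_card.1 hP.isPGroup
  obtain ⟨n, -, hn⟩ := (Nat.dvd_prime_pow hp.out).1 (hm ▸ relIndex_dvd_card N P)
  have h5 := le_sup_right.trans (le_of_not_dvd_index (V := N ⊔ P)
    ((relIndex_sup_of_le_normalizer le_normalizer_of_normal).trans hn)
    (fun x hx => (NEmb.ofNormal N).f_mem_inertia h3.isClassFunction ⟨x, hx⟩)
    (not_dvd_index_inertia (NEmb.ofNormal N) χ.2 (hR χ h1) h3 h4))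
  haveI := Fact.mk hq'
  have h6 := commutator_sup_centralizer (A := P) (K := N) le_normalizer_of_normal
    (coprime_card_of_isPGroup hP.isPGroup fun h => by
      obtain ⟨j, hj⟩ := IsPGroup.iff_card.1 (H2.isPGroup_of_forall_pow_eq_one hNq)
      exact hpq ((Nat.prime_dvd_prime_iff_eq hp.out hq').1 (hp.out.dvd_of_dvd_pow (hj ▸ h))).symm)
    (Or.inl (isSolvable_of_isPGroup hP.isPGroup))
  have h7 : N ≤ lam.ker.map N.subtype := h6.ge.trans (sup_le (commutator_le.2 fun n hn x hx => ?_)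
    fun x hx => hb x hx.1 (centralizer_le_normalizer _ hx.2) ▸ one_mem _)
  · refine (χ.2.classInner_restrict_one_eq_zero_iff N).2 h2 |> fun h => h4 ?_
    rwa [show (fun g => (lam g : ℂ)) = fun _ => 1 from funext fun g => by
      obtain ⟨z, hz, e⟩ := h7 g.2
      rw [← (Subtype.ext e : z = g), MonoidHom.mem_ker.1 hz, Units.val_one]]
  · refine ⟨⟨n, hn⟩ * ((NEmb.ofNormal N).act x ⟨n, hn⟩)⁻¹, ?_, by
      simp [commutatorElement_def, NEmb.ofNormal, mul_assoc]⟩
    rw [SetLike.mem_coe, MonoidHom.mem_ker, map_mul, map_inv, mul_inv_eq_one]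
    exact Units.ext (((NEmb.ofNormal N).mem_inertia.1 (h5 hx) _).symm)

theorem normal_of_rh (hs : Group.IsSolvable (gen p G)) (hR : RH p G) {U P : Subgroup G} [hU : U.Normal]
    (hK : gen 2 G ≤ U) {a : ℕ} (ha : (gen 2 G).relIndex U = p ^ a) (hP : IsSylowIn p P U) : P.Normal :=
  core G _ U P inferInstance hs not_dvd_index_gen hR hU hK (fun _ hx => ⟨a, ha ▸ Subgroup.pow_relIndex_mem _ hx⟩) hP

theorem sylow_normal (hs : Group.IsSolvable (gen p G)) (hR : RH p G) {U : Subgroup G} [hU : U.Normal]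
    (hK : gen 2 G ≤ U) {a : ℕ} (ha : (gen 2 G).relIndex U = p ^ a) (Q : Sylow p U) : (Q : Subgroup U).Normal := by
  have := (normal_of_rh hs hR hK ha (isSylowIn_map_subtype Q)).comap U.subtype
  rwa [comap_map_eq_self_of_injective U.subtype_injective] at this

theorem le_charKer_of_le_commutator {P M : Subgroup G} [M.Normal] (hP : IsPGroup p P) (hM : M ≤ ⁅P, P⁆) {χ : G → ℂ}
    (hχ : IsIrrCharacter G χ) (hd : ¬ p ∣ charDegree χ) : M ≤ charKer χ := by
  by_contra h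
  haveI := Fintype.ofFinite M
  have hMP := hM.trans (commutator_le_left_of_le_normalizer le_normalizer)
  have h1 := charDegree_eq_sum_nin (hχ.isCharacter.restrict P)
  have h2 := nin_comp_eq_sum (inclusion hMP) (hχ.isCharacter.restrict P) isCharacter_one
  rw [nin_eq_of (n := 0) (by exact_mod_cast (hχ.classInner_restrict_one_eq_zero_iff M).2 h)] at h2
  refine hd (show p ∣ charDegree fun x : P => χ x from h1 ▸ Finset.dvd_sum fun η _ => by_contra fun h3 => ?_)
  obtain ⟨k, hk⟩ := exists_pow_of_mem_cd hP (charDegree_mem_cd η.2)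
  obtain rfl : k = 0 := by_contra fun h0 => h3 ((hk ▸ dvd_pow_self p h0 : p ∣ charDegree η.1).mul_left _)
  have h4 := η.2.commutator_le_charKer_iff.2 (by rw [← η.2.isCharacter.charDegree_cast, hk]; simp)
  have h5 := (Finset.sum_eq_zero_iff.1 h2.symm η (Finset.mem_univ _))
  rw [show (fun x => η.1 (inclusion hMP x)) = fun _ => 1 from funext fun x => by
    obtain ⟨z, hz, e⟩ := (map_subtype_commutator P).ge (hM x.2)
    rw [← (Subtype.ext e : z = inclusion hMP x), apply_of_mem_charKer (h4 hz), ← η.2.isCharacter.charDegree_cast, hk]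
    simp, nin_eq_of (G := M) (n := 1) (by exact_mod_cast classInner_one_one), mul_one] at h5
  exact h3 (by rw [h5, zero_mul]; exact dvd_zero p)

end Cfsg.Agent.H6.RP
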