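import Cfsg.Agent.H6.Loc
import Mathlib.RingTheory.RootsOfUnity.Complex

/-!
Roots in the local ring: Teichmüller lifts, `p'`-roots of one-units, trivialization of cocycles
with values in the one-units.
-/

set_option autoImplicit false

namespace Cfsg.Agent.H6

variable {M : Ideal AlgInt} [hMm : M.IsMaximal] {p : ℕ}

theorem eq_one_of_pow_eq_one_of_redC (hM : IsPModular p M) {n : ℕ} (hn : ¬ p ∣ n) {z : ℂ}
    (h : z ^ n = 1) (h1 : redC M z = 1) : z = 1 := by
  by_contra hz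
  have hn0 : n ≠ 0 := by rintro rfl; exact hn (dvd_zero p)
  have hm := mem_locRing_of_pow_eq_one (M := M) hn0 h
  have h2 : ∑ i ∈ Finset.range n, z ^ i = 0 := by
    have := mul_geom_sum z n
    rw [h, sub_self, mul_eq_zero, sub_eq_zero] at this
    exact this.resolve_left hz
  have h3 := congrArg (redC M) h2
  rw [redC_sum _ fun i _ => (locRing M).pow_mem hm i, redC_zero] at h3
  simp only [redC_pow hm, h1, one_pow, Finset.sum_const, Finset.card_range, nsmul_eq_mul,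
    mul_one] at h3
  exact hn ((natCast_res_eq_zero_iff hM n).1 h3)

theorem mem_locRing_of_pow_mem {n : ℕ} (hn : n ≠ 0) {z : ℂ} (h : z ^ n ∈ locRing M) :
    z ∈ locRing M := by
  obtain ⟨a, b, hb, e⟩ := mem_locRing.1 h
  have hb0 := coe_ne_zero_of_not_mem hb
  have h1 : IsIntegral ℤ ((b : ℂ) * z) := by
    refine IsIntegral.of_pow (Nat.pos_of_ne_zero hn) ?_
    obtain ⟨m, rfl⟩ := Nat.exists_eq_succ_of_ne_zero hn
    have : ((b : ℂ) * z) ^ m.succ = ((b ^ m * a : AlgInt) : ℂ) := by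
      rw [mul_pow, ← e]
      push_cast
      field_simp
      rw [pow_succ]
      ring
    rw [this]
    exact (b ^ m * a).2
  exact mem_locRing.2 ⟨⟨_, h1⟩, b, hb, by simp [hb0]⟩

theorem exists_root_lift (hM : IsPModular p M) {n : ℕ} (hn : ¬ p ∣ n) {x : Res M}
    (hx : x ^ n = 1) : ∃ ζ : ℂ, ζ ^ n = 1 ∧ redC M ζ = x := by
  have hn0 : n ≠ 0 := by rintro rfl; exact hn (dvd_zero p)
  haveI : NeZero n := ⟨hn0⟩
  have hζ := Complex.isPrimitiveRoot_exp n hn0
  set ζ := Complex.exp (2 * Real.pi * Complex.I / n)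
  have hm := mem_locRing_of_pow_eq_one (M := M) hn0 hζ.pow_eq_one
  have h2 : IsPrimitiveRoot (redC M ζ) n := by
    refine ⟨by rw [← redC_pow hm, hζ.pow_eq_one, redC_one], fun l hl => hζ.dvd_of_pow_eq_one l ?_⟩
    refine eq_one_of_pow_eq_one_of_redC hM hn ?_ (by rw [redC_pow hm, hl])
    rw [← pow_mul, mul_comm, pow_mul, hζ.pow_eq_one, one_pow]
  obtain ⟨i, -, hi⟩ := h2.eq_pow_of_pow_eq_one hx
  exact ⟨ζ ^ i, by rw [← pow_mul, mul_comm, pow_mul, hζ.pow_eq_one, one_pow],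
    by rw [redC_pow hm, hi]⟩

theorem exists_root_redC_one (hM : IsPModular p M) {n : ℕ} (hn : ¬ p ∣ n) {γ : ℂ}
    (h : redC M γ = 1) : ∃ β : ℂ, β ^ n = γ ∧ redC M β = 1 := by
  have hn0 : n ≠ 0 := by rintro rfl; exact hn (dvd_zero p)
  have hγ : γ ∈ locRing M := mem_of_redC_ne_zero (by rw [h]; exact one_ne_zero)
  obtain ⟨b, hb⟩ := IsAlgClosed.exists_pow_nat_eq γ (Nat.pos_of_ne_zero hn0)
  have hbm : b ∈ locRing M := mem_locRing_of_pow_mem hn0 (hb ▸ hγ)
  have h1 : redC M b ^ n = 1 := by rw [← redC_pow hbm, hb, h]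
  obtain ⟨ζ, hζ, e⟩ := exists_root_lift hM hn h1
  have h0 : redC M ζ ≠ 0 := by
    rw [e]
    intro h0
    rw [h0, zero_pow hn0] at h1
    exact zero_ne_one h1
  refine ⟨b / ζ, by rw [div_pow, hb, hζ, div_one], ?_⟩
  rw [redC_div hbm h0, ← e, div_self h0]

theorem eq_of_pow_eq_of_redC (hM : IsPModular p M) {n : ℕ} (hn : ¬ p ∣ n) {a b : ℂ}
    (h0 : redC M a ≠ 0) (h1 : redC M a = redC M b) (h : a ^ n = b ^ n) : a = b := by
  have hb := h1 ▸ h0
  have hb0 := ne_zero_of_redC_ne_zero hb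
  have := eq_one_of_pow_eq_one_of_redC hM hn (z := a / b)
    (by rw [div_pow, h, div_self (pow_ne_zero _ hb0)])
    (by rw [redC_div (mem_of_redC_ne_zero h0) hb, h1, div_self hb])
  exact (div_eq_one_iff_eq hb0).1 this

theorem redC_mul_of_ne_zero {a b : ℂ} (ha : redC M a ≠ 0) (hb : redC M b ≠ 0) :
    redC M (a * b) = redC M a * redC M b :=
  redC_mul (mem_of_redC_ne_zero ha) (mem_of_redC_ne_zero hb)

theorem pow_ordCompl_eq_one (hM : IsPModular p M) {x : Res M} {n : ℕ} (hn : n ≠ 0)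
    (h : x ^ n = 1) : x ^ (ordCompl[p] n) = 1 := by
  haveI := charP_res hM
  haveI : Fact p.Prime := ⟨hM.1⟩
  have e := Nat.ordProj_mul_ordCompl_eq_self n p
  have h4 : (x ^ (ordCompl[p] n) - 1) ^ p ^ n.factorization p = 0 := by
    rw [sub_pow_char_pow, ← pow_mul, mul_comm, e, h, one_pow, sub_self]
  exact sub_eq_zero.1 (pow_eq_zero_iff (pow_ne_zero _ hM.1.ne_zero) |>.1 h4)

/-- Teichmüller lift of a multiplicative function on a finite group. -/
theorem exists_teichmuller (hM : IsPModular p M) {Γ : Type*} [Group Γ] [Finite Γ] (φ : Γ → Res M)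
    (h1 : φ 1 = 1) (hmul : ∀ a b, φ (a * b) = φ a * φ b) :
    ∃ lam : Γ →* ℂˣ, (∀ a, redC M (lam a) = φ a) ∧
      ∀ a, (lam a : ℂ) ^ (ordCompl[p] (Nat.card Γ)) = 1 := by
  have hn : Nat.card Γ ≠ 0 := Nat.card_pos.ne'
  have hm := Nat.not_dvd_ordCompl hM.1 hn
  have hm0 : ordCompl[p] (Nat.card Γ) ≠ 0 := by rintro h; exact hm (h ▸ dvd_zero p)
  let φ' : Γ →* Res M := ⟨⟨φ, h1⟩, hmul⟩
  have hpow : ∀ a, φ a ^ (ordCompl[p] (Nat.card Γ)) = 1 := fun a =>
    pow_ordCompl_eq_one hM hn (by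
      change φ' a ^ _ = 1
      rw [← map_pow, pow_card_eq_one', map_one])
  choose f hf hf' using fun a => exists_root_lift hM hm (hpow a)
  have hne : ∀ a, redC M (f a) ≠ 0 := fun a h => by
    have := hpow a
    rw [← hf', h, zero_pow hm0] at this
    exact zero_ne_one this
  let F : Γ →* ℂ :=
    { toFun := f
      map_one' := eq_one_of_pow_eq_one_of_redC hM hm (hf 1) (by rw [hf', h1])
      map_mul' := fun a b => eq_of_pow_eq_of_redC hM hm (hne _)
        (by rw [redC_mul_of_ne_zero (hne a) (hne b), hf', hf', hf', hmul])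
        (by rw [mul_pow, hf, hf, hf, mul_one]) }
  exact ⟨F.toHomUnits, hf', hf⟩

/-- A cocycle of a `p'`-group with values in the one-units is a coboundary. -/
theorem exists_coboundary (hM : IsPModular p M) {Γ : Type*} [Group Γ] [Finite Γ]
    (hΓ : ¬ p ∣ Nat.card Γ) (α : Γ → Γ → ℂ) (h1 : ∀ a b, redC M (α a b) = 1)
    (hco : ∀ a b c, α a b * α (a * b) c = α b c * α a (b * c)) :
    ∃ β : Γ → ℂ, (∀ a, redC M (β a) = 1) ∧ ∀ a b, α a b * β (a * b) = β a * β b := by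
  classical
  haveI := Fintype.ofFinite Γ
  have hmem : ∀ a b, α a b ∈ locRing M := fun a b =>
    mem_of_redC_ne_zero (by rw [h1]; exact one_ne_zero)
  have hγ : ∀ a, redC M (∏ c, α a c) = 1 := fun a => by
    rw [redC_prod _ fun c _ => hmem a c]
    simp [h1]
  choose β hβ hβ' using fun a => exists_root_redC_one hM hΓ (hγ a)
  have hne : ∀ a, redC M (β a) ≠ 0 := fun a => by rw [hβ']; exact one_ne_zero
  have hne' : ∀ a b, redC M (α a b) ≠ 0 := fun a b => by rw [h1]; exact one_ne_zero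
  refine ⟨β, hβ', fun a b => eq_of_pow_eq_of_redC hM hΓ ?_ ?_ ?_⟩
  · rw [redC_mul_of_ne_zero (hne' _ _) (hne _)]
    exact mul_ne_zero (hne' _ _) (hne _)
  · rw [redC_mul_of_ne_zero (hne' _ _) (hne _), redC_mul_of_ne_zero (hne _) (hne _), h1, hβ', hβ',
      hβ']
  · rw [mul_pow, mul_pow, hβ, hβ, hβ, Nat.card_eq_fintype_card, ← Finset.card_univ,
      ← Finset.prod_const, ← Finset.prod_mul_distrib, mul_comm (∏ c, α a c),
      ← Equiv.prod_comp (Equiv.mulLeft b) (α a), ← Finset.prod_mul_distrib]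
    exact Finset.prod_congr rfl fun c _ => hco a b c

end Cfsg.Agent.H6
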