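import Cfsg.Agent.H6.SpS
import Cfsg.Agent.L0.PresSL2

/-! Permutation matrices and the long root `SL₂` in the symplectic group. -/

set_option autoImplicit false

namespace Cfsg.Agent.H6.Sp

open Cfsg.Agent.H14 Cfsg.Agent.H28 Cfsg.Agent.H12 Cfsg.Agent.L0 Matrix
open scoped MatrixGroups
open Equiv (Perm)

variable {n : ℕ} {K : Type*} [Field K]

theorem B_ee' (v : Idx n → K) (a : Idx n) : spB (Fin n) K v (ee a) = sg a * v a.swap := by
  rw [B_skew, B_ee, neg_neg]

/-- an isometry from a linear map -/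
noncomputable def mkSp (f : (Idx n → K) →ₗ[K] (Idx n → K)) (h : ∀ x y, spB (Fin n) K (f x) (f y) = spB (Fin n) K x y) :
    SpG n K :=
  ⟨LinearEquiv.ofInjectiveEndo f ((injective_iff_map_eq_zero f).2 fun x hx =>
    sd_spB.sep x fun y => by rw [← h, hx]; simp), h⟩

theorem mkSp_apply (f : (Idx n → K) →ₗ[K] (Idx n → K)) (h) (v : Idx n → K) : (mkSp f h).1 v = f v := rfl

theorem Sp_ext {g h : SpG n K} (H : ∀ z, g.1 (ee z) = h.1 (ee z)) : g = h :=
  Subtype.ext (LinearEquiv.toLinearMap_injective ((Pi.basisFun K (Idx n)).ext fun z => by simpa using H z))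

/-- the permutation of the indices -/
def hat (σ : Perm (Fin n)) : Idx n → Idx n := Sum.map σ σ

@[simp] theorem hat_inl (σ : Perm (Fin n)) (i : Fin n) : hat σ (.inl i) = .inl (σ i) := rfl
@[simp] theorem hat_inr (σ : Perm (Fin n)) (i : Fin n) : hat σ (.inr i) = .inr (σ i) := rfl
theorem hat_inj (σ : Perm (Fin n)) : Function.Injective (hat σ) := Sum.map_injective.2 ⟨σ.injective, σ.injective⟩
theorem hat_swap (σ : Perm (Fin n)) (a : Idx n) : hat σ a.swap = (hat σ a).swap := by cases a <;> rfl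
theorem ix_hat (σ : Perm (Fin n)) (a : Idx n) : ix (hat σ a) = σ (ix a) := by cases a <;> rfl

/-- permutation matrices -/
noncomputable def pm (K : Type*) [Field K] : Perm (Fin n) →* SpG n K :=
  MonoidHom.mk' (fun σ => mkSp (LinearMap.funLeft K K (hat σ⁻¹)) fun x y => by
    simp only [spB_apply', LinearMap.funLeft_apply, hat_inl, hat_inr]
    exact Equiv.sum_comp σ⁻¹ fun i => x (.inr i) * y (.inl i) - x (.inl i) * y (.inr i))
    fun σ τ => UG_ext fun v => by ext z; cases z <;> rfl

theorem pm_ee (σ : Perm (Fin n)) (z : Idx n) : (pm K σ).1 (ee z) = ee (hat σ z) := by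
  ext w
  change (ee z : Idx n → K) (hat σ⁻¹ w) = _
  rcases z with i | i <;> rcases w with j | j <;> simp [Pi.single_apply, Equiv.symm_apply_eq]

theorem pm_X (σ : Perm (Fin n)) {a b : Idx n} (h : a.swap ≠ b) (t : K) :
    pm K σ * X a b t * (pm K σ)⁻¹ = X (hat σ a) (hat σ b) t := by
  rw [conj_X (hat_inj σ) (c := fun _ => 1) (fun z => by rw [pm_ee, one_smul]) h
    (by rw [← hat_swap]; exact (hat_inj σ).ne h)]
  congr 1
  rw [show eps (hat σ a) (hat σ b) = eps a b by cases a <;> cases b <;> rfl]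
  linear_combination t * eps_cast (K := K) a b

/-- the linear map of a two by two matrix -/
noncomputable def embL (i : Fin n) (A : Matrix (Fin 2) (Fin 2) K) : (Idx n → K) →ₗ[K] (Idx n → K) :=
  LinearMap.id + ((A 0 0 - 1) • LinearMap.proj (.inl i) + A 0 1 • LinearMap.proj (.inr i) : _ →ₗ[K] K).smulRight (ee (.inl i)) +
    (A 1 0 • LinearMap.proj (.inl i) + (A 1 1 - 1) • LinearMap.proj (.inr i) : _ →ₗ[K] K).smulRight (ee (.inr i))

theorem embL_apply (i : Fin n) (A : Matrix (Fin 2) (Fin 2) K) (v : Idx n → K) : embL i A v =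
    v + ((A 0 0 - 1) * v (.inl i) + A 0 1 * v (.inr i)) • ee (.inl i) +
      (A 1 0 * v (.inl i) + (A 1 1 - 1) * v (.inr i)) • ee (.inr i) := rfl

/-- the long root subgroup `SL₂` -/
noncomputable def emb (i : Fin n) : SL(2, K) →* SpG n K :=
  MonoidHom.mk' (fun A => mkSp (embL i A.1) fun x y => by
    have := A.2
    rw [Matrix.det_fin_two] at this
    simp only [embL_apply, map_add, map_smul, LinearMap.add_apply, LinearMap.map_smulₛₗ, LinearMap.smul_apply, B_ee, B_ee']
    simp [sg]
    linear_combination (x (.inr i) * y (.inl i) - x (.inl i) * y (.inr i)) * this)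
    fun A B => UG_ext fun v => by
      simp only [UG_mul_apply, mkSp_apply, embL_apply, sl_mul, Matrix.mul_apply, Fin.sum_univ_two]
      simp
      module

theorem emb_apply (i : Fin n) (A : SL(2, K)) (v : Idx n → K) : (emb i A).1 v =
    v + ((A.1 0 0 - 1) * v (.inl i) + A.1 0 1 * v (.inr i)) • ee (.inl i) +
      (A.1 1 0 * v (.inl i) + (A.1 1 1 - 1) * v (.inr i)) • ee (.inr i) := rfl

theorem emb_fix (i : Fin n) (A : SL(2, K)) {z : Idx n} (h : ix z ≠ i) : (emb i A).1 (ee z) = ee z := by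
  rcases z with j | j <;> simp [emb_apply, ix, Pi.single_apply, Ne.symm h] <;> simp_all [ix, eq_comm]

theorem pm_emb (σ : Perm (Fin n)) (i : Fin n) (A : SL(2, K)) : pm K σ * emb i A * (pm K σ)⁻¹ = emb (σ i) A := by
  rw [mul_inv_eq_iff_eq_mul]
  refine Sp_ext fun z => ?_
  simp only [UG_mul_apply, emb_apply, map_add, map_smul, pm_ee]
  rcases z with j | j <;> simp [Pi.single_apply]

theorem emb_comm {i j : Fin n} (h : i ≠ j) (A B : SL(2, K)) : Commute (emb i A : SpG n K) (emb j B) := UG_ext fun v => by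
  simp only [UG_mul_apply, emb_apply]
  simp [h, h.symm]
  module

/-- the lower triangular matrices -/
def L2 (a : K) : SL(2, K) := W2⁻¹ * X2 (-a) * W2

theorem L2v (a : K) : (L2 a).1 = !![1, 0; a, 1] := by
  obtain ⟨A, hA⟩ : ∃ A : SL(2, K), A.1 = !![1, 0; a, 1] := ⟨⟨_, by simp [Matrix.det_fin_two]⟩, rfl⟩
  have : W2 * A = X2 (-a) * W2 := by
    apply Subtype.ext; simp [sl_mul, X2v, W2v, hA]
  rw [L2, mul_assoc, ← this, inv_mul_cancel_left, hA]

theorem emb_X2 (i : Fin n) (a : K) : emb i (X2 a) = X (.inl i) (.inl i) a := UG_ext fun v => by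
  simp [emb_apply, X, Y_self_apply, X2v, eps, sg]

theorem emb_L2 (i : Fin n) (a : K) : emb i (L2 a) = X (.inr i) (.inr i) a := UG_ext fun v => by
  simp [emb_apply, X, Y_self_apply, L2v, eps, sg]

/-- the sign change at one index -/
def flip (i : Fin n) (z : Idx n) : Idx n := if ix z = i then z.swap else z

theorem flip_swap (i : Fin n) (z : Idx n) : flip i z.swap = (flip i z).swap := by
  simp only [flip, ix_swap]; split_ifs <;> rfl

theorem flip_flip (i : Fin n) (z : Idx n) : flip i (flip i z) = z := by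
  by_cases h : ix z = i <;> simp [flip, h]

theorem flip_inj (i : Fin n) : Function.Injective (flip i : Idx n → Idx n) := Function.LeftInverse.injective (flip_flip i)

theorem ix_flip (i : Fin n) (z : Idx n) : ix (flip i z) = ix z := by unfold flip; split_ifs <;> simp

theorem W2_inv : (W2⁻¹ : SL(2, K)).1 = !![0, -1; 1, 0] := by
  obtain ⟨A, hA⟩ : ∃ A : SL(2, K), A.1 = !![0, -1; 1, 0] := ⟨⟨_, by simp [Matrix.det_fin_two]⟩, rfl⟩
  have : W2 * A = 1 := by
    apply Subtype.ext; simp [sl_mul, W2v, Matrix.one_fin_two, hA]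
  rw [← eq_inv_of_mul_eq_one_right this, hA]

theorem emb_W (i : Fin n) (z : Idx n) :
    (emb i (W2⁻¹ : SL(2, K))).1 (ee z) = (if ix z = i then (sg z : K) else 1) • (ee (flip i z) : Idx n → K) := by
  by_cases h : ix z = i
  · subst h
    rw [emb_apply, W2_inv]
    rcases z with j | j <;> simp [flip, ix, sg]
  · rw [emb_fix _ _ h]; simp [flip, h]

theorem emb_D (i : Fin n) (e : Kˣ) (z : Idx n) :
    (emb i (D2 e)).1 (ee z) = (if ix z = i then (e : K) ^ sg z else 1) • (ee z : Idx n → K) := by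
  by_cases h : ix z = i
  · subst h
    rcases z with j | j <;> simp [emb_apply, D2v, ix, sg, sub_smul]
  · rw [emb_fix _ _ h]; simp [h]

theorem W_X (i : Fin n) {a b : Idx n} (h : a.swap ≠ b) (t : K) :
    (emb i W2)⁻¹ * X a b t * emb i W2 = X (flip i a) (flip i b) ((if ix a = i then (sg a : K) else 1) *
      (if ix b = i then (sg b : K) else 1) * eps a b * eps (flip i a) (flip i b) * t) := by
  have := conj_X (flip_inj i) (emb_W (K := K) i) h (by rw [← flip_swap]; exact (flip_inj i).ne h) t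
  rwa [map_inv, inv_inv] at this

theorem D_X (i : Fin n) (e : Kˣ) {a b : Idx n} (h : a.swap ≠ b) (t : K) :
    emb i (D2 e) * X a b t * (emb i (D2 e))⁻¹ =
      X a b ((if ix a = i then (e : K) ^ sg a else 1) * (if ix b = i then (e : K) ^ sg b else 1) * t) := by
  rw [conj_X (w := id) Function.injective_id (emb_D (K := K) i e) h h]
  change X a b _ = _
  congr 1
  simp only [id]
  linear_combination ((if ix a = i then (e : K) ^ sg a else 1) * (if ix b = i then (e : K) ^ sg b else 1) * t) *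
    eps_cast (K := K) a b

theorem emb_X_comm (i : Fin n) (A : SL(2, K)) {a b : Idx n} (h : a.swap ≠ b) (ha : ix a ≠ i) (hb : ix b ≠ i) (t : K) :
    Commute (emb i A) (X a b t) := by
  have := conj_Y (g := emb i A) (a := a) (b := b) (a' := a) (b' := b) (c := 1) (d := 1)
    (by rw [one_smul, emb_fix _ _ ha]) (by rw [one_smul, emb_fix _ _ hb]) h h Iff.rfl (eps a b * t)
  rw [one_mul, one_mul] at this
  exact mul_inv_eq_iff_eq_mul.1 this

theorem X_inj {a b : Idx n} (h : a.swap ≠ b) : Function.Injective (X a b : K → SpG n K) :=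
  (rgC n K).x_injective (rt a b h)

theorem X_add {a b : Idx n} (t u : K) : X a b (t + u) = X a b t * X a b u := by rw [X, mul_add, Y_add]; rfl

theorem X_symm (a b : Idx n) : (X a b : K → SpG n K) = X b a := (csC n K).symm a b

theorem pm_swap {i j : Fin n} (h : i ≠ j) : pm K (Equiv.swap i j) =
    X (.inl i) (.inr j) 1 * X (.inr i) (.inl j) (-1) * X (.inl i) (.inr j) 1 * emb i (D2 (-1)) := by
  refine Sp_ext fun z => ?_
  have := nC_single (K := K) (lr_ne h) one_ne_zero z
  rw [UG_mul_apply, emb_D, map_smul, pm_ee]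
  erw [show (X (.inl i) (.inr j) 1 * X (.inr i) (.inl j) (-1) * X (.inl i) (.inr j) (1 : K)) =
    (csC n K).rg0.n (rt _ _ (lr_ne h)) 1 by rw [RG0.n, inv_one]; rfl, this]
  clear this
  have h' := h.symm
  rcases z with k | k <;> by_cases h1 : k = i <;> by_cases h2 : k = j <;>
    simp_all [δC', σC, σD, ix, sg, eps, Equiv.swap_apply_def]

end Cfsg.Agent.H6.Sp
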