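import Cfsg.Agent.H6.SpQ
import Cfsg.Agent.S2284

/-! Bounded presentations of the symplectic groups. -/

set_option autoImplicit false

namespace Cfsg.Agent.H6.Sp

open Cfsg.Agent.H14 Cfsg.Agent.H28 Cfsg.Agent.H12 Cfsg.Agent.L0 Subgroup Polynomial
open scoped MatrixGroups
open Equiv (Perm swap)

theorem pres_of_final {ι : Type} {G : Type*} [Group G] {r : ℕ} (h : ∃ rels : Finset (FreeGroup ι), rels.card ≤ r ∧
    Nonempty (PresentedGroup (↑rels : Set (FreeGroup ι)) ≃* G)) : ∃ g : ι → G, Pres g r := by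
  obtain ⟨R, h1, ⟨e⟩⟩ := h
  refine ⟨_, Pres.equiv (g := PresentedGroup.of) ⟨PresentedGroup.closure_range_of _, R.toList, by simpa using h1, ?_⟩ e⟩
  have : FreeGroup.lift (PresentedGroup.of (rels := (↑R : Set (FreeGroup ι)))) = PresentedGroup.mk _ := by
    ext i; simp [PresentedGroup.of]
  rw [this]
  ext w
  rw [MonoidHom.mem_ker, PresentedGroup.mk_eq_one_iff]
  simp

theorem exists_free {ι κ A B : Type} [Group A] [Group B] {a : ι → A} {b : κ → B} {r s : ℕ} (ha : Pres a r) (hb : Pres b s) :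
    ∃ (G : Type) (_ : Group G) (i : A →* G) (j : B →* G) (v : G) (g : (ι ⊕ κ) ⊕ Unit → G), Pres g (r + s) ∧
      (∀ M : Subgroup G, (∀ x, i x ∈ M) → (∀ x, j x ∈ M) → v ∈ M → M = ⊤) ∧
      ∀ (Q : Type) [Group Q] (f : A →* Q) (f' : B →* Q) (w : Q), ∃ π : G →* Q, π.comp i = f ∧ π.comp j = f' ∧ π v = w := by
  obtain ⟨R, h1, h2, h3⟩ := ha.univ
  obtain ⟨R', k1, k2, k3⟩ := hb.univ
  let L : List (FreeGroup ((ι ⊕ κ) ⊕ Unit)) :=
    R.map (FreeGroup.lift fun x => .of (.inl (.inl x))) ++ R'.map (FreeGroup.lift fun x => .of (.inl (.inr x)))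
  have e : FreeGroup.lift (PresentedGroup.of (rels := {w | w ∈ L})) = PresentedGroup.mk _ := by
    ext i; simp [PresentedGroup.of]
  obtain ⟨i, hi⟩ := h3 (PresentedGroup {w | w ∈ L}) (fun x => .of (.inl (.inl x))) fun w hw => by
    have := PresentedGroup.one_of_mem (rels := {w | w ∈ L}) (List.mem_append_left _ (List.mem_map_of_mem hw))
    simpa only [← e, lift_lift, FreeGroup.lift_apply_of] using this
  obtain ⟨j, hj⟩ := k3 (PresentedGroup {w | w ∈ L}) (fun x => .of (.inl (.inr x))) fun w hw => by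
    have := PresentedGroup.one_of_mem (rels := {w | w ∈ L}) (List.mem_append_right _ (List.mem_map_of_mem hw))
    simpa only [← e, lift_lift, FreeGroup.lift_apply_of] using this
  refine ⟨_, inferInstance, i, j, .of (.inr ()), PresentedGroup.of, ⟨PresentedGroup.closure_range_of _, L,
    by simp only [L, List.length_append, List.length_map]; omega, ?_⟩, fun M m1 m2 m3 => ?_, fun Q _ f f' w => ?_⟩
  · rw [e]; ext w; rw [MonoidHom.mem_ker, PresentedGroup.mk_eq_one_iff]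
  · rw [eq_top_iff, ← PresentedGroup.closure_range_of, closure_le]
    rintro _ ⟨(x | x) | x, rfl⟩
    exacts [hi x ▸ m1 _, hj x ▸ m2 _, m3]
  · refine ⟨PresentedGroup.toGroup (f := Sum.elim (Sum.elim (fun x => f (a x)) fun x => f' (b x)) fun _ => w) ?_,
      MonoidHom.eq_of_eqOn_dense ha.1 ?_, MonoidHom.eq_of_eqOn_dense hb.1 ?_, PresentedGroup.toGroup.of _⟩
    · simp only [L, Set.mem_setOf_eq, List.forall_mem_append, List.forall_mem_map, lift_lift, FreeGroup.lift_apply_of,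
        Sum.elim_inl, Sum.elim_inr, ← map_lift]
      exact ⟨fun w hw => by rw [h2 w hw, map_one], fun w hw => by rw [k2 w hw, map_one]⟩
    · rintro _ ⟨x, rfl⟩; simp [hi]
    · rintro _ ⟨x, rfl⟩; simp [hj]

theorem pres_quot {ι G : Type} {Q : Type*} [Group G] [Group Q] {g : ι → G} {r : ℕ} (h : Pres g r) (π : G →* Q)
    (hπ : Function.Surjective π) (L : List G) (hL : ∀ x ∈ L, π x = 1)
    (hi : ∀ (H : Type) [Group H] (f : G →* H) (π' : H →* Q), Function.Surjective f → π'.comp f = π →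
      (∀ x ∈ L, f x = 1) → Function.Injective π') : Pres (fun i => π (g i)) (r + L.length) := by
  have hle : normalClosure {x | x ∈ L} ≤ π.ker := normalClosure_le_normal hL
  refine h.quot π hπ L (le_antisymm (fun x hx => ?_) hle)
  rw [← QuotientGroup.eq_one_iff]
  exact hi _ (QuotientGroup.mk' _) (QuotientGroup.lift _ π hle) (QuotientGroup.mk'_surjective _) rfl
    (fun x hx => (QuotientGroup.eq_one_iff _).2 (subset_normalClosure hx)) (by simpa using hx)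

theorem comm_closure {A B H : Type*} [Group A] [Group B] [Group H] (f : A →* H) (g : B →* H) {S : Set A} {T : Set B}
    (h : ∀ a ∈ S, ∀ b ∈ T, Commute (f a) (g b)) {a : A} (ha : a ∈ closure S) {b : B} (hb : b ∈ closure T) :
    Commute (f a) (g b) := by
  induction ha using closure_induction with
  | mem x hx =>
    induction hb using closure_induction with
    | mem y hy => exact h x hx y hy
    | one => simp
    | mul y z _ _ u v => rw [map_mul]; exact u.mul_right v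
    | inv y _ u => rw [map_inv]; exact u.inv_right
  | one => simp
  | mul y z _ _ u v => rw [map_mul]; exact u.mul_left v
  | inv y _ u => rw [map_inv]; exact u.inv_left

theorem perm_two_gen (α : Type) [Finite α] : ∃ a b : Perm α, closure {a, b} = ⊤ := by
  obtain ⟨n, ⟨e⟩⟩ := Finite.exists_equiv_fin α
  obtain ⟨g, hg⟩ := pres_of_final (S2284.result n).1
  have := (hg.equiv e.symm.permCongrHom).1
  rw [show ∀ f : Fin 2 → Perm α, Set.range f = {f 0, f 1} from fun f => by ext; simp [Fin.exists_fin_two, eq_comm]] at this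
  exact ⟨_, _, this⟩

theorem exists_fix_gen {α : Type} [Finite α] [DecidableEq α] (p : α → Prop) [DecidablePred p] : ∃ L : List (Perm α), L.length ≤ 2 ∧
    (∀ σ ∈ L, ∀ x, p x → σ x = x) ∧ ∀ σ : Perm α, (∀ x, p x → σ x = x) → σ ∈ closure {σ | σ ∈ L} := by
  obtain ⟨a, b, h⟩ := perm_two_gen {x // ¬ p x}
  refine ⟨[Perm.ofSubtype a, Perm.ofSubtype b], le_rfl, ?_, fun σ hσ => ?_⟩
  · simp only [List.mem_cons, List.not_mem_nil, or_false, forall_eq_or_imp, forall_eq]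
    exact ⟨fun x hx => Perm.ofSubtype_apply_of_not_mem _ (not_not.2 hx), fun x hx => Perm.ofSubtype_apply_of_not_mem _ (not_not.2 hx)⟩
  · have h1 : ∀ x, ¬ p (σ x) ↔ ¬ p x := fun x => not_congr ⟨fun h => by rwa [σ.injective (hσ _ h)] at h, fun h => by rwa [hσ _ h]⟩
    rw [← Perm.ofSubtype_subtypePerm h1 (fun x hx hp => hx (hσ x hp))]
    have := mem_map_of_mem Perm.ofSubtype (h ▸ mem_top (σ.subtypePerm h1))
    rw [MonoidHom.map_closure, Set.image_pair] at this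
    rw [show {σ | σ ∈ [Perm.ofSubtype a, Perm.ofSubtype b]} = {Perm.ofSubtype a, Perm.ofSubtype b} by ext; simp]
    convert this

variable {l : ℕ} {F : Type} [Field F] [Finite F]

theorem sp_pres {ι : Type} {p : ι → Perm (Fin (l + 2))} {r : ℕ} (hp : Pres p r) (L1 L2 : List (Perm (Fin (l + 2))))
    (a1 : ∀ σ ∈ L1, σ 0 = 0) (a2 : ∀ σ, σ 0 = 0 → σ ∈ closure {σ | σ ∈ L1})
    (a3 : ∀ σ ∈ L2, σ 0 = 0 ∧ σ 1 = 1) (a4 : ∀ σ, σ 0 = 0 → σ 1 = 1 → σ ∈ closure {σ | σ ∈ L2}) :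
    ∃ g : (ι ⊕ Fin 3) ⊕ Unit → SpG (l + 2) F,
      Pres g (r + 25 + 3 * L1.length + L2.length + if l = 0 then 0 else 6) := by
  obtain ⟨ζ, hζ⟩ := IsCyclic.exists_generator (α := Fˣ)
  obtain ⟨s, hs⟩ := sl2_pres9 (F := F) (MonoidHom.id _) Function.surjective_id (by simp)
  obtain ⟨R, hR, b1, b2⟩ := brel1.{0} (gen_one ζ hζ) (fun h => exists_pow_eq ζ hζ (sub_ne_zero.2 h))
    (orderOf (emb (0 : Fin (l + 2)) (D2 ζ)))
  choose f hf using gen_one ζ hζ
  obtain ⟨G0, _, i1, i2, v0, g0, hg0, gen0, univ0⟩ := exists_free hp hs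
  obtain ⟨π0, p1, p2, hv⟩ := univ0 _ (pm F) (emb 0) (X (.inl 0) (.inr 1) 1)
  let D0 : Dat l F G0 := ⟨i1, i2, fun t => pw v0 (i2 (D2 ζ)) (f t)⟩
  have hφ : ∀ σ, π0 (D0.φ σ) = pm F σ := DFunLike.congr_fun p1
  have hκ : ∀ σ, π0 (D0.κ σ) = emb 0 σ := DFunLike.congr_fun p2
  have act : ∀ a : F, emb (0 : Fin (l + 2)) (D2 ζ) * X (.inl 0) (.inr 1) a * (emb 0 (D2 ζ))⁻¹ = X (.inl 0) (.inr 1) (ζ * a) :=
    fun a => by rw [D_X _ _ (by simp)]; simp [ix, sg]
  have h0 : D0.map π0 = datSp l F := by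
    simp only [Dat.map, datSp, Dat.mk.injEq]
    refine ⟨p1, p2, funext fun t => ?_⟩
    refine (map_pw π0 _ _ _).trans ?_
    rw [hv, hκ]
    exact (pw_x X_add act _).trans (by rw [hf])
  have hy : ∀ a b t, a.swap ≠ b → π0 (D0.y a b t) = X a b t := fun a b t h => by rw [D0.map_y, h0, datSp_y h]
  have hk : ∀ i A, π0 (D0.k i A) = emb i A := fun i A => by rw [D0.map_k, h0, datSp_k]
  obtain ⟨v2, hv2⟩ := (csC (l + 2) F).c2 (.inl 0) (.inl 1) (.inl 0) (by simp [ix]) (by simp [ix]) (by simp) 1 1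
  obtain ⟨v3, w3, hv3⟩ := (csC (l + 2) F).c3 (.inl 0) (.inl 1) (by simp [ix]) 1 1
  choose v5 hv5 using fun h : 2 < l + 2 => (csC (l + 2) F).c2 (.inl 0) (.inl 1) (.inl ⟨2, h⟩) (by simp [ix])
    (by simp [ix, Fin.ext_iff]) (by simp) 1 1
  let c : G0 → G0 → G0 := fun a b => a * b * (b * a)⁻¹
  refine ⟨_, (pres_quot hg0 π0 ?_
    (R.map (FreeGroup.lift ![v0, D0.κ (D2 ζ)]) ++ L1.map (fun σ => c (D0.φ σ) (D0.κ (s 0))) ++
      L1.map (fun σ => c (D0.φ σ) (D0.κ (s 1))) ++ L1.map (fun σ => c (D0.φ σ) (D0.κ (s 2))) ++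
      L2.map (fun σ => c (D0.φ σ) (D0.x 1)) ++
      (if h : 2 < l + 2 then [c (D0.k ⟨2, h⟩ (s 0)) (D0.x 1), c (D0.k ⟨2, h⟩ (s 1)) (D0.x 1), c (D0.k ⟨2, h⟩ (s 2)) (D0.x 1),
        c (D0.y (.inl 0) (.inl 1) 1) (D0.y (.inl 0) (.inl ⟨2, h⟩) 1),
        D0.y (.inl 0) (.inl 1) 1 * D0.y (.inr 1) (.inl ⟨2, h⟩) 1 *
          (D0.y (.inr 1) (.inl ⟨2, h⟩) 1 * D0.y (.inl 0) (.inl 1) 1 * D0.y (.inl 0) (.inl ⟨2, h⟩) (v5 h))⁻¹] else []) ++
      (if h : 3 < l + 2 then [c (D0.y (.inl 0) (.inl 1) 1) (D0.y (.inl ⟨2, by omega⟩) (.inl ⟨3, h⟩) 1)] else []) ++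
      [c (D0.κ (s 0)) (D0.k 1 (s 0)), c (D0.κ (s 0)) (D0.k 1 (s 1)), c (D0.κ (s 0)) (D0.k 1 (s 2)),
        c (D0.κ (s 1)) (D0.k 1 (s 1)), c (D0.κ (s 1)) (D0.k 1 (s 2)), c (D0.κ (s 2)) (D0.k 1 (s 2)),
        c (D0.κ (D2 ζ) * D0.k 1 (D2 ζ)) (D0.x 1),
        D0.κ W2 * (D0.k 1 W2)⁻¹ * D0.x 1 * (D0.κ W2 * (D0.k 1 W2)⁻¹)⁻¹ * (D0.x1 1 0 1)⁻¹,
        c (D0.y (.inl 0) (.inl 0) 1) (D0.y (.inl 0) (.inl 1) 1),
        D0.y (.inl 0) (.inl 1) 1 * D0.y (.inr 1) (.inl 0) 1 *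
          (D0.y (.inr 1) (.inl 0) 1 * D0.y (.inl 0) (.inl 1) 1 * D0.y (.inl 0) (.inl 0) v2)⁻¹,
        D0.y (.inl 0) (.inl 1) 1 * D0.y (.inr 1) (.inr 1) 1 *
          (D0.y (.inr 1) (.inr 1) 1 * D0.y (.inl 0) (.inl 1) 1 * (D0.y (.inl 0) (.inr 1) v3 * D0.y (.inl 0) (.inl 0) w3))⁻¹,
        D0.φ (swap 0 1) * (D0.y (.inl 0) (.inr 1) 1 * D0.y (.inr 0) (.inl 1) (-1) * D0.y (.inl 0) (.inr 1) 1 *
          D0.κ (D2 (-1)))⁻¹]) ?_ ?_).mono ?_⟩
  · rw [← MonoidHom.range_eq_top]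
    exact X_induction fun a b t h => ⟨_, hy a b t h⟩
  · have hx : π0 (D0.x 1) = X (.inl 0) (.inr 1) 1 := congrFun (congrArg Dat.x h0) 1
    have hc : ∀ a b, Commute (π0 a) (π0 b) → π0 (c a b) = 1 := fun a b h => by
      simp only [c, map_mul, map_inv, mul_inv_eq_one]; exact h
    have e1 : ∀ σ ∈ L1, ∀ A, π0 (c (D0.φ σ) (D0.κ A)) = 1 := fun σ hσ A =>
      hc _ _ (by rw [hφ, hκ]; exact mul_inv_eq_iff_eq_mul.1 ((pm_emb σ 0 A).trans (by rw [a1 σ hσ])))
    have e2 : ∀ A B, π0 (c (D0.κ A) (D0.k 1 B)) = 1 := fun A B => hc _ _ (by rw [hk, hκ]; exact emb_comm (by simp) _ _)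
    have e3 : ∀ h : 2 < l + 2, ∀ A, π0 (c (D0.k ⟨2, h⟩ A) (D0.x 1)) = 1 := fun h A => hc _ _ (by
      rw [hk, hx]; exact emb_X_comm _ _ (by simp) (by simp [ix, Fin.ext_iff]) (by simp [ix, Fin.ext_iff]) _)
    have e4 : ∀ i j p q : Fin (l + 2), π0 (c (D0.y (.inl i) (.inl j) 1) (D0.y (.inl p) (.inl q) 1)) = 1 := fun i j p q =>
      hc _ _ (by rw [hy _ _ _ (by simp), hy _ _ _ (by simp)]; exact Y_far (by simp) (by simp) (by simp) (by simp) (by simp) _ _)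
    simp only [List.forall_mem_append, List.forall_mem_map, List.mem_dite_nil_right, List.mem_cons, List.not_mem_nil,
      or_false, forall_eq_or_imp, forall_eq, forall_exists_index, e2, e4, true_and]
    refine ⟨⟨⟨⟨⟨⟨⟨fun w hw => ?_, fun σ h => e1 σ h _⟩, fun σ h => e1 σ h _⟩, fun σ h => e1 σ h _⟩, fun σ h => hc _ _ ?_⟩,
      ?_⟩, ?_⟩, hc _ _ ?_, ?_, ?_, ?_, ?_⟩
    · rw [map_lift, ← b1 _ _ _ X_add act (pow_orderOf_eq_one _) w hw]
      congr 2; funext i; fin_cases i; exacts [hv, hκ _]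
    · rw [hx, hφ]
      exact mul_inv_eq_iff_eq_mul.1 ((pm_X σ (by simp) 1).trans (by rw [hat_inl, hat_inr, (a3 σ h).1, (a3 σ h).2]))
    · rintro x h (rfl | rfl | rfl | rfl | rfl)
      exacts [e3 h _, e3 h _, e3 h _, e4 .., by
        simp only [map_mul, map_inv, mul_inv_eq_one]
        rw [hy _ _ _ (by simp), hy _ _ _ (by simp [Fin.ext_iff]), hy _ _ _ (by simp)]; exact hv5 h]
    · rintro x h rfl; exact e4 ..
    · rw [map_mul, hx, hk, hκ]
      refine mul_inv_eq_iff_eq_mul.1 ?_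
      rw [show ∀ a b x : SpG (l + 2) F, a * b * x * (a * b)⁻¹ = a * (b * x * b⁻¹) * a⁻¹ by intros; group,
        D_X _ _ (by simp), D_X _ _ (by simp)]
      simp [ix, sg]
    · simp only [map_mul, map_inv, mul_inv_eq_one, hk, hκ, hx, D0.map_x1, h0]
      rw [datSp_x1 (by simp), X_symm (.inl 1), show ∀ a b x y : SpG (l + 2) F, a * b⁻¹ * x * (a * b⁻¹)⁻¹ = y ↔
        b⁻¹ * x * b = a⁻¹ * y * a from fun a b x y => ⟨fun h => by rw [← h]; group, fun h => by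
          rw [show y = a * (a⁻¹ * y * a) * a⁻¹ by group, ← h]; group⟩, W_X _ (by simp), W_X _ (by simp)]
      simp [flip, ix, sg, eps]
    · simp only [map_mul, map_inv, mul_inv_eq_one]
      rw [hy _ _ _ (by simp), hy _ _ _ (by simp), hy _ _ _ (by simp)]; exact hv2
    · simp only [map_mul, map_inv, mul_inv_eq_one]
      rw [hy _ _ _ (by simp), hy _ _ _ (by simp), hy _ _ _ (by simp), hy _ _ _ (by simp)]; exact hv3
    · simp only [map_mul, map_inv, mul_inv_eq_one]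
      rw [hy _ _ _ (by simp), hy _ _ _ (by simp), hφ, hκ]; exact pm_swap (by simp)
  · intro H _ φ π hφ hπ hL
    have hc : ∀ a b, φ (c a b) = 1 ↔ Commute (φ a) (φ b) := fun a b => by
      simp only [c, map_mul, map_inv, mul_inv_eq_one]; rfl
    simp only [List.forall_mem_append, List.forall_mem_map, List.mem_dite_nil_right, List.mem_cons, List.not_mem_nil,
      or_false, forall_eq_or_imp, forall_eq, forall_exists_index, hc, map_mul, map_inv, mul_inv_eq_one, D0.map_k,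
      D0.map_y, D0.map_x1] at hL
    obtain ⟨⟨⟨⟨⟨⟨⟨r0, r1⟩, r2⟩, r3⟩, r4⟩, r5⟩, r6⟩, s1, s2, s3, s4, s5, s6, s7, s8, s9, s10, s11, s12⟩ := hL
    obtain ⟨-, x, hx, x1, ht, hp⟩ := b2 H (φ v0) (φ (D0.κ (D2 ζ))) fun w hw => by
      rw [← r0 w hw, map_lift]
      congr 2; funext i; fin_cases i <;> rfl
    have ex : (D0.map φ).x = x := funext fun t => (map_pw φ _ _ _).trans ((hp _).symm.trans (by rw [hf]))
    have hs' : ∀ A, A ∈ closure (Set.range s) := fun A => hs.1 ▸ mem_top A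
    have hx' : ∀ {g : SL(2, F) →* H} {z : H}, (∀ i, Commute (g (s i)) z) → ∀ A, Commute (g A) z := fun {g z} h A =>
      comm_closure g (MonoidHom.id H) (T := {z}) (by rintro _ ⟨i, rfl⟩ _ rfl; exact h i) (hs' A) (subset_closure rfl)
    refine Rel2.inj (D := D0.map φ) (ζ := ζ) ⟨⟨‹_›, hζ, fun σ h A => ?_, fun A B => ?_, ex ▸ hx, ex ▸ ht, fun σ h h' => ?_,
      fun h => hx' fun i => ?_, s7, s8⟩, ?_, s9, ⟨_, s10⟩, ⟨_, _, s11⟩, fun h => ?_, fun h => ⟨v5 h, ?_⟩, fun h => ?_, s12,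
      fun M m1 m2 m3 => ?_⟩
    · refine comm_closure _ _ ?_ (a2 σ h) (hs' A)
      rintro σ hσ _ ⟨i, rfl⟩
      fin_cases i; exacts [r1 σ hσ, r2 σ hσ, r3 σ hσ]
    · have sy : ∀ A B, Commute ((D0.map φ).κ A) ((D0.map φ).k 1 B) → Commute ((D0.map φ).κ B) ((D0.map φ).k 1 A) := by
        intro A B h
        have := (commute_conj h ((D0.map φ).φ (swap 0 1))).symm
        rwa [← Dat.k_apply, Dat.k_apply, show ∀ g b : H, g * (g * b * g⁻¹) * g⁻¹ = (g * g) * b * (g * g)⁻¹ by intros; group,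
          ← map_mul, Equiv.swap_mul_self, map_one, one_mul, inv_one, mul_one] at this
      refine comm_closure _ _ ?_ (hs' A) (hs' B)
      rintro _ ⟨i, rfl⟩ _ ⟨j, rfl⟩
      fin_cases i <;> fin_cases j
      exacts [s1, s2, s3, sy _ _ s2, s4, s5, sy _ _ s3, sy _ _ s5, s6]
    · exact comm_closure _ (MonoidHom.id H) (T := {(D0.map φ).x 1}) (by rintro σ hσ _ rfl; exact r4 σ hσ) (a4 σ h h')
        (subset_closure rfl)
    · rw [← D0.map_k]
      fin_cases i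
      exacts [(hc _ _).1 (r5 _ h (by simp)), (hc _ _).1 (r5 _ h (by simp)), (hc _ _).1 (r5 _ h (by simp))]
    · rw [← h0, ← hπ]; rfl
    · rw [← D0.map_y, ← D0.map_y]; exact (hc _ _).1 (r5 _ h (by simp))
    · simpa only [map_mul, map_inv, mul_inv_eq_one, D0.map_y, Sum.swap_inl] using r5 _ h (Or.inr (Or.inr (Or.inr (Or.inr rfl))))
    · rw [← D0.map_y, ← D0.map_y]; exact (hc _ _).1 (r6 _ h rfl)
    · rw [ex, x1] at m3
      have := (gen0 (M.comap φ) m1 m2 m3).ge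
      rw [eq_top_iff]
      intro g _
      obtain ⟨g, rfl⟩ := hφ g
      exact this (mem_top g)
  · simp only [List.length_append, List.length_map, List.length_cons, List.length_nil]
    split_ifs <;> simp only [List.length_cons, List.length_nil] <;> omega

theorem sp_pres' (n : ℕ) (hn : 2 ≤ n) :
    ∃ g : (Fin 2 ⊕ Fin 3) ⊕ Unit → SpG n F, Pres g (if n = 2 then 33 else 47) := by
  obtain ⟨l, rfl⟩ := Nat.exists_eq_add_of_le' hn
  obtain ⟨p, hp⟩ := pres_of_final (S2284.result (l + 2)).1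
  rcases l with _ | l
  · exact sp_pres hp [] [] (by simp) (by
      have : ∀ σ : Perm (Fin 2), σ 0 = 0 → σ = 1 := by decide
      exact fun σ h => this σ h ▸ one_mem _) (by simp) (by
      have : ∀ σ : Perm (Fin 2), σ 0 = 0 → σ = 1 := by decide
      exact fun σ h _ => this σ h ▸ one_mem _)
  · obtain ⟨L1, a1, a2, a3⟩ := exists_fix_gen (fun x : Fin (l + 1 + 2) => x = 0)
    obtain ⟨L2, b1, b2, b3⟩ := exists_fix_gen (fun x : Fin (l + 1 + 2) => x = 0 ∨ x = 1)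
    obtain ⟨g, hg⟩ := sp_pres (F := F) hp L1 L2 (fun σ h => a2 σ h 0 rfl) (fun σ h => a3 σ (by simpa using h))
      (fun σ h => ⟨b2 σ h 0 (by simp), b2 σ h 1 (by simp)⟩) (fun σ h h' => b3 σ (by simp [h, h']))
    exact ⟨g, hg.mono (by simp; omega)⟩

theorem sp_psp_pres (K : Type*) [Field K] [Finite K] (n : ℕ) (hn : 2 ≤ n) :
    (∃ g : (Fin 2 ⊕ Fin 3) ⊕ Unit → Matrix.symplecticGroup (Fin n) K, Pres g (if n = 2 then 33 else 47)) ∧
      ∃ g : (Fin 2 ⊕ Fin 3) ⊕ Unit → PSp n K, Pres g ((if n = 2 then 33 else 47) + 1) := by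
  obtain ⟨F, _, _, ⟨e⟩⟩ := exists_small_field K
  obtain ⟨g, hg⟩ := sp_pres' (F := F) n hn
  have h := (hg.equiv (spEquiv _ F).symm).equiv (spCongr _ e.symm)
  refine ⟨⟨_, h⟩, ?_⟩
  haveI : Nonempty (Fin n) := ⟨⟨0, by omega⟩⟩
  haveI : IsCyclic (center (Matrix.symplecticGroup (Fin n) K)) := by
    have h1 := card_center_sp (F := K) (l := Fin n)
    rcases (Nat.dvd_prime Nat.prime_two).1 (Nat.gcd_dvd_left 2 (Nat.card K - 1)) with e | e <;> rw [e] at h1
    · haveI := (Nat.card_eq_one_iff_unique.1 h1).1; infer_instance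
    · exact isCyclic_of_prime_card h1
  obtain ⟨z, hz⟩ := IsCyclic.exists_generator (α := center (Matrix.symplecticGroup (Fin n) K))
  refine ⟨_, h.quot (QuotientGroup.mk' (center _)) (QuotientGroup.mk'_surjective _) [z.1] ?_⟩
  rw [QuotientGroup.ker_mk']
  refine le_antisymm (fun x hx => ?_) (normalClosure_le_normal (by simp))
  obtain ⟨k, e⟩ := hz ⟨x, hx⟩
  rw [show x = z.1 ^ k from (congrArg Subtype.val e).symm]
  exact zpow_mem (subset_normalClosure (by simp)) _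

end Cfsg.Agent.H6.Sp
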