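import Cfsg.Agent.H6.SpR
import Cfsg.Agent.H12.SBridge
import Cfsg.Agent.H14.Lift2

/-! The root subgroups of the symplectic group and Steinberg's theorem for it. -/

set_option autoImplicit false

namespace Cfsg.Agent.H6.Sp

open Cfsg.Agent.H14 Cfsg.Agent.H28 Cfsg.Agent.H12 Matrix

variable {n : ℕ} {K : Type*} [Field K] {G : Type*} [Group G]

/-- root elements of type C with the weak commutator relations -/
structure CS (n : ℕ) (K : Type*) [Field K] (G : Type*) [Group G] where
  y : Idx n → Idx n → K → G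
  symm : ∀ a b, y a b = y b a
  add : ∀ a b, a.swap ≠ b → ∀ t u, y a b (t + u) = y a b t * y a b u
  far : ∀ a b c d, a.swap ≠ b → c.swap ≠ d → a.swap ≠ c → a.swap ≠ d → b.swap ≠ c → b.swap ≠ d →
    ∀ t u, Commute (y a b t) (y c d u)
  c2 : ∀ a b c, ix a ≠ ix b → ix b ≠ ix c → a.swap ≠ c → ∀ u t,
    ∃ v, y a b u * y b.swap c t = y b.swap c t * y a b u * y a c v
  c3 : ∀ a b, ix a ≠ ix b → ∀ u t,
    ∃ v w, y a b u * y b.swap b.swap t = y b.swap b.swap t * y a b u * (y a b.swap v * y a a w)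

/-- the root elements -/
def CS.x (C : CS n K G) (r : ΦC n) : K → G := Sym2.lift ⟨C.y, C.symm⟩ r.1

theorem CS.x_rt (C : CS n K G) (a b : Idx n) (h : a.swap ≠ b) : C.x (rt a b h) = C.y a b := rfl

/-- the system of root elements -/
noncomputable def CS.rg0 (C : CS n K G) : RG0 (rsC n) K G where
  x := C.x
  x_add r := by induction r using rt_ind with | h a b hab => exact C.add a b hab
  comm r s h1 h2 := by
    let P : ΦC n → ΦC n → Prop := fun r s => ∀ t u,
      (C.x s u)⁻¹ * (C.x r t)⁻¹ * C.x s u * C.x r t ∈ genX C.x ((rsC n).comb r s)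
    have sy : ∀ r s, P r s → P s r := fun r s h t u => by
      have := inv_mem (h u t)
      rw [RS.comb_comm] at this
      simpa [mul_assoc] using this
    have e : ∀ a b z : G, a⁻¹ * b⁻¹ * (b * a * z) = z := fun a b z => by group
    have k3 : ∀ a b : Idx n, ix a ≠ ix b → ∀ h h', P (rt b.swap b.swap h) (rt a b h') := fun a b hab h h' t u => by
      obtain ⟨v, w, hv⟩ := C.c3 a b hab u t
      rw [C.x_rt, C.x_rt, mul_assoc, hv, e]
      refine mul_mem (Subgroup.subset_closure ⟨rt a b.swap (neD hab).2.2.2.1, mem_comb 1 1 one_pos one_pos ?_, v, rfl⟩)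
        (Subgroup.subset_closure ⟨rt a a (swap_ne a), mem_comb 1 2 one_pos two_pos ?_, w, rfl⟩) <;>
        simp only [EC_vec, εD_swap] <;> module
    have key : ∀ a b d : Idx n, ∀ h h', rt a b h' ≠ (rsC n).neg (rt b.swap d h) → P (rt b.swap d h) (rt a b h') := by
      intro a b d h h' h2
      have hd : a.swap ≠ d := by
        rintro rfl
        exact h2 (Subtype.ext (by rw [negC]; simp))
      by_cases c1 : a = b
      · subst c1
        have := k3 d a.swap (ix_ne hd.symm (swap_ne_comm.1 h)) (swap_ne _) (swap_ne_comm.1 h)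
        refine sy _ _ ?_
        rw [rt_comm a.swap d]
        simpa only [Sum.swap_swap] using this
      by_cases c2 : d = b.swap
      · subst c2; exact k3 a b (ix_ne c1 h') _ _
      intro t u
      obtain ⟨v, hv⟩ := C.c2 a b d (ix_ne c1 h') (ix_ne (by simpa using h) (Ne.symm c2)) hd u t
      rw [C.x_rt, C.x_rt, mul_assoc, hv, e]
      refine Subgroup.subset_closure ⟨rt a d hd, mem_comb 1 1 one_pos one_pos ?_, v, rfl⟩
      simp only [EC_vec, εD_swap]; module
    change P r s
    induction r using rt_ind with | h c d hcd => ?_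
    induction s using rt_ind with | h a b hab => ?_
    by_cases c1 : b.swap = c
    · subst c1; exact key a b d _ _ h2
    by_cases c2 : b.swap = d
    · subst c2; rw [rt_comm c] at h2 ⊢; exact key a b c _ _ h2
    by_cases c3 : a.swap = c
    · subst c3; rw [rt_comm a] at h2 ⊢; exact key b a d _ _ h2
    by_cases c4 : a.swap = d
    · subst c4; rw [rt_comm a, rt_comm c] at h2 ⊢; exact key b a c _ _ h2
    intro t u
    rw [C.x_rt, C.x_rt, mul_assoc, (C.far a b c d hab hcd c3 c4 c1 c2 u t).eq]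
    simp [mul_assoc]

/-- the symplectic group -/
abbrev SpG (n : ℕ) (K : Type*) [Field K] : Type _ := UG (spB (Fin n) K)

/-- the basis vectors -/
abbrev ee (a : Idx n) : Idx n → K := Pi.single a 1

theorem B_ee (a : Idx n) (v : Idx n → K) : spB (Fin n) K (ee a) v = -(sg a * v a.swap) := by
  cases a
  · simp [spB_single_inl, sg]
  · simp [spB_single_inr, sg]

theorem B_self (v : Idx n → K) : spB (Fin n) K v v = 0 := by simp [spB_apply', mul_comm]

theorem B_skew (u v : Idx n → K) : spB (Fin n) K u v = -spB (Fin n) K v u := sd_spB.skew v u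

theorem adm {e u : Idx n → K} (h : spB (Fin n) K e u = 0) (c : K) : Adm (spB (Fin n) K) e u c :=
  ⟨B_self e, h, by simp [B_self]⟩

theorem adm_ee {a b : Idx n} (h : a.swap ≠ b) (t c : K) : Adm (spB (Fin n) K) (ee a) (t • ee b) c :=
  adm (by simp [B_ee, h]) c

/-- unnormalised root elements -/
noncomputable def Y (a b : Idx n) (t : K) : SpG n K :=
  if a = b then tv _ (ee a) t else if a.swap = b then 1 else rho _ (ee a) (t • ee b) 0

theorem Y_self (a : Idx n) (t : K) : Y a a t = tv _ (ee a) t := if_pos rfl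

theorem Y_ne {a b : Idx n} (h : ix a ≠ ix b) (t : K) : Y a b t = rho _ (ee a) (t • ee b) 0 := by
  rw [Y, if_neg (neD h).1, if_neg (neD h).2.2.1]

theorem Y_self_apply (a : Idx n) (t : K) (v : Idx n → K) :
    (Y a a t).1 v = v - (t * sg a * v a.swap) • ee a := by
  rw [Y_self, tv_apply sd_spB (B_self _) rfl, B_ee]; module

theorem Y_apply {a b : Idx n} (h : ix a ≠ ix b) (t : K) (v : Idx n → K) :
    (Y a b t).1 v = v - (t * sg a * v a.swap) • ee b - (t * sg b * v b.swap) • ee a := by
  rw [Y_ne h, rho_apply sd_spB (adm_ee (neD h).2.2.1 t 0)]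
  simp only [LinearMap.map_smulₛₗ, LinearMap.smul_apply, B_ee, RingHom.id_apply, smul_eq_mul]
  module

theorem Y_symm (a b : Idx n) : (Y a b : K → SpG n K) = Y b a := by
  funext t
  by_cases h1 : a = b
  · rw [h1]
  by_cases h2 : a.swap = b
  · rw [Y, Y, if_neg h1, if_neg (Ne.symm h1), if_pos h2, if_pos (by rw [← h2, Sum.swap_swap])]
  exact UG_ext fun v => by rw [Y_apply (ix_ne h1 h2), Y_apply (ix_ne h1 h2).symm]; abel

theorem Y_add (a b : Idx n) (t u : K) : Y a b (t + u) = Y a b t * Y a b u := by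
  by_cases h1 : a = b
  · rw [h1, Y_self, Y_self, Y_self, tv_mul sd_spB (B_self _) rfl rfl]
  by_cases h2 : a.swap = b
  · simp [Y, h1, h2]
  have h := ix_ne h1 h2
  rw [Y_ne h, Y_ne h, Y_ne h, rho_mul sd_spB (adm_ee h2 _ _) (adm_ee h2 _ _), add_smul]
  simp [B_self]

theorem Y_fix {a b : Idx n} {v : Idx n → K} (h1 : v a.swap = 0) (h2 : v b.swap = 0) (t : K) : (Y a b t).1 v = v := by
  unfold Y
  split_ifs
  · exact tv_apply_of_perp sd_spB _ (by simp [B_ee, h1])
  · rfl
  · exact rho_apply_of_perp sd_spB _ (by simp [B_ee, h1]) (by simp [B_ee, h2])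

theorem conj_Y {g : SpG n K} {a b a' b' : Idx n} {c d : K} (ha : g.1 (ee a) = c • ee a') (hb : g.1 (ee b) = d • ee b')
    (h : a.swap ≠ b) (h' : a'.swap ≠ b') (e : a = b ↔ a' = b') (t : K) : g * Y a b t * g⁻¹ = Y a' b' (c * d * t) := by
  by_cases h1 : a = b
  · obtain rfl := e.1 h1
    subst h1
    have : c = d := by simpa using congrFun (ha.symm.trans hb) a'
    rw [Y_self, Y_self, conj_tv sd_spB, ha, tv_smul sd_spB (B_self _) rfl, this, mul_comm]; rfl
  · rw [Y_ne (ix_ne h1 h), Y_ne (ix_ne (fun h => h1 (e.2 h)) h'), conj_rho sd_spB, ha, map_smul, hb, smul_smul,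
      rho_smul sd_spB (adm_ee h' _ _), smul_smul, zero_mul]
    congr 2
    simp; ring

theorem Y_far {a b c d : Idx n} (h : c.swap ≠ d) (h1 : a.swap ≠ c) (h2 : a.swap ≠ d) (h3 : b.swap ≠ c) (h4 : b.swap ≠ d)
    (t u : K) : Commute (Y a b t) (Y c d u) := by
  have := conj_Y (g := Y a b t) (a := c) (b := d) (a' := c) (b' := d) (c := 1) (d := 1)
    (by rw [one_smul]; exact Y_fix (by simp [h1]) (by simp [h3]) t)
    (by rw [one_smul]; exact Y_fix (by simp [h2]) (by simp [h4]) t) h h Iff.rfl u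
  rw [one_mul, one_mul] at this
  exact mul_inv_eq_iff_eq_mul.1 this

theorem Y_c2 {a b c : Idx n} (h1 : ix a ≠ ix b) (h2 : ix b ≠ ix c) (h3 : ix a ≠ ix c) (u t : K) :
    Y a b u * Y b.swap c t = Y b.swap c t * Y a b u * Y a c (-(u * t * sg b)) := UG_ext fun v => by
  obtain ⟨a1, a2, a3, a4, a5, a6, a7, a8, a9, a10, a11, a12⟩ := neD h1
  obtain ⟨b1, b2, b3, b4, b5, b6, b7, b8, b9, b10, b11, b12⟩ := neD h2
  obtain ⟨c1, c2, c3, c4, c5, c6, c7, c8, c9, c10, c11, c12⟩ := neD h3
  have := sg_cast (K := K) b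
  simp only [UG_mul_apply, Y_apply h1, Y_apply h3, Y_apply (a := b.swap) (b := c) (by simpa using h2)]
  simp [*]
  match_scalars <;> grind

theorem Y_c2' {a b : Idx n} (h1 : ix a ≠ ix b) (u t : K) :
    Y a b u * Y b.swap a t = Y b.swap a t * Y a b u * Y a a (-(2 * u * t * sg b)) := UG_ext fun v => by
  obtain ⟨a1, a2, a3, a4, a5, a6, a7, a8, a9, a10, a11, a12⟩ := neD h1
  have := sg_cast (K := K) b
  simp only [UG_mul_apply, Y_apply h1, Y_self_apply, Y_apply (a := b.swap) (b := a) (by simpa using h1.symm)]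
  simp [*]
  match_scalars <;> grind

theorem Y_c3 {a b : Idx n} (h1 : ix a ≠ ix b) (u t : K) :
    Y a b u * Y b.swap b.swap t = Y b.swap b.swap t * Y a b u * (Y a b.swap (-(u * t * sg b)) * Y a a (-(t * u ^ 2))) :=
  UG_ext fun v => by
  obtain ⟨a1, a2, a3, a4, a5, a6, a7, a8, a9, a10, a11, a12⟩ := neD h1
  have := sg_cast (K := K) b
  simp only [UG_mul_apply, Y_apply h1, Y_self_apply, Y_apply (a := a) (b := b.swap) (by simpa using h1)]
  simp [*]
  match_scalars <;> grind

/-- the normalising sign -/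
def eps : Idx n → Idx n → ℤ
  | .inl _, .inl _ => -1
  | _, _ => 1

theorem eps_comm (a b : Idx n) : eps a b = eps b a := by cases a <;> cases b <;> rfl
theorem eps_swap (a b : Idx n) : eps a.swap b.swap = -(sg a * sg b * eps a b) := by cases a <;> cases b <;> rfl
theorem eps_or (a b : Idx n) : eps a b = 1 ∨ eps a b = -1 := by cases a <;> cases b <;> simp [eps]
theorem eps_cast (a b : Idx n) : (eps a b : K) * eps a b = 1 := by rcases eps_or a b with h | h <;> simp [h]

/-- the root elements -/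
noncomputable def X (a b : Idx n) (t : K) : SpG n K := Y a b (eps a b * t)

theorem Y_eq (a b : Idx n) (t : K) : Y a b t = X a b (eps a b * t) := by rw [X, ← mul_assoc, eps_cast, one_mul]

variable (n K)

/-- the root elements of the symplectic group -/
noncomputable def csC : CS n K (SpG n K) where
  y := X
  symm a b := by funext t; rw [X, X, Y_symm, eps_comm]
  add a b _ t u := by rw [X, mul_add, Y_add]; rfl
  far _ _ _ _ _ h h1 h2 h3 h4 _ _ := Y_far h h1 h2 h3 h4 _ _
  c2 a b c h1 h2 h3 u t := by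
    by_cases h : a = c
    · subst h; exact ⟨_, by rw [X, X, Y_c2' h1, Y_eq a a]⟩
    · exact ⟨_, by rw [X, X, Y_c2 h1 h2 (ix_ne h h3), Y_eq a c]⟩
  c3 a b h u t := ⟨_, _, by rw [X, X, Y_c3 h, Y_eq a a, Y_eq a b.swap]⟩

variable {n K}

/-- the signs of the monomial element -/
def δC' (x y z : Idx n) : ℤ := if z = x then eps x y * sg y else if z = y then eps x y * sg x else
  if z = x.swap then -(eps x y * sg x) else if z = y.swap then -(eps x y * sg y) else 1

theorem nC_single {x y : Idx n} (h : x.swap ≠ y) {t : K} (ht : t ≠ 0) (z : Idx n) :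
    ((csC n K).rg0.n (rt x y h) t).1 (ee z) = ((δC' x y z : K) * t ^ (-pC x y z)) • ee (σC x y z) := by
  change (Y x y (eps x y * t)).1 ((Y x.swap y.swap (eps x.swap y.swap * -t⁻¹)).1 ((Y x y (eps x y * t)).1 _)) = _
  have h1 := sg_cast (K := K) x
  have h3 := sg_cast (K := K) y
  have h4 := eps_cast (K := K) x y
  rw [eps_swap]
  by_cases e : x = y
  · subst e
    have a1 := swap_ne x
    have a2 := a1.symm
    simp only [Y_self_apply, σC, pC, δC', if_true]
    by_cases b1 : z = x
    · subst b1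
      simp [ip, *]
      match_scalars <;> field_simp <;> grind
    by_cases b2 : z = x.swap
    · subst b2
      simp [ip, *]
      match_scalars <;> field_simp <;> grind
    · rw [Equiv.swap_apply_of_ne_of_ne b1 b2]
      simp [ip, b1, b2, Ne.symm b1, Ne.symm b2, (swap_ne_comm.1 (Ne.symm b2)).symm]
  have h2 := ix_ne e h
  obtain ⟨a1, a2, a3, a4, a5, a6, a7, a8, a9, a10, a11, a12⟩ := neD h2
  simp only [Y_apply h2, Y_apply (a := x.swap) (b := y.swap) (by simpa using h2), σC, pC, if_neg e]
  rcases σD_cases h2 z with ⟨rfl, e⟩ | ⟨rfl, e⟩ | ⟨rfl, e⟩ | ⟨rfl, e⟩ | ⟨b1, b2, b3, b4, e⟩ <;> simp only [e]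
  iterate 4
    simp [ip, δC', *]
    match_scalars <;> field_simp <;> grind
  simp [ip, δC', b1.symm, b2.symm, b3.symm, b4.symm, eq_comm (b := z.swap), H28.swap_eq_iff, b1, b2, b3, b4]

theorem δC'_comm {x y : Idx n} (h : x.swap ≠ y) (z : Idx n) : δC' x y z = δC' y x z := by
  by_cases e : x = y
  · rw [e]
  have := neD (ix_ne e h)
  simp only [δC', eps_comm y x]
  grind

theorem δC'_or (x y z : Idx n) : δC' x y z = 1 ∨ δC' x y z = -1 := by
  have := sg_or x
  have := sg_or y
  have := eps_or x y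
  simp only [δC']
  grind

theorem δC'_swap {x y : Idx n} (h : x.swap ≠ y) (z : Idx n) : δC' x y z.swap = δC' x y z * sg z * sg (σC x y z) := by
  have := sg_or x
  have := sg_or y
  have := sg_or z
  have := sg_swap x
  have := sg_swap y
  by_cases e : x = y
  · subst e
    have := swap_ne x
    simp only [δC', σC, if_true, Equiv.swap_apply_def]
    grind [H28.swap_eq_iff, swap_inj, Sum.swap_swap]
  have := neD (ix_ne e h)
  have := σD_cases (ix_ne e h) z
  simp only [δC', σC, if_neg e]
  grind [H28.swap_eq_iff, swap_inj, Sum.swap_swap]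

/-- the signs of the monomial element of a root -/
def δR (r : ΦC n) (z : Idx n) : ℤ :=
  Sym2.lift ⟨fun x y => if x.swap = y then 1 else δC' x y z, fun x y => by
    beta_reduce
    by_cases h : x.swap = y
    · rw [if_pos h, if_pos (by rw [← h, Sum.swap_swap])]
    · rw [if_neg h, if_neg (swap_ne_comm.1 h), δC'_comm h]⟩ r.1

theorem δR_rt (x y : Idx n) (h : x.swap ≠ y) (z : Idx n) : δR (rt x y h) z = δC' x y z := if_neg h

theorem conj_X {g : SpG n K} {w : Idx n → Idx n} (hw : Function.Injective w) {c : Idx n → K}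
    (hg : ∀ z, g.1 (ee z) = c z • ee (w z)) {a b : Idx n} (h : a.swap ≠ b) (h' : (w a).swap ≠ w b) (t : K) :
    g * X a b t * g⁻¹ = X (w a) (w b) (c a * c b * eps a b * eps (w a) (w b) * t) := by
  rw [X, conj_Y (hg a) (hg b) h h' hw.eq_iff.symm, Y_eq]
  congr 1; ring

variable (n K)

/-- the natural representation -/
noncomputable def grC : Graded (csC n K).rg0 (Idx n) where
  ρ := { toFun g := LinearMap.toMatrix' g.1.toLinearMap
         map_one' := LinearMap.toMatrix'_id
         map_mul' a b := LinearMap.toMatrix'_comp a.1.toLinearMap b.1.toLinearMap }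
  inj := fun _ _ h => Subtype.ext (LinearEquiv.toLinearMap_injective (LinearMap.toMatrix'.injective h))
  ν := νC
  x_deg r t a b h := by
    induction r using rt_ind with | h x y hxy => ?_
    by_contra h0
    refine h ?_
    have a1 : ¬ (a = x ∧ y.swap = b) := by rintro ⟨rfl, rfl⟩; exact h0 (vec_rt _ _ _).symm
    have a2 : ¬ (a = y ∧ x.swap = b) := by rintro ⟨rfl, rfl⟩; exact h0 (by rw [rt_comm, vec_rt])
    change (Y x y (eps x y * t)).1 (Pi.single b 1) a - (1 : Matrix _ _ K) a b = 0
    by_cases e : x = y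
    · subst e
      simp [Y_self_apply, Matrix.one_apply, Pi.single_apply]
      split_ifs <;> simp_all
    · simp [Y_apply (ix_ne e hxy), Matrix.one_apply, Pi.single_apply]
      split_ifs <;> simp_all
  h_diag r t ht a b hab := by
    induction r using rt_ind with | h x y hxy => ?_
    change ((csC n K).rg0.n _ t).1 (((csC n K).rg0.n _ (-1)).1 (ee b)) a = 0
    rw [nC_single hxy (by simp), map_smul, nC_single hxy ht, σC_σC hxy]
    simp [hab]
  entry r := by
    induction r using rt_ind with | h x y hxy => ?_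
    refine ⟨x, y.swap, -(eps x y * sg y), (vec_rt _ _ _).symm, fun t => ?_⟩
    have h1 := sg_cast (K := K) y
    have h2 := eps_cast (K := K) x y
    change _ * (Y x y (eps x y * t)).1 (Pi.single _ 1) _ = t
    by_cases e : x = y
    · subst e
      simp [Y_self_apply, (swap_ne x).symm]
      grind
    · have := neD (ix_ne e hxy)
      simp [Y_apply (ix_ne e hxy), this]
      grind

/-- the root subgroup system of the symplectic group -/
noncomputable def rgC : RG (rsC n) K (SpG n K) := (grC n K).rg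
  (fun r s => Sym2.lift ⟨fun a b => δR r a * δR r b * eps a b * eps (σR r a) (σR r b), fun a b => by
    simp only [eps_comm a b, eps_comm (σR r a), mul_comm (δR r a)]⟩ s.1)
  (fun r s => by
    induction r using rt_ind with | h x y hxy => ?_
    induction s using rt_ind with | h a b hab => ?_
    have key : ∀ a b : ℤ, (a = 1 ∨ a = -1) → (b = 1 ∨ b = -1) → a * b = 1 ∨ a * b = -1 := by
      rintro _ _ (rfl | rfl) (rfl | rfl) <;> simp
    simp only [Sym2.lift_mk, δR_rt]
    exact key _ _ (key _ _ (key _ _ (δC'_or ..) (δC'_or ..)) (eps_or ..)) (eps_or ..))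
  (fun r s => by
    induction r using rt_ind with | h x y hxy => ?_
    induction s using rt_ind with | h a b hab => ?_
    simp only [negC, Sym2.lift_mk, δR_rt, σR_rt, σC_swap hxy, δC'_swap hxy, eps_swap]
    have := sg_or a
    have := sg_or b
    have := sg_or (σC x y a)
    have := sg_or (σC x y b)
    grind)
  (fun r => by
    induction r using rt_ind with | h x y hxy => ?_
    have a1 : σC x y x = y.swap ∧ σC x y y = x.swap := by
      unfold σC; split_ifs with e
      · simp [e]
      · have := σD_cases (ix_ne e hxy) x; have := σD_cases (ix_ne e hxy) y; have := neD (ix_ne e hxy); grind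
    simp only [Sym2.lift_mk, δR_rt, σR_rt, a1, eps_swap, eps_comm y x, δC']
    have := sg_or x
    have := sg_or y
    have := eps_or x y
    grind)
  (fun r s t ht u => by
    induction r using rt_ind with | h x y hxy => ?_
    induction s using rt_ind with | h a b hab => ?_
    rw [reflC, pairC]
    simp only [Sym2.lift_mk, δR_rt, σR_rt]
    refine (conj_X (σC x y).injective (nC_single hxy ht) hab (σC_rt hxy a b hab) u).trans ?_
    change X _ _ _ = X _ _ _
    congr 1
    rw [neg_add (pC _ _ _), zpow_add₀ ht]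
    push_cast
    ring)

theorem rgC_x (a b : Idx n) (h : a.swap ≠ b) : (rgC n K).x (rt a b h) = X a b := rfl

theorem rgC_rg0 : (rgC n K).toRG0 = (csC n K).rg0 := rfl

variable {n K}

theorem Y_induction {M : Subgroup (SpG n K)} (hM : ∀ a b t, a.swap ≠ b → Y a b t ∈ M) : M = ⊤ := by
  have h0 : ∀ (x : Idx n) (c : K), rho (spB (Fin n) K) (ee x) 0 c ∈ M := fun x c => by
    have := hM x x c (swap_ne x); rwa [Y_self] at this
  have h1 : ∀ (x : Idx n) (u : Idx n → K), u x.swap = 0 → ∀ c, rho (spB (Fin n) K) (ee x) u c ∈ M := fun x u hu => by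
    rw [← Finset.univ_sum_single u]
    refine (Finset.sum_induction _ (fun b => b x.swap = 0 ∧ ∀ c, rho (spB (Fin n) K) (ee x) b c ∈ M)
      (fun b d hb hd => ⟨by simp [hb.1, hd.1], fun c => ?_⟩) ⟨rfl, h0 x⟩ fun z _ => ?_).2
    · have := mul_mem (hb.2 (c - spB (Fin n) K b d)) (hd.2 0)
      rwa [rho_mul sd_spB (adm (by simp [B_ee, hb.1]) _) (adm (by simp [B_ee, hd.1]) _), add_zero, sub_add_cancel] at this
    · by_cases e : z = x.swap
      · simpa [e, hu] using h0 x
      refine ⟨by simp [Ne.symm e], fun c => ?_⟩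
      rw [show Pi.single z (u z) = u z • (ee z : Idx n → K) by ext; simp [Pi.single_apply]]
      by_cases e' : z = x
      · rw [e', ← zero_add (u x • ee x), rho_add_smul sd_spB (adm (by simp) c)]; exact h0 _ _
      · rw [rho_eq_tv_mul_rho sd_spB (adm_ee (Ne.symm e) _ 0) (adm_ee (Ne.symm e) _ c), ← Y_ne (ix_ne (Ne.symm e') (Ne.symm e))]
        exact mul_mem (h0 _ _) (hM _ _ _ (Ne.symm e))
  rw [eq_top_iff, ← sd_spB.TG_eq_top rfl, TG, Subgroup.closure_le]
  rintro _ ⟨v, c, rfl⟩
  by_cases hv : v = 0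
  · rw [hv, tv_zero_left sd_spB]; exact one_mem _
  obtain ⟨x, hx⟩ := Function.ne_iff.1 hv
  obtain ⟨u, d, hA, e⟩ := exists_rho_map sd_spB (e := ee x.swap) (x := v) (y := v x • ee x) (B_self _)
    (by rw [B_self, B_self]) (by simp [B_ee, mul_comm]) (by
      have : (sg x : K) ≠ 0 := left_ne_zero_of_mul_eq_one (sg_cast x)
      simpa [B_ee, this] using hx)
  have h2 := h1 x.swap u (by
    have : (sg x : K) ≠ 0 := left_ne_zero_of_mul_eq_one (sg_cast x)
    simpa [B_ee, this] using hA.eu) d
  have h3 := conj_tv sd_spB (rho _ (ee x.swap) u d) v c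
  rw [e, tv_smul sd_spB (B_self _) rfl] at h3
  have h5 := h0 x (c * (v x * v x))
  change tv _ _ _ ∈ M at h5
  simp only [RingHom.id_apply] at h3
  rw [← h3] at h5
  simpa [mul_assoc] using mul_mem (mul_mem (inv_mem h2) h5) h2

theorem X_induction {M : Subgroup (SpG n K)} (hM : ∀ a b t, a.swap ≠ b → X a b t ∈ M) : M = ⊤ :=
  Y_induction fun a b t h => Y_eq a b t ▸ hM a b _ h

theorem rgC_grp : (rgC n K).grp = ⊤ := X_induction fun a b t h => (rgC n K).x_mem_grp (rt a b h) t

theorem exists_ix_ne (hn : 2 ≤ n) (a : Idx n) : ∃ b : Idx n, ix a ≠ ix b := by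
  haveI : Nontrivial (Fin n) := Fin.nontrivial_iff_two_le.2 hn
  obtain ⟨j, hj⟩ := exists_ne (ix a)
  exact ⟨.inl j, hj.symm⟩

theorem rgC_dec (hn : 2 ≤ n) (r : ΦC n) : (rgC n K).Dec r := by
  have key : ∀ a b : Idx n, ∀ h : ix a ≠ ix b,
      (rgC n K).Dec (rt a a (swap_ne a)) ∧ (rgC n K).Dec (rt a b.swap (neD h).2.2.2.1) := fun a b h => by
    obtain ⟨a1, a2, a3, a4, a5, a6, a7, a8, a9, a10, a11, a12⟩ := neD h
    let f : (Fin n → ℤ) →ₗ[ℤ] ℤ := (dotProductBilin ℤ ℤ ((2 : ℤ) • εD a - εD b)) ∘ₗ EC n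
    have hf : ∀ c d hcd, f ((rsC n).vec (rt c d hcd)) = 2 * (ip a c + ip a d) - (ip b c + ip b d) := fun c d hcd => by
      change ((2 : ℤ) • εD a - εD b) ⬝ᵥ EC n (vecC _) = _
      simp only [EC_vec, sub_dotProduct, smul_dotProduct, dotProduct_add, εD_dot, smul_eq_mul]; ring
    have m : ∀ c d hcd (r : ΦC n) (t : K), 0 < 2 * (ip a c + ip a d) - (ip b c + ip b d) → s(c, d) ≠ r.1 →
        Y c d t ∈ (rgC n K).gen {k | 0 < f ((rsC n).vec k) ∧ k ≠ r} := fun c d hcd r t h1 h2 => by
      rw [Y_eq]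
      exact (rgC n K).x_mem_gen (S := {k | 0 < f ((rsC n).vec k) ∧ k ≠ r}) (r := rt c d hcd)
        ⟨by rwa [hf], fun e => h2 (congrArg Subtype.val e)⟩ _
    have e : ∀ t : K, Y a b.swap (-(1 * t * sg b)) * Y a a (-(t * 1 ^ 2)) =
        (Y b.swap b.swap t * Y a b 1)⁻¹ * (Y a b 1 * Y b.swap b.swap t) := fun t => by
      rw [Y_c3 h, inv_mul_cancel_left]
    refine ⟨⟨f, by rw [hf]; simp [ip, *], fun t => ?_⟩, ⟨f, by rw [hf]; simp [ip, *], fun t => ?_⟩⟩
    · have := eq_inv_mul_of_mul_eq (e (-(eps a a * t)))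
      rw [one_pow, mul_one, neg_neg] at this
      rw [rgC_x, X, this]
      have b1 := fun t => m a b.swap a4 (rt a a (swap_ne a)) t (by simp [ip, *]) (by simp [*])
      have b2 := fun t => m a b a3 (rt a a (swap_ne a)) t (by simp [ip, *]) (by simp [*])
      have b3 := fun t => m b.swap b.swap (swap_ne _) (rt a a (swap_ne a)) t (by simp [ip, *]) (by simp [*])
      exact mul_mem (inv_mem (b1 _)) (mul_mem (inv_mem (mul_mem (b3 _) (b2 _))) (mul_mem (b2 _) (b3 _)))
    · have := eq_mul_inv_of_mul_eq (e (-(eps a b.swap * t * sg b)))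
      rw [show -(1 * -(eps a b.swap * t * sg b) * (sg b : K)) = eps a b.swap * t by
        linear_combination (eps a b.swap * t : K) * sg_cast (K := K) b] at this
      rw [rgC_x, X, this]
      have b1 := fun t => m a a (swap_ne a) (rt a b.swap a4) t (by simp [ip, *]) (by simp [*])
      have b2 := fun t => m a b a3 (rt a b.swap a4) t (by simp [ip, *]) (by simp [*])
      have b3 := fun t => m b.swap b.swap (swap_ne _) (rt a b.swap a4) t (by simp [ip, *]) (by simp [*])
      exact mul_mem (mul_mem (inv_mem (mul_mem (b3 _) (b2 _))) (mul_mem (b2 _) (b3 _))) (inv_mem (b1 _))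
  induction r using rt_ind with | h a b hab => ?_
  by_cases e : a = b
  · subst e
    obtain ⟨b, hb⟩ := exists_ix_ne hn a
    exact (key a b hb).1
  · simpa only [Sum.swap_swap] using (key a b.swap (by simpa using ix_ne e hab)).2

end Cfsg.Agent.H6.Sp
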