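import Cfsg.Agent.H6.SpE
import Cfsg.Agent.H13.Forms

/-! From orbit representatives of relations to the Steinberg relations of type `C`. -/

set_option autoImplicit false

namespace Cfsg.Agent.H6.Sp

open Cfsg.Agent.H14 Cfsg.Agent.H28 Cfsg.Agent.H12 Cfsg.Agent.L0 Subgroup
open scoped MatrixGroups
open Equiv (Perm swap)

variable {l : ℕ} {F : Type*} [Field F] {H H' : Type*} [Group H] [Group H']

/-- a permutation with prescribed images of `0` and `1` -/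
def sp (i j : Fin (l + 2)) : Perm (Fin (l + 2)) := swap 0 i * swap 1 (swap 0 i j)

theorem sp0 {i j : Fin (l + 2)} (h : i ≠ j) : sp i j 0 = i := by
  rw [sp, Perm.mul_apply, Equiv.swap_apply_of_ne_of_ne (x := 0) (by simp), Equiv.swap_apply_left]
  intro e
  exact h ((swap 0 i).injective (by rw [← e, Equiv.swap_apply_right]))

theorem sp1 (i j : Fin (l + 2)) : sp i j 1 = j := by simp [sp]

/-- the data of generators -/
structure Dat (l : ℕ) (F : Type*) [Field F] (H : Type*) [Group H] where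
  φ : Perm (Fin (l + 2)) →* H
  κ : SL(2, F) →* H
  x : F → H

namespace Dat

variable (D : Dat l F H)

/-- the image of the data -/
def map (f : H →* H') : Dat l F H' := ⟨f.comp D.φ, f.comp D.κ, fun t => f (D.x t)⟩

/-- the long root subgroups -/
def k (i : Fin (l + 2)) : SL(2, F) →* H := (MulAut.conj (D.φ (swap 0 i))).toMonoidHom.comp D.κ

theorem k_apply (i : Fin (l + 2)) (A : SL(2, F)) : D.k i A = D.φ (swap 0 i) * D.κ A * (D.φ (swap 0 i))⁻¹ := rfl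

/-- the root elements of type `A` -/
def x1 (i j : Fin (l + 2)) (t : F) : H := D.φ (sp i j) * D.x t * (D.φ (sp i j))⁻¹

/-- the root elements -/
def y : Idx (l + 2) → Idx (l + 2) → F → H
  | .inl i, .inl j, t => if i = j then D.k i (X2 t) else (D.k j W2)⁻¹ * D.x1 i j t * D.k j W2
  | .inr i, .inr j, t => if i = j then D.k i (L2 t) else (D.k i W2)⁻¹ * D.x1 i j t * D.k i W2
  | .inl i, .inr j, t => if i = j then 1 else D.x1 i j t
  | .inr i, .inl j, t => if i = j then 1 else D.x1 j i t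

theorem map_k (f : H →* H') (i : Fin (l + 2)) (A : SL(2, F)) : f (D.k i A) = (D.map f).k i A := by
  simp [k_apply, map]

theorem map_x1 (f : H →* H') (i j : Fin (l + 2)) (t : F) : f (D.x1 i j t) = (D.map f).x1 i j t := by
  simp [x1, map]

theorem map_y (f : H →* H') (a b : Idx (l + 2)) (t : F) : f (D.y a b t) = (D.map f).y a b t := by
  rcases a with i | i <;> rcases b with j | j <;> simp only [y] <;> split_ifs <;> simp [map_k, map_x1]

theorem k_zero (A : SL(2, F)) : D.k 0 A = D.κ A := by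
  rw [k_apply, Equiv.swap_self]; exact (by simp : D.φ 1 * D.κ A * (D.φ 1)⁻¹ = D.κ A)

theorem y_self (a : Idx (l + 2)) (t : F) : ∃ A, D.y a a t = D.k (ix a) A := by
  cases a <;> exact ⟨_, if_pos rfl⟩

end Dat

/-- the data in the symplectic group -/
noncomputable def datSp (l : ℕ) (F : Type*) [Field F] : Dat l F (SpG (l + 2) F) := ⟨pm F, emb 0, X (.inl 0) (.inr 1)⟩

theorem datSp_k (i : Fin (l + 2)) (A : SL(2, F)) : (datSp l F).k i A = emb i A := by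
  rw [Dat.k_apply]; exact (pm_emb _ _ _).trans (by simp)

theorem datSp_x1 {i j : Fin (l + 2)} (h : i ≠ j) (t : F) : (datSp l F).x1 i j t = X (.inl i) (.inr j) t :=
  (pm_X _ (lr_ne (by simp)) t).trans (by rw [hat_inl, hat_inr, sp0 h, sp1])

theorem datSp_y {a b : Idx (l + 2)} (h : a.swap ≠ b) (t : F) : (datSp l F).y a b t = X a b t := by
  rcases a with i | i <;> rcases b with j | j <;> simp only [Dat.y] <;> split_ifs with e
  · rw [datSp_k, emb_X2, e]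
  · rw [datSp_k, datSp_x1 e, W_X _ (lr_ne e)]; simp [flip, ix, e, eps, sg]
  · simp [e] at h
  · exact datSp_x1 e t
  · simp [e] at h
  · rw [datSp_x1 (Ne.symm e), X_symm]
  · rw [datSp_k, emb_L2, e]
  · rw [datSp_k, datSp_x1 e, W_X _ (lr_ne e)]; simp [flip, ix, Ne.symm e, eps, sg]

theorem sq_induction [Finite F] {P : F → Prop} (h0 : P 0) (h1 : ∀ e : Fˣ, P (e ^ 2)) (h2 : ∀ a b, P a → P b → P (a + b))
    (a : F) : P a := by
  have h : ∀ b, P (b ^ 2) := fun b => by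
    by_cases hb : b = 0
    · simpa [hb] using h0
    · exact h1 (Units.mk0 b hb)
  haveI := Fintype.ofFinite F
  obtain ⟨x, y, rfl⟩ := H13.exists_mul_sq_add_mul_sq_eq (one_ne_zero (α := F)) one_ne_zero a
  rw [one_mul, one_mul]; exact h2 _ _ (h x) (h y)

theorem unit_induction {P : F → Prop} (h0 : P 0) (h1 : ∀ e : Fˣ, P e) (a : F) : P a := by
  by_cases hb : a = 0
  · rwa [hb]
  · exact h1 (Units.mk0 a hb)

theorem conj_of_comm {a b : H} (h : Commute a b) : a * b * a⁻¹ = b := mul_inv_eq_iff_eq_mul.2 h.eq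

/-- the basic relations -/
structure Rel (D : Dat l F H) (ζ : Fˣ) : Prop where
  fin : Finite F
  hζ : ∀ e, e ∈ zpowers ζ
  r1 : ∀ σ, σ 0 = 0 → ∀ A, Commute (D.φ σ) (D.κ A)
  r2 : ∀ A B, Commute (D.κ A) (D.k 1 B)
  add : ∀ a b, D.x (a + b) = D.x a * D.x b
  act : ∀ a, D.κ (D2 ζ) * D.x a * (D.κ (D2 ζ))⁻¹ = D.x (ζ * a)
  r4 : ∀ σ, σ 0 = 0 → σ 1 = 1 → Commute (D.φ σ) (D.x 1)
  r5 : ∀ h : 2 < l + 2, ∀ A, Commute (D.k ⟨2, h⟩ A) (D.x 1)
  r6 : Commute (D.κ (D2 ζ) * D.k 1 (D2 ζ)) (D.x 1)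
  r7 : D.κ W2 * (D.k 1 W2)⁻¹ * D.x 1 * (D.κ W2 * (D.k 1 W2)⁻¹)⁻¹ = D.x1 1 0 1

namespace Rel

variable {D : Dat l F H} {ζ : Fˣ} (R : Rel D ζ)
include R

theorem ext_x (g : H) {z : F → H} (hz : ∀ a b, z (a + b) = z a * z b)
    (ht : ∀ a, g * D.κ (D2 ζ) * g⁻¹ * z a * (g * D.κ (D2 ζ) * g⁻¹)⁻¹ = z (ζ * a)) (hu : g * D.x 1 * g⁻¹ = z 1) (a : F) :
    g * D.x a * g⁻¹ = z a :=
  haveI := R.fin
  x_eq (gen_one ζ R.hζ) (MulAut.conj g).toMonoidHom (fun f => (pw_x R.add R.act f).symm) hz ht hu a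

theorem comm_x {g : H} (h1 : Commute g (D.κ (D2 ζ))) (h2 : Commute g (D.x 1)) (a : F) : Commute g (D.x a) :=
  mul_inv_eq_iff_eq_mul.1 (R.ext_x g R.add (by rw [conj_of_comm h1]; exact R.act) (conj_of_comm h2) a)

theorem K1 (σ : Perm (Fin (l + 2))) (i : Fin (l + 2)) (A : SL(2, F)) :
    D.φ σ * D.k i A * (D.φ σ)⁻¹ = D.k (σ i) A := by
  have := conj_of_comm (R.r1 ((swap 0 (σ i))⁻¹ * σ * swap 0 i) (by simp) A)
  rw [Dat.k_apply, Dat.k_apply]
  conv_rhs => rw [← this]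
  simp only [map_mul, map_inv]; group

theorem K2 {i j : Fin (l + 2)} (h : i ≠ j) (A B : SL(2, F)) : Commute (D.k i A) (D.k j B) := by
  have := commute_conj (R.r2 A B) (D.φ (sp i j))
  rwa [← D.k_zero, R.K1, R.K1, sp0 h, sp1] at this

theorem X1' (σ : Perm (Fin (l + 2))) (t : F) : D.φ σ * D.x t * (D.φ σ)⁻¹ = D.x1 (σ 0) (σ 1) t := by
  have h : σ 0 ≠ σ 1 := σ.injective.ne (by simp)
  have a0 : ((sp (σ 0) (σ 1))⁻¹ * σ) 0 = 0 := by rw [Perm.mul_apply, Perm.inv_eq_iff_eq, sp0 h]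
  have a1 : ((sp (σ 0) (σ 1))⁻¹ * σ) 1 = 1 := by rw [Perm.mul_apply, Perm.inv_eq_iff_eq, sp1]
  have := conj_of_comm (R.comm_x (R.r1 _ a0 _) (R.r4 _ a0 a1) t)
  rw [Dat.x1]
  conv_rhs => rw [← this]
  simp only [map_mul, map_inv]; group

theorem X0 (t : F) : D.x1 0 1 t = D.x t := by simpa using (R.X1' 1 t).symm

theorem X1 (σ : Perm (Fin (l + 2))) {i j : Fin (l + 2)} (h : i ≠ j) (t : F) :
    D.φ σ * D.x1 i j t * (D.φ σ)⁻¹ = D.x1 (σ i) (σ j) t := by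
  have := R.X1' (σ * sp i j) t
  rw [Perm.mul_apply, Perm.mul_apply, sp0 h, sp1] at this
  rw [← this, Dat.x1, map_mul]; group

theorem xadd (i j : Fin (l + 2)) (a b : F) : D.x1 i j (a + b) = D.x1 i j a * D.x1 i j b := by
  simp [Dat.x1, R.add]

theorem X2' {i j m : Fin (l + 2)} (h : i ≠ j) (hi : m ≠ i) (hj : m ≠ j) (A : SL(2, F)) (t : F) :
    Commute (D.k m A) (D.x1 i j t) := by
  have h2 : 2 < l + 2 := by
    have := i.2; have := j.2; have := m.2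
    simp only [ne_eq, Fin.ext_iff] at h hi hj; omega
  obtain ⟨σ, hσ⟩ := Perm.exists_extending_pair ![(0 : Fin (l + 2)), 1, ⟨2, h2⟩] ![i, j, m]
    (by intro p q; fin_cases p <;> fin_cases q <;> simp [Fin.ext_iff])
    (by intro p q; fin_cases p <;> fin_cases q <;> simp [h, hi, hj, h.symm, hi.symm, hj.symm])
  have := commute_conj (R.comm_x (D.k_zero _ ▸ R.K2 (by simp [Fin.ext_iff]) _ _) (R.r5 h2 A) t) (D.φ σ)
  rwa [R.K1, R.X1', show σ 0 = i from hσ 0, show σ 1 = j from hσ 1, show σ ⟨2, h2⟩ = m from hσ 2] at this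

theorem X3 {i j : Fin (l + 2)} (h : i ≠ j) (e : Fˣ) (t : F) :
    D.k i (D2 e) * D.x1 i j t * (D.k i (D2 e))⁻¹ = D.x1 i j (e * t) ∧
      D.k j (D2 e) * D.x1 i j t * (D.k j (D2 e))⁻¹ = D.x1 i j ((e⁻¹ : Fˣ) * t) := by
  haveI := R.fin
  have c0 : ∀ a b, Commute (D.κ (D2 a)) (D.κ (D2 b)) := fun a b => ((Commute.all a b).map D2).map _
  have a1 : ∀ t, D.k 1 (D2 ζ) * D.x t * (D.k 1 (D2 ζ))⁻¹ = D.x ((ζ⁻¹ : Fˣ) * t) := fun t => by
    have b1 := conj_of_comm (R.comm_x ((c0 ζ ζ).mul_left (R.r2 _ _).symm) R.r6 t)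
    have b2 := R.act ((ζ⁻¹ : Fˣ) * t)
    rw [Units.mul_inv_cancel_left, ← b1] at b2
    apply (MulAut.conj (D.κ (D2 ζ))).injective
    simp only [MulAut.conj_apply]
    rw [b2]; group
  have a2 : ∀ (g : Fˣ →* H) (c : Fˣ →* Fˣ), (∀ t, g ζ * D.x t * (g ζ)⁻¹ = D.x (c ζ * t)) →
      ∀ t, g e * D.x t * (g e)⁻¹ = D.x (c e * t) := fun g c hg => by
    obtain ⟨m, rfl⟩ := mem_powers_iff_mem_zpowers.2 (R.hζ e)
    induction m with
    | zero => simp
    | succ m ih =>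
      intro t
      simp only [pow_succ, map_mul, Units.val_mul, mul_assoc _ _ t] at ih ⊢
      rw [← ih, ← hg]; group
  have b1 := congrArg (fun z => D.φ (sp i j) * z * (D.φ (sp i j))⁻¹) (a2 (D.κ.comp D2) (MonoidHom.id _) R.act t)
  have b2 := congrArg (fun z => D.φ (sp i j) * z * (D.φ (sp i j))⁻¹) (a2 ((D.k 1).comp D2) invMonoidHom a1 t)
  have b3 := R.K1 (sp i j) 0 (D2 e)
  have b4 := R.K1 (sp i j) 1 (D2 e)
  rw [sp0 h, D.k_zero] at b3
  rw [sp1] at b4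
  rw [← b3, ← b4]
  simp only [MonoidHom.comp_apply, MonoidHom.id_apply, invMonoidHom_apply] at b1 b2
  exact ⟨by rw [Dat.x1, Dat.x1, ← b1]; group, by rw [Dat.x1, Dat.x1, ← b2]; group⟩

theorem X4 {i j : Fin (l + 2)} (h : i ≠ j) (t : F) :
    D.k i W2 * (D.k j W2)⁻¹ * D.x1 i j t * (D.k i W2 * (D.k j W2)⁻¹)⁻¹ = D.x1 j i t := by
  have a1 := R.ext_x (D.κ W2 * (D.k 1 W2)⁻¹) (R.xadd 1 0) (fun a => by
    have := (R.X3 (i := 1) (j := 0) (by simp) ζ⁻¹ a).2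
    rw [inv_inv, D.k_zero] at this
    rw [← this, map_inv, ← W2_D2, map_mul, map_mul, map_inv, mul_assoc (D.κ W2), (R.r2 (D2 ζ) W2).symm.inv_left.eq]
    group) R.r7 t
  have b1 := congrArg (fun z => D.φ (sp i j) * z * (D.φ (sp i j))⁻¹) a1
  have b3 := R.K1 (sp i j) 0 W2
  have b4 := R.K1 (sp i j) 1 W2
  rw [sp0 h, D.k_zero] at b3
  rw [sp1] at b4
  simp only [R.X1 _ (show (1 : Fin (l + 2)) ≠ 0 by simp), sp0 h, sp1] at b1
  rw [← b3, ← b4, ← b1, Dat.x1]; group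

theorem WW {i j : Fin (l + 2)} (h : i ≠ j) (t : F) :
    (D.k i W2)⁻¹ * ((D.k i W2)⁻¹ * D.x1 i j t * D.k i W2) * D.k i W2 = D.x1 i j (-t) ∧
    (D.k j W2)⁻¹ * ((D.k j W2)⁻¹ * D.x1 i j t * D.k j W2) * D.k j W2 = D.x1 i j (-t) := by
  obtain ⟨a1, a2⟩ := R.X3 h (-1) (-t)
  simp only [← W2_sq, map_mul, inv_neg, inv_one, Units.val_neg, Units.val_one, neg_mul, one_mul, neg_neg] at a1 a2
  exact ⟨by rw [← a1]; group, by rw [← a2]; group⟩

theorem symm (a b : Idx (l + 2)) : D.y a b = D.y b a := by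
  funext t
  rcases a with i | i <;> rcases b with j | j <;> simp only [Dat.y, eq_comm (a := j)] <;> split_ifs with e
  · rw [e]
  · rw [← R.X4 e]; group
  · rw [e]
  · have h1 := (R.WW e t).1
    rw [← (R.WW e t).2] at h1
    rw [← R.X4 e t]
    have c := (R.K2 e W2 W2).inv_right.eq
    generalize D.k i W2 = a at *
    generalize D.k j W2 = b at *
    calc _ = a * (a⁻¹ * (a⁻¹ * D.x1 i j t * a) * a) * a⁻¹ := by group
      _ = (a * b⁻¹) * (b⁻¹ * D.x1 i j t * b) * (a * b⁻¹)⁻¹ := by rw [h1]; group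
      _ = (b⁻¹ * a) * (b⁻¹ * D.x1 i j t * b) * (b⁻¹ * a)⁻¹ := by rw [c]
      _ = _ := by group

theorem yadd (a b : Idx (l + 2)) (t u : F) : D.y a b (t + u) = D.y a b t * D.y a b u := by
  rcases a with i | i <;> rcases b with j | j <;> simp only [Dat.y] <;> split_ifs with e <;>
    simp [R.xadd, X2_add, L2, -neg_add_rev, neg_add, mul_assoc]

theorem y_zero (a b : Idx (l + 2)) : D.y a b 0 = 1 := add_zero' (R.yadd a b)

theorem y_far {a b : Idx (l + 2)} (h : a.swap ≠ b) {m : Fin (l + 2)} (ha : ix a ≠ m) (hb : ix b ≠ m) (A : SL(2, F)) (t : F) :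
    Commute (D.k m A) (D.y a b t) := by
  rcases a with i | i <;> rcases b with j | j <;> simp only [Dat.y] <;> split_ifs with e
  · exact R.K2 ha.symm _ _
  · exact ((R.K2 hb.symm _ _).inv_right.mul_right (R.X2' e ha.symm hb.symm _ _)).mul_right (R.K2 hb.symm _ _)
  · exact Commute.one_right _
  · exact R.X2' e ha.symm hb.symm _ _
  · exact Commute.one_right _
  · exact R.X2' (Ne.symm e) hb.symm ha.symm _ _
  · exact R.K2 ha.symm _ _
  · exact ((R.K2 ha.symm _ _).inv_right.mul_right (R.X2' e ha.symm hb.symm _ _)).mul_right (R.K2 ha.symm _ _)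

theorem N1 (σ : Perm (Fin (l + 2))) (a b : Idx (l + 2)) (t : F) :
    D.φ σ * D.y a b t * (D.φ σ)⁻¹ = D.y (hat σ a) (hat σ b) t := by
  rcases a with i | i <;> rcases b with j | j <;> simp only [Dat.y, hat_inl, hat_inr, σ.injective.eq_iff] <;>
    split_ifs with e
  · exact R.K1 ..
  · rw [← R.K1, ← R.X1 σ e]; group
  · simp
  · exact R.X1 σ e t
  · simp
  · exact R.X1 σ (Ne.symm e) t
  · exact R.K1 ..
  · rw [← R.K1, ← R.X1 σ e]; group

theorem N2 (m : Fin (l + 2)) {a b : Idx (l + 2)} (h : a.swap ≠ b) (t : F) :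
    ∃ u, (D.k m W2)⁻¹ * D.y a b t * D.k m W2 = D.y (flip m a) (flip m b) u := by
  have key : ∀ a b : Idx (l + 2), ix a ≠ ix b →
      ∃ u, (D.k (ix a) W2)⁻¹ * D.y a b t * D.k (ix a) W2 = D.y a.swap b u := fun a b e => by
    rcases a with i | i <;> rcases b with j | j <;> change i ≠ j at e
    · rw [R.symm]
      exact ⟨-t, by simp only [Dat.y, Sum.swap_inl, if_neg e, if_neg e.symm]; exact (R.WW e.symm t).2⟩
    · exact ⟨t, by simp only [Dat.y, Sum.swap_inl, if_neg e]; rfl⟩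
    · rw [R.symm (Sum.swap _)]
      exact ⟨t, by simp only [Dat.y, Sum.swap_inr, if_neg e, if_neg e.symm]; rfl⟩
    · exact ⟨-t, by simp only [Dat.y, Sum.swap_inr, if_neg e]; exact (R.WW e t).1⟩
  by_cases ha : ix a = m
  · subst ha
    by_cases e : a = b
    · subst e
      refine ⟨-t, ?_⟩
      rcases a with i | i <;> simp only [Dat.y, flip, if_true, Sum.swap_inl, Sum.swap_inr, ix, Sum.elim_inl, Sum.elim_inr,
        id, ← map_inv, ← map_mul, L2, neg_neg]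
      congr 1
      rw [show ∀ a b : SL(2, F), a⁻¹ * (a⁻¹ * b * a) * a = (a * a)⁻¹ * b * ((a * a)⁻¹)⁻¹ by intros; simp [mul_assoc], W2_sq,
        ← map_inv, D2_X2]
      simp
    · simpa [flip, (ix_ne e h).symm] using key a b (ix_ne e h)
  by_cases hb : ix b = m
  · subst hb
    rw [R.symm a, R.symm (flip _ a)]
    simpa [flip, ha] using key b a (Ne.symm ha)
  · exact ⟨t, by rw [mul_assoc, ← (R.y_far h ha hb W2 t).eq]; simp [flip, ha, hb]⟩

theorem N3 (m : Fin (l + 2)) (e : Fˣ) (a b : Idx (l + 2)) (t : F) :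
    ∃ u, D.k m (D2 e) * D.y a b t * (D.k m (D2 e))⁻¹ = D.y a b u := by
  have k1 : ∀ i j, i ≠ j → ∀ e, ∃ u, D.k m (D2 e) * D.x1 i j t * (D.k m (D2 e))⁻¹ = D.x1 i j u := fun i j h e => by
    by_cases h1 : m = i
    · rw [h1]; exact ⟨_, (R.X3 h e t).1⟩
    by_cases h2 : m = j
    · rw [h2]; exact ⟨_, (R.X3 h e t).2⟩
    · exact ⟨_, conj_of_comm (R.X2' h h1 h2 _ _)⟩
  have k2 : ∀ p i j, i ≠ j → ∃ u, D.k m (D2 e) * ((D.k p W2)⁻¹ * D.x1 i j t * D.k p W2) * (D.k m (D2 e))⁻¹ =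
      (D.k p W2)⁻¹ * D.x1 i j u * D.k p W2 := fun p i j h => by
    obtain ⟨e', he⟩ : ∃ e', D.k p W2 * D.k m (D2 e) * (D.k p W2)⁻¹ = D.k m (D2 e') := by
      by_cases h1 : p = m
      · exact ⟨e⁻¹, by rw [h1, ← map_inv, ← map_mul, ← map_mul, W2_D2, map_inv D2]⟩
      · exact ⟨e, conj_of_comm (R.K2 h1 _ _)⟩
    obtain ⟨u, hu⟩ := k1 i j h e'
    exact ⟨u, by rw [← hu, ← he]; group⟩
  have k3 : ∀ i (A : F → SL(2, F)), (∃ u, D2 e * A t * (D2 e)⁻¹ = A u) →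
      ∃ u, D.k m (D2 e) * D.k i (A t) * (D.k m (D2 e))⁻¹ = D.k i (A u) := fun i A ⟨u, hu⟩ => by
    by_cases h1 : m = i
    · exact ⟨u, by rw [h1, ← hu, map_mul, map_mul, map_inv]⟩
    · exact ⟨t, conj_of_comm (R.K2 h1 _ _)⟩
  rcases a with i | i <;> rcases b with j | j <;> simp only [Dat.y] <;> split_ifs with h
  · exact k3 _ _ ⟨_, D2_X2 ..⟩
  · exact k2 _ _ _ h
  · simp
  · exact k1 _ _ h _
  · simp
  · exact k1 _ _ (Ne.symm h) _
  · refine k3 _ _ ⟨(e⁻¹ : Fˣ) ^ 2 * t, ?_⟩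
    rw [L2, L2, ← mul_neg, ← D2_X2, show D2 e⁻¹ = W2 * D2 e * W2⁻¹ by rw [W2_D2, map_inv]]; group
  · exact k2 _ _ _ h

end Rel

end Cfsg.Agent.H6.Sp
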