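import Cfsg.Agent.H6.SpP

/-! The commutator relations from orbit representatives. -/

set_option autoImplicit false

namespace Cfsg.Agent.H6.Sp

open Cfsg.Agent.H14 Cfsg.Agent.H28 Cfsg.Agent.H12 Cfsg.Agent.L0 Subgroup
open scoped MatrixGroups
open Equiv (Perm swap)

variable {l : ℕ} {F : Type*} [Field F] {H : Type*} [Group H]

/-- `g` acts on the root elements as `w` -/
structure Dat.Rep (D : Dat l F H) (g : H) (w : Idx (l + 2) → Idx (l + 2)) : Prop where
  inj : Function.Injective w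
  sw : ∀ z, w z.swap = (w z).swap
  conj : ∀ a b, a.swap ≠ b → ∃ c : F, c ≠ 0 ∧ ∀ t, g * D.y a b t * g⁻¹ = D.y (w a) (w b) (c * t)

theorem Dat.Rep.mul {D : Dat l F H} {g g' : H} {w w' : Idx (l + 2) → Idx (l + 2)} (h : D.Rep g w) (h' : D.Rep g' w') :
    D.Rep (g * g') (w ∘ w') :=
  ⟨h.inj.comp h'.inj, fun z => by simp [h.sw, h'.sw], fun a b hab => by
    obtain ⟨c, c0, hc⟩ := h'.conj a b hab
    obtain ⟨d, d0, hd⟩ := h.conj (w' a) (w' b) (by rw [← h'.sw]; exact h'.inj.ne hab)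
    exact ⟨d * c, mul_ne_zero d0 c0, fun t => by rw [mul_assoc d, Function.comp, Function.comp, ← hd, ← hc]; group⟩⟩

theorem Dat.Rep.surj {D : Dat l F H} {g : H} {w : Idx (l + 2) → Idx (l + 2)} (h : D.Rep g w) {a b : Idx (l + 2)}
    (hab : a.swap ≠ b) (t : F) : ∃ u, D.y (w a) (w b) t = g * D.y a b u * g⁻¹ := by
  obtain ⟨c, c0, hc⟩ := h.conj a b hab
  exact ⟨c⁻¹ * t, by rw [hc, mul_inv_cancel_left₀ c0]⟩

theorem Dat.Rep.ex {D : Dat l F H} {g : H} {w : Idx (l + 2) → Idx (l + 2)} (h : D.Rep g w) {a b : Idx (l + 2)}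
    (hab : a.swap ≠ b) (t : F) : ∃ u, D.y (w a) (w b) u = g * D.y a b t * g⁻¹ := by
  obtain ⟨c, -, hc⟩ := h.conj a b hab
  exact ⟨_, (hc t).symm⟩

/-- commuting root subgroups -/
def Dat.Far (D : Dat l F H) (a b c d : Idx (l + 2)) : Prop := ∀ t u, Commute (D.y a b t) (D.y c d u)

/-- the first commutator relation -/
def Dat.C2 (D : Dat l F H) (a b c : Idx (l + 2)) (u t : F) : Prop :=
  ∃ v, D.y a b u * D.y b.swap c t = D.y b.swap c t * D.y a b u * D.y a c v

/-- the second commutator relation -/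
def Dat.C3 (D : Dat l F H) (a b : Idx (l + 2)) (u t : F) : Prop :=
  ∃ v w, D.y a b u * D.y b.swap b.swap t = D.y b.swap b.swap t * D.y a b u * (D.y a b.swap v * D.y a a w)

/-- all relations -/
structure Rel2 (D : Dat l F H) (ζ : Fˣ) (π : H →* SpG (l + 2) F) : Prop extends Rel D ζ where
  hπ : D.map π = datSp l F
  c1 : Commute (D.y (.inl 0) (.inl 0) 1) (D.y (.inl 0) (.inl 1) 1)
  c2 : D.C2 (.inl 0) (.inl 1) (.inl 0) 1 1
  c3 : D.C3 (.inl 0) (.inl 1) 1 1
  c4 : ∀ h : 2 < l + 2, Commute (D.y (.inl 0) (.inl 1) 1) (D.y (.inl 0) (.inl ⟨2, h⟩) 1)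
  c5 : ∀ h : 2 < l + 2, D.C2 (.inl 0) (.inl 1) (.inl ⟨2, h⟩) 1 1
  c6 : ∀ h : 3 < l + 2, Commute (D.y (.inl 0) (.inl 1) 1) (D.y (.inl ⟨2, by omega⟩) (.inl ⟨3, h⟩) 1)
  c7 : D.φ (swap 0 1) = D.y (.inl 0) (.inr 1) 1 * D.y (.inr 0) (.inl 1) (-1) * D.y (.inl 0) (.inr 1) 1 * D.κ (D2 (-1))
  gen : ∀ M : Subgroup H, (∀ σ, D.φ σ ∈ M) → (∀ A, D.κ A ∈ M) → D.x 1 ∈ M → M = ⊤

theorem ll_ne (i j : Fin (l + 2)) : (Sum.inl i : Idx (l + 2)).swap ≠ .inl j := by simp

namespace Rel2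

variable {D : Dat l F H} {ζ : Fˣ} {π : H →* SpG (l + 2) F} (R : Rel2 D ζ π)
include R

theorem πy {a b : Idx (l + 2)} (h : a.swap ≠ b) (t : F) : π (D.y a b t) = X a b t := by
  rw [D.map_y, R.hπ, datSp_y h]

theorem πk (i : Fin (l + 2)) (A : SL(2, F)) : π (D.k i A) = emb i A := by rw [D.map_k, R.hπ, datSp_k]

theorem exact {g g' : H} {a b c d : Idx (l + 2)} (h : a.swap ≠ b) (h' : c.swap ≠ d) {t v : F}
    (h1 : ∃ u, g * D.y a b t * g' = D.y c d u) (h2 : π g * X a b t * π g' = X c d v) : g * D.y a b t * g' = D.y c d v := by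
  obtain ⟨u, hu⟩ := h1
  have := congrArg π hu
  rw [map_mul, map_mul, R.πy h, R.πy h', h2] at this
  rw [hu, X_inj h' this]

theorem T (m : Fin (l + 2)) (e : Fˣ) {a b : Idx (l + 2)} (h : a.swap ≠ b) (t : F) :
    D.k m (D2 e) * D.y a b t * (D.k m (D2 e))⁻¹ =
      D.y a b ((if ix a = m then (e : F) ^ sg a else 1) * (if ix b = m then (e : F) ^ sg b else 1) * t) :=
  R.exact h h (R.N3 m e a b t) (by rw [map_inv, R.πk, D_X _ _ h])

theorem rep_φ (σ : Perm (Fin (l + 2))) : D.Rep (D.φ σ) (hat σ) :=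
  ⟨hat_inj σ, hat_swap σ, fun a b _ => ⟨1, one_ne_zero, fun t => by rw [one_mul, R.N1]⟩⟩

theorem rep_W (m : Fin (l + 2)) : D.Rep (D.k m W2)⁻¹ (flip m) :=
  ⟨flip_inj m, flip_swap m, fun a b h => ⟨_, by
    have h1 : ∀ z : Idx (l + 2), (if ix z = m then (sg z : F) else 1) ≠ 0 := fun z => by
      split_ifs; exacts [left_ne_zero_of_mul_eq_one (sg_cast z), one_ne_zero]
    exact mul_ne_zero (mul_ne_zero (mul_ne_zero (h1 a) (h1 b)) (left_ne_zero_of_mul_eq_one (eps_cast a b)))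
      (left_ne_zero_of_mul_eq_one (eps_cast (flip m a) (flip m b))), fun t => by
    rw [inv_inv]
    exact R.exact h (by rw [← flip_swap]; exact (flip_inj m).ne h) (R.N2 m h t) (by rw [map_inv, R.πk, W_X _ h])⟩⟩

theorem exists_rep {p : ℕ} (j : Fin p → Fin (l + 2)) (a : Fin p → Idx (l + 2)) (hj : Function.Injective j)
    (ha : Function.Injective (ix ∘ a)) : ∃ g w, D.Rep g w ∧ ∀ q, w (.inl (j q)) = a q := by
  classical
  obtain ⟨σ, hσ⟩ := Perm.exists_extending_pair _ _ hj ha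
  have key : ∀ S : Finset (Fin (l + 2)), ∃ g w, D.Rep g w ∧
      ∀ i, w (.inl i) = if σ i ∈ S then .inr (σ i) else .inl (σ i) := fun S => by
    induction S using Finset.induction_on with
    | empty => exact ⟨_, _, R.rep_φ σ, by simp⟩
    | insert m S hm ih =>
      obtain ⟨g, w, h1, h2⟩ := ih
      refine ⟨_, _, (R.rep_W m).mul h1, fun i => ?_⟩
      by_cases e : σ i = m
      · simp [h2, e, hm, flip, ix]
      · by_cases e' : σ i ∈ S <;> simp [h2, e, e', flip, ix]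
  obtain ⟨g, w, h1, h2⟩ := key (Finset.univ.filter fun m => ∃ q, a q = .inr m)
  refine ⟨g, w, h1, fun q => ?_⟩
  rw [h2, hσ]
  rcases e : a q with m | m
  · rw [if_neg]
    · simp [e, ix]
    · simp only [Finset.mem_filter, Finset.mem_univ, true_and, not_exists, Function.comp]
      intro q' e'
      have := ha (a₁ := q') (a₂ := q) (by simp [e', ix])
      rw [this, e] at e'; simp at e'
  · rw [if_pos]
    · simp [e, ix]
    · simpa [e, ix] using ⟨q, e⟩

theorem rep2 {a b : Idx (l + 2)} (h : ix a ≠ ix b) : ∃ g w, D.Rep g w ∧ w (.inl 0) = a ∧ w (.inl 1) = b := by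
  obtain ⟨g, w, h1, h2⟩ := R.exists_rep ![0, 1] ![a, b] (by intro p q; fin_cases p <;> fin_cases q <;> simp)
    (by intro p q; fin_cases p <;> fin_cases q <;> simp [h, h.symm])
  exact ⟨g, w, h1, h2 0, h2 1⟩

theorem rep3 {a b c : Idx (l + 2)} (h1 : ix a ≠ ix b) (h2 : ix a ≠ ix c) (h3 : ix b ≠ ix c) :
    ∃ h : 2 < l + 2, ∃ g w, D.Rep g w ∧ w (.inl 0) = a ∧ w (.inl 1) = b ∧ w (.inl ⟨2, h⟩) = c := by
  have h : 2 < l + 2 := by
    have := (ix a).2; have := (ix b).2; have := (ix c).2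
    simp only [ne_eq, Fin.ext_iff] at h1 h2 h3; omega
  obtain ⟨g, w, a1, a2⟩ := R.exists_rep ![0, 1, ⟨2, h⟩] ![a, b, c]
    (by intro p q; fin_cases p <;> fin_cases q <;> simp [Fin.ext_iff])
    (by intro p q; fin_cases p <;> fin_cases q <;> simp [h1, h2, h3, h1.symm, h2.symm, h3.symm])
  exact ⟨h, g, w, a1, a2 0, a2 1, a2 2⟩

theorem rep4 {a b c d : Idx (l + 2)} (h1 : ix a ≠ ix b) (h2 : ix a ≠ ix c) (h3 : ix a ≠ ix d) (h4 : ix b ≠ ix c)
    (h5 : ix b ≠ ix d) (h6 : ix c ≠ ix d) : ∃ h : 3 < l + 2, ∃ g w, D.Rep g w ∧ w (.inl 0) = a ∧ w (.inl 1) = b ∧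
      w (.inl ⟨2, by omega⟩) = c ∧ w (.inl ⟨3, h⟩) = d := by
  have h : 3 < l + 2 := by
    have := (ix a).2; have := (ix b).2; have := (ix c).2; have := (ix d).2
    simp only [ne_eq, Fin.ext_iff] at h1 h2 h3 h4 h5 h6; omega
  obtain ⟨g, w, a1, a2⟩ := R.exists_rep ![0, 1, ⟨2, by omega⟩, ⟨3, h⟩] ![a, b, c, d]
    (by intro p q; fin_cases p <;> fin_cases q <;> simp [Fin.ext_iff])
    (by intro p q; fin_cases p <;> fin_cases q <;>
      simp [h1, h2, h3, h4, h5, h6, h1.symm, h2.symm, h3.symm, h4.symm, h5.symm, h6.symm])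
  exact ⟨h, g, w, a1, a2 0, a2 1, a2 2, a2 3⟩

omit R in
theorem far_rep {g : H} {w : Idx (l + 2) → Idx (l + 2)} (h : D.Rep g w) {i j p q : Fin (l + 2)}
    (h1 : D.Far (.inl i) (.inl j) (.inl p) (.inl q)) : D.Far (w (.inl i)) (w (.inl j)) (w (.inl p)) (w (.inl q)) :=
  fun t u => by
  obtain ⟨t', ht⟩ := h.surj (ll_ne i j) t
  obtain ⟨u', hu⟩ := h.surj (ll_ne p q) u
  rw [ht, hu]; exact commute_conj (h1 _ _) g

theorem far_T {i j p q : Fin (l + 2)} {t u : F} (h1 : Commute (D.y (.inl i) (.inl j) t) (D.y (.inl p) (.inl q) u))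
    (m : Fin (l + 2)) (e : Fˣ) :
    Commute (D.y (.inl i) (.inl j) ((if i = m then (e : F) else 1) * (if j = m then (e : F) else 1) * t))
      (D.y (.inl p) (.inl q) ((if p = m then (e : F) else 1) * (if q = m then (e : F) else 1) * u)) := by
  have := commute_conj h1 (D.k m (D2 e))
  rw [R.T _ _ (ll_ne _ _), R.T _ _ (ll_ne _ _)] at this
  simpa only [ix, sg, Sum.elim_inl, id, zpow_one] using this

theorem far1 {a b : Idx (l + 2)} (h : ix a ≠ ix b) : D.Far a a a b := by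
  haveI := R.fin
  obtain ⟨g, w, h1, rfl, rfl⟩ := R.rep2 h
  refine far_rep h1 fun t u => ?_
  induction u using unit_induction with
  | h0 => rw [R.y_zero]; exact Commute.one_right _
  | h1 u =>
    induction t using sq_induction with
    | h0 => rw [R.y_zero]; exact Commute.one_left _
    | h1 e => simpa [sq] using R.far_T (R.far_T R.c1 1 (e⁻¹ * u)) 0 e
    | h2 a b ha hb => rw [R.yadd]; exact ha.mul_left hb

theorem far2 {a b c : Idx (l + 2)} (h1 : ix a ≠ ix b) (h2 : ix a ≠ ix c) (h3 : ix b ≠ ix c) : D.Far a b a c := by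
  obtain ⟨h, g, w, h0, rfl, rfl, rfl⟩ := R.rep3 h1 h2 h3
  refine far_rep h0 fun t u => ?_
  induction u using unit_induction with
  | h0 => rw [R.y_zero]; exact Commute.one_right _
  | h1 u =>
    induction t using unit_induction with
    | h0 => rw [R.y_zero]; exact Commute.one_left _
    | h1 e => simpa [Fin.ext_iff] using R.far_T (R.far_T (R.c4 h) 1 e) ⟨2, h⟩ u

theorem far3 {a b c d : Idx (l + 2)} (h1 : ix a ≠ ix b) (h2 : ix a ≠ ix c) (h3 : ix a ≠ ix d) (h4 : ix b ≠ ix c)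
    (h5 : ix b ≠ ix d) (h6 : ix c ≠ ix d) : D.Far a b c d := by
  obtain ⟨h, g, w, h0, rfl, rfl, rfl, rfl⟩ := R.rep4 h1 h2 h3 h4 h5 h6
  refine far_rep h0 fun t u => ?_
  induction u using unit_induction with
  | h0 => rw [R.y_zero]; exact Commute.one_right _
  | h1 u =>
    induction t using unit_induction with
    | h0 => rw [R.y_zero]; exact Commute.one_left _
    | h1 e => simpa [Fin.ext_iff] using R.far_T (R.far_T (R.c6 h) 1 e) ⟨3, h⟩ u

theorem far (a b c d : Idx (l + 2)) (h1 : a.swap ≠ b) (h2 : c.swap ≠ d) (h3 : a.swap ≠ c) (h4 : a.swap ≠ d)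
    (h5 : b.swap ≠ c) (h6 : b.swap ≠ d) : D.Far a b c d := by
  have self : ∀ a b, D.Far a b a b := fun a b => add_comm' (R.yadd a b)
  have k1 : ∀ a c d, c.swap ≠ d → a.swap ≠ c → a.swap ≠ d → D.Far a a c d := fun a c d h2 h3 h4 => by
    by_cases e1 : a = c
    · subst e1
      by_cases e2 : a = d
      · subst e2; exact self a a
      · exact R.far1 (ix_ne e2 h4)
    by_cases e2 : a = d
    · subst e2; unfold Dat.Far; rw [R.symm c]; exact R.far1 (ix_ne e1 h3)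
    intro t u
    obtain ⟨A, hA⟩ := D.y_self a t
    rw [hA]
    exact R.y_far h2 (ix_ne e1 h3).symm (ix_ne e2 h4).symm A u
  have k2 : ∀ a b d, a ≠ b → a ≠ d → a.swap ≠ b → a.swap ≠ d → b.swap ≠ d → D.Far a b a d := fun a b d e1 e2 h1 h4 h6 => by
    by_cases e : b = d
    · subst e; exact self a b
    · exact R.far2 (ix_ne e1 h1) (ix_ne e2 h4) (ix_ne e h6)
  by_cases e1 : a = b
  · subst e1; exact k1 a c d h2 h3 h4
  by_cases e2 : c = d
  · subst e2; exact fun t u => (k1 c a b h1 (swap_ne_comm.1 h3) (swap_ne_comm.1 h5) u t).symm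
  by_cases e3 : a = c
  · subst e3; exact k2 a b d e1 e2 h1 h4 h6
  by_cases e4 : a = d
  · subst e4; unfold Dat.Far; rw [R.symm c]; exact k2 a b c e1 e3 h1 h3 h5
  by_cases e5 : b = c
  · subst e5; unfold Dat.Far; rw [R.symm a]; exact k2 b a d (Ne.symm e1) e2 (swap_ne_comm.1 h1) h6 h4
  by_cases e6 : b = d
  · subst e6; unfold Dat.Far; rw [R.symm a, R.symm c]; exact k2 b a c (Ne.symm e1) e5 (swap_ne_comm.1 h1) h5 h3
  exact R.far3 (ix_ne e1 h1) (ix_ne e3 h3) (ix_ne e4 h4) (ix_ne e5 h5) (ix_ne e6 h6) (ix_ne e2 h2)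

omit R in
theorem c2_rep {g : H} {w : Idx (l + 2) → Idx (l + 2)} (h : D.Rep g w) {i j p : Fin (l + 2)} (hjp : j ≠ p)
    (h1 : ∀ u t, D.C2 (.inl i) (.inl j) (.inl p) u t) (u t : F) : D.C2 (w (.inl i)) (w (.inl j)) (w (.inl p)) u t := by
  obtain ⟨u', hu⟩ := h.surj (ll_ne i j) u
  obtain ⟨t', ht⟩ := h.surj (a := (Sum.inl j).swap) (b := .inl p) (by simpa using hjp) t
  obtain ⟨v, hv⟩ := h1 u' t'
  obtain ⟨v', hv'⟩ := h.ex (ll_ne i p) v
  refine ⟨v', ?_⟩
  rw [← h.sw, hu, ht, hv', conj_mul, hv]; group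

theorem c2_T {i j p : Fin (l + 2)} (hjp : j ≠ p) {u t : F} (h1 : D.C2 (.inl i) (.inl j) (.inl p) u t)
    (m : Fin (l + 2)) (e : Fˣ) :
    D.C2 (.inl i) (.inl j) (.inl p) ((if i = m then (e : F) else 1) * (if j = m then (e : F) else 1) * u)
      ((if j = m then (e : F)⁻¹ else 1) * (if p = m then (e : F) else 1) * t) := by
  obtain ⟨v, hv⟩ := h1
  have a1 := R.T m e (ll_ne i j) u
  have a2 := R.T m e (a := (Sum.inl j).swap) (b := .inl p) (by simpa using hjp) t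
  simp only [ix, sg, Sum.elim_inl, id, zpow_one, Sum.swap_inl, Sum.elim_inr, zpow_neg] at a1 a2 hv
  exact ⟨_, by rw [Sum.swap_inl, ← a1, ← a2, ← R.T m e (ll_ne i p) v, conj_mul, hv]; group⟩

theorem c2_all (a b c : Idx (l + 2)) (h1 : ix a ≠ ix b) (h2 : ix b ≠ ix c) (h3 : a.swap ≠ c) : ∀ u t, D.C2 a b c u t := by
  haveI := R.fin
  have z1 : ∀ a b c t, D.C2 a b c 0 t := fun a b c t => ⟨0, by simp [R.y_zero]⟩
  have z2 : ∀ a b c u, D.C2 a b c u 0 := fun a b c t => ⟨0, by simp [R.y_zero]⟩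
  by_cases e : a = c
  · subst e
    obtain ⟨g, w, h0, rfl, rfl⟩ := R.rep2 h1
    refine c2_rep h0 (by simp) fun u t => ?_
    have key : ∀ u, D.C2 (.inl 0) (.inl 1) (.inl 0) u 1 := fun u => by
      induction u using sq_induction with
      | h0 => exact z1 ..
      | h1 e => simpa [sq] using R.c2_T (by simp) (R.c2_T (by simp) R.c2 1 e) 0 e
      | h2 a b ha hb =>
        obtain ⟨v, hv⟩ := ha
        obtain ⟨v', hv'⟩ := hb
        refine ⟨v + v', ?_⟩
        rw [R.yadd, R.yadd, mul_assoc, hv', ← mul_assoc, ← mul_assoc, hv, mul_assoc _ _ (D.y _ _ b),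
          (R.far1 (by simp [ix]) v b).eq]
        group
    induction t using unit_induction with
    | h0 => exact z2 ..
    | h1 e => simpa using R.c2_T (by simp) (key ((e⁻¹ : Fˣ) * u)) 0 e
  · obtain ⟨h, g, w, h0, rfl, rfl, rfl⟩ := R.rep3 h1 (ix_ne e h3) h2
    refine c2_rep h0 (by simp [Fin.ext_iff]) fun u t => ?_
    induction u using unit_induction with
    | h0 => exact z1 ..
    | h1 u =>
      induction t using unit_induction with
      | h0 => exact z2 ..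
      | h1 e =>
        simpa [Fin.ext_iff] using R.c2_T (by simp [Fin.ext_iff]) (R.c2_T (by simp [Fin.ext_iff]) (R.c5 h) 0 u) ⟨2, h⟩ e

theorem c3_all (a b : Idx (l + 2)) (h1 : ix a ≠ ix b) (u t : F) : D.C3 a b u t := by
  haveI := R.fin
  have hT : ∀ u t, D.C3 (.inl 0) (.inl 1) u t → ∀ (m : Fin (l + 2)) (e : Fˣ), D.C3 (.inl 0) (.inl 1)
      ((if 0 = m then (e : F) else 1) * (if 1 = m then (e : F) else 1) * u)
      ((if 1 = m then (e : F)⁻¹ else 1) * (if 1 = m then (e : F)⁻¹ else 1) * t) := fun u t ⟨v, v', hv⟩ m e => by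
    have a1 := R.T m e (ll_ne 0 1) u
    have a2 := R.T m e (a := .inr 1) (b := .inr 1) (by simp) t
    simp only [ix, sg, Sum.elim_inl, id, zpow_one, Sum.elim_inr, zpow_neg, Sum.swap_inl] at a1 a2 hv
    refine ⟨_, _, by
      rw [Sum.swap_inl, ← a1, ← a2, ← R.T m e (ll_ne 0 0) v', ← R.T m e (lr_ne (by simp)) v, conj_mul, hv]
      group⟩
  have key : ∀ u t, D.C3 (.inl 0) (.inl 1) u t := fun u t => by
    induction u using unit_induction with
    | h0 => exact ⟨0, 0, by simp [R.y_zero]⟩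
    | h1 u =>
      induction t using sq_induction with
      | h0 => exact ⟨0, 0, by simp [R.y_zero]⟩
      | h1 e => simpa [sq] using hT _ _ (hT _ _ R.c3 0 (e * u)) 1 e⁻¹
      | h2 a b ha hb =>
        obtain ⟨v, w, hv⟩ := ha
        obtain ⟨v', w', hv'⟩ := hb
        refine ⟨v' + v, w' + w, ?_⟩
        have f1 := R.far (.inl 0) (.inr 1) (.inr 1) (.inr 1) (by simp) (by simp) (by simp) (by simp) (by simp) (by simp) v b
        have f2 := R.far (.inl 0) (.inl 0) (.inr 1) (.inr 1) (by simp) (by simp) (by simp) (by simp) (by simp) (by simp) w b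
        have f3 := R.far1 (a := .inl 0) (b := .inr 1) (by simp [ix]) w' v
        simp only [Sum.swap_inl] at hv hv' ⊢
        rw [R.yadd, R.yadd, R.yadd, ← mul_assoc, hv, mul_assoc _ _ (D.y _ _ b), (f1.mul_left f2).eq, ← mul_assoc,
          mul_assoc _ _ (D.y _ _ b), hv']
        simp only [mul_assoc, mul_right_inj]
        rw [← mul_assoc, f3.eq, mul_assoc]
  obtain ⟨g, w, h, rfl, rfl⟩ := R.rep2 h1
  obtain ⟨u', hu⟩ := h.surj (ll_ne 0 1) u
  obtain ⟨t', ht⟩ := h.surj (swap_ne (Sum.inl 1).swap) t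
  obtain ⟨v, v', hv⟩ := key u' t'
  obtain ⟨z, hz⟩ := h.ex (a := .inl 0) (b := (Sum.inl 1).swap) (by simp) v
  obtain ⟨z', hz'⟩ := h.ex (ll_ne 0 0) v'
  refine ⟨z, z', ?_⟩
  rw [← h.sw, hu, ht, hz, hz', conj_mul, hv]; group

/-- the system of root elements -/
def cs : CS (l + 2) F H := ⟨D.y, R.symm, fun a b _ => R.yadd a b, R.far, R.c2_all, R.c3_all⟩

theorem y_mem {a b : Idx (l + 2)} (h : a.swap ≠ b) (t : F) : D.y a b t ∈ R.cs.rg0.grp := R.cs.y_mem h t

theorem inj : Function.Injective π := by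
  haveI := R.fin
  have hk : ∀ i A, D.k i A ∈ R.cs.rg0.grp := fun i A => by
    have : R.cs.rg0.grp.comap (D.k i) = ⊤ := SL_eq_top_of_transvection_mem fun p q hpq c => by
      fin_cases p <;> fin_cases q
      · exact absurd rfl hpq
      · have := R.y_mem (swap_ne (.inl i)) c
        simp only [Dat.y, if_true] at this
        convert this using 1
        rw [mem_comap]
        congr! 2
        ext p q; fin_cases p <;> fin_cases q <;> simp [X2v, Matrix.SpecialLinearGroup.transvection_coe]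
      · have := R.y_mem (swap_ne (.inr i)) c
        simp only [Dat.y, if_true] at this
        convert this using 1
        rw [mem_comap]
        congr! 2
        ext p q; fin_cases p <;> fin_cases q <;> simp [L2v, Matrix.SpecialLinearGroup.transvection_coe]
      · exact absurd rfl hpq
    exact mem_comap.1 (this ▸ mem_top A)
  have hκ : ∀ A, D.κ A ∈ R.cs.rg0.grp := fun A => D.k_zero A ▸ hk 0 A
  have hx : D.x 1 ∈ R.cs.rg0.grp := by
    have := R.y_mem (lr_ne (i := 0) (j := 1) (by simp)) 1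
    simpa [Dat.y, R.X0] using this
  have hc : ∀ σ, ∀ g ∈ R.cs.rg0.grp, D.φ σ * g * (D.φ σ)⁻¹ ∈ R.cs.rg0.grp := fun σ =>
    R.cs.grp_le (M := R.cs.rg0.grp.comap (MulAut.conj (D.φ σ)).toMonoidHom) fun a b t h => by
      change D.φ σ * D.y a b t * _ ∈ R.cs.rg0.grp
      rw [R.N1]
      exact R.y_mem (by rw [← hat_swap]; exact (hat_inj σ).ne h) t
  have hs : D.φ (swap 0 1) ∈ R.cs.rg0.grp := by
    rw [R.c7]
    exact mul_mem (mul_mem (mul_mem (R.y_mem (by simp) _) (R.y_mem (by simp) _)) (R.y_mem (by simp) _)) (hκ _)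
  have hφ : ∀ σ, D.φ σ ∈ R.cs.rg0.grp := fun σ => by
    have : ⊤ ≤ R.cs.rg0.grp.comap D.φ := by
      rw [← Perm.closure_isSwap, closure_le]
      rintro _ ⟨i, j, h, rfl⟩
      have := hc (sp i j) _ hs
      rwa [← map_inv, ← map_mul, ← map_mul, ← Equiv.swap_apply_apply, sp0 h, sp1] at this
    exact this (mem_top σ)
  rw [injective_iff_map_eq_one]
  exact fun g hg => R.cs.inj (by omega) π (fun a b t h => R.πy h t) (Or.inl R.fin) (R.gen _ hφ hκ hx ▸ mem_top g) hg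

end Rel2

end Cfsg.Agent.H6.Sp
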