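import Cfsg.Agent.H28.RgD

/-! The root system of type `C`. -/

set_option autoImplicit false

namespace Cfsg.Agent.H6.Sp

open Cfsg.Agent.H14 Cfsg.Agent.H28 Matrix

/-- a root system given by Euclidean vectors -/
structure EucL (ι Φ μ : Type) [Fintype ι] [DecidableEq ι] [Fintype μ] where
  vec : Φ → ι → ℤ
  E : (ι → ℤ) →ₗ[ℤ] (μ → ℤ)
  simple : ι → Φ
  neg : Φ → Φ
  len : Φ → ℤ
  pr : Φ → Φ → ℤ
  rf : Φ → Φ → Φ
  E_inj : ∀ v, E v = 0 → v = 0
  vec_inj : Function.Injective vec
  vec_simple : ∀ i, vec (simple i) = Pi.single i 1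
  vec_neg : ∀ r, vec (neg r) = - vec r
  pos_or_neg : ∀ r, 0 ≤ vec r ∨ vec r ≤ 0
  len_pos : ∀ r, 0 < len r
  pr_len : ∀ r s, pr r s * len r = E (vec r) ⬝ᵥ E (vec s)
  pr_self : ∀ r, pr r r = 2
  dvd : ∀ r i, len r ∣ vec r i * len (simple i)
  refl : ∀ r s, E (vec (rf r s)) = E (vec s) - pr r s • E (vec r)

namespace EucL

variable {ι Φ μ : Type} [Fintype ι] [DecidableEq ι] [Fintype μ] (D : EucL ι Φ μ)

theorem sum_single (u : μ → ℤ) (v : ι → ℤ) : ∑ j, u ⬝ᵥ D.E (Pi.single j 1) * v j = u ⬝ᵥ D.E v := by
  conv_rhs => rw [← Finset.univ_sum_single v, map_sum, dotProduct_sum]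
  refine Finset.sum_congr rfl fun j _ => ?_
  rw [show Pi.single j (v j) = v j • (Pi.single j 1 : ι → ℤ) by ext; simp [Pi.single_apply], map_smul,
    dotProduct_smul, smul_eq_mul, mul_comm]

theorem E_injective : Function.Injective D.E := (injective_iff_map_eq_zero _).2 D.E_inj

theorem ap_len (i : ι) (v : ι → ℤ) :
    (∑ j, D.pr (D.simple i) (D.simple j) * v j) * D.len (D.simple i) = D.E (Pi.single i 1) ⬝ᵥ D.E v := by
  rw [← D.sum_single, Finset.sum_mul]
  refine Finset.sum_congr rfl fun j _ => ?_
  rw [mul_right_comm, D.pr_len, D.vec_simple, D.vec_simple]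

theorem form_eq (u v : ι → ℤ) :
    ∑ i, D.len (D.simple i) * u i * ∑ j, D.pr (D.simple i) (D.simple j) * v j = D.E u ⬝ᵥ D.E v := by
  rw [dotProduct_comm, ← D.sum_single]
  refine Finset.sum_congr rfl fun j _ => ?_
  rw [dotProduct_comm, ← D.ap_len]; ring

/-- the root system -/
noncomputable def rs : RS ι Φ where
  vec := D.vec
  cov := fun r i => D.vec r i * D.len (D.simple i) / D.len r
  len := D.len
  car := fun i j => D.pr (D.simple i) (D.simple j)
  simple := D.simple
  neg := D.neg
  srefl := fun i s => D.rf (D.simple i) s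
  vec_inj := D.vec_inj
  vec_simple := D.vec_simple
  vec_neg := D.vec_neg
  len_pos := D.len_pos
  cov_len := fun r i => Int.ediv_mul_cancel (D.dvd r i)
  car_symm := fun i j => by rw [mul_comm, D.pr_len, mul_comm, D.pr_len, dotProduct_comm]
  pos_or_neg := D.pos_or_neg
  pair_self' := fun r => by
    apply mul_right_cancel₀ (D.len_pos r).ne'
    rw [← D.pr_self r, D.pr_len, ← D.form_eq, Finset.sum_mul]
    refine Finset.sum_congr rfl fun i _ => ?_
    rw [mul_right_comm, Int.ediv_mul_cancel (D.dvd r i)]; ring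
  vec_srefl' := fun i s => D.E_injective (by
    rw [D.refl, map_sub, map_smul, D.vec_simple]
    congr 2
    apply mul_right_cancel₀ (D.len_pos (D.simple i)).ne'
    rw [D.ap_len, D.pr_len, D.vec_simple])
  car_inj' := fun v h => D.E_inj v (dotProduct_self_eq_zero.1 (by
    rw [← D.form_eq]
    exact Finset.sum_eq_zero fun i _ => by rw [h, mul_zero]))

@[simp] theorem rs_vec : D.rs.vec = D.vec := rfl
@[simp] theorem rs_neg : D.rs.neg = D.neg := rfl
@[simp] theorem rs_simple : D.rs.simple = D.simple := rfl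

theorem pair_eq (r s : Φ) : D.rs.pair r s = D.pr r s := by
  apply mul_right_cancel₀ (D.len_pos r).ne'
  exact (D.rs.pair_mul_len r s).trans ((D.form_eq _ _).trans (D.pr_len r s).symm)

theorem refl_eq (r s : Φ) : D.rs.refl r s = D.rf r s := D.vec_inj (D.E_injective (by
  rw [D.refl, ← D.pair_eq, ← map_smul, ← map_sub]; exact congrArg _ (D.rs.vec_refl r s)))

end EucL

variable {n : ℕ}

theorem swap_ne_comm {a b : Idx n} : a.swap ≠ b ↔ b.swap ≠ a := by
  cases a <;> cases b <;> simp [eq_comm]

theorem ix_ne {a b : Idx n} (h1 : a ≠ b) (h2 : a.swap ≠ b) : ix a ≠ ix b := by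
  cases a <;> cases b <;> simp_all [ix]

/-- the condition on a pair of indices to give a root -/
def IsRt : Sym2 (Idx n) → Prop := Sym2.lift ⟨fun a b => a.swap ≠ b, fun _ _ => propext swap_ne_comm⟩

/-- the roots of type C -/
abbrev ΦC (n : ℕ) : Type := {s : Sym2 (Idx n) // IsRt s}

/-- the root with the given weights -/
abbrev rt (a b : Idx n) (h : a.swap ≠ b) : ΦC n := ⟨s(a, b), h⟩

theorem rt_comm (a b : Idx n) (h : a.swap ≠ b) : rt a b h = rt b a (swap_ne_comm.1 h) := Subtype.ext Sym2.eq_swap

@[elab_as_elim]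
theorem rt_ind {P : ΦC n → Prop} (h : ∀ a b hab, P (rt a b hab)) (r : ΦC n) : P r := by
  obtain ⟨s, hs⟩ := r
  induction s using Sym2.ind with
  | h a b => exact h a b hs

/-- the grading of type C -/
def νC : Idx n → Fin n → ℤ
  | .inl i, k => if i.val ≤ k.val then 1 else 0
  | .inr i, k => if i.val ≤ k.val ∧ k.val + 1 < n then -1 else 0

/-- the last simple root -/
def δC (k : Fin n) : ℤ := if k.val + 1 = n then 1 else 0

theorem νC_swap (a : Idx n) : νC a.swap = δC - νC a := by
  ext k
  have := k.2
  rcases a with i | i <;> have := i.2 <;> simp only [νC, δC, Sum.swap_inl, Sum.swap_inr, Pi.sub_apply] <;>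
    split_ifs <;> omega

/-- the Euclidean embedding of type C -/
def EC (n : ℕ) : (Fin n → ℤ) →ₗ[ℤ] (Fin n → ℤ) where
  toFun v a := (if a.val + 1 = n then 2 else 1) * v a - if a.val = 0 then 0 else ext0 v (a - 1)
  map_add' v w := by ext a; simp only [ext0_add, Pi.add_apply]; split_ifs <;> ring
  map_smul' c v := by ext a; simp only [ext0_smul, Pi.smul_apply, smul_eq_mul, RingHom.id_apply]; split_ifs <;> ring

theorem EC_ν (a : Idx n) : EC n (νC a) = εD a + δC := by
  ext k
  have := k.2
  rcases a with i | i <;> have := i.2 <;>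
    simp only [EC, ext0, νC, δC, εD, sg, ix, LinearMap.coe_mk, AddHom.coe_mk, Pi.add_apply, Pi.smul_apply,
      Pi.single_apply, Fin.ext_iff, Sum.elim_inl, Sum.elim_inr, id, smul_eq_mul] <;> split_ifs <;> omega

theorem EC_δ : EC n δC = δC + δC := by
  ext k
  have := k.2
  simp only [EC, ext0, δC, LinearMap.coe_mk, AddHom.coe_mk, Pi.add_apply]
  split_ifs <;> omega

theorem EC_inj (v : Fin n → ℤ) (h : EC n v = 0) : v = 0 := by
  have key : ∀ k, k < n → ext0 v k = 0 := fun k => by
    induction k with
    | zero =>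
      intro hk
      have := congrFun h ⟨0, hk⟩
      simp only [EC, LinearMap.coe_mk, AddHom.coe_mk, if_true, Pi.zero_apply] at this
      rw [ext0, dif_pos hk]
      split_ifs at this <;> omega
    | succ k ih =>
      intro hk
      have := congrFun h ⟨k + 1, hk⟩
      simp only [EC, LinearMap.coe_mk, AddHom.coe_mk, Pi.zero_apply, Nat.add_sub_cancel, ih (by omega)] at this
      rw [ext0, dif_pos hk]
      split_ifs at this <;> omega
  ext k
  exact (ext0_val v k).symm.trans (key _ k.2)

/-- coordinates of a root -/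
def vecC (r : ΦC n) : Fin n → ℤ := Sym2.lift ⟨fun a b => νC a + νC b - δC, fun a b => by simp only [add_comm]⟩ r.1

theorem vecC_rt (a b : Idx n) (h : a.swap ≠ b) : vecC (rt a b h) = νC a + νC b - δC := rfl

theorem EC_vec (a b : Idx n) (h : a.swap ≠ b) : EC n (vecC (rt a b h)) = εD a + εD b := by
  rw [vecC_rt, map_sub, map_add, EC_ν, EC_ν, EC_δ]; abel

/-- the permutation of the basis vectors -/
def σC (x y : Idx n) : Equiv.Perm (Idx n) := if x = y then Equiv.swap x x.swap else σD x y

/-- the pairing of a coroot with a weight -/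
def pC (x y z : Idx n) : ℤ := if x = y then ip x z else ip x z + ip y z

theorem σC_comm (x y : Idx n) (h : x.swap ≠ y) : σC x y = σC y x := by
  by_cases e : x = y
  · rw [e]
  have h' := ix_ne e h
  rw [σC, σC, if_neg e, if_neg (Ne.symm e)]
  ext z
  have := neD h'
  have := σD_cases h' z
  have := σD_cases h'.symm z
  grind

theorem pC_comm (x y z : Idx n) : pC x y z = pC y x z := by
  by_cases e : x = y
  · rw [e]
  · rw [pC, pC, if_neg e, if_neg (Ne.symm e), add_comm]

theorem σC_swap {x y : Idx n} (h : x.swap ≠ y) (z : Idx n) : σC x y z.swap = (σC x y z).swap := by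
  unfold σC; split_ifs with e
  · simp only [Equiv.swap_apply_def]
    have := swap_ne x
    grind [H28.swap_eq_iff, swap_inj, Sum.swap_swap]
  · exact σD_swap (ix_ne e h) z

theorem σC_σC {x y : Idx n} (h : x.swap ≠ y) (z : Idx n) : σC x y (σC x y z) = z := by
  unfold σC; split_ifs with e
  · simp
  · exact σD_σD (ix_ne e h) z

theorem εD_σC {x y : Idx n} (h : x.swap ≠ y) (z : Idx n) : εD (σC x y z) = εD z - pC x y z • (εD x + εD y) := by
  unfold σC pC; split_ifs with e
  · subst e
    have := swap_ne x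
    by_cases h1 : z = x
    · subst h1; simp [ip, εD_swap, this.symm]
    by_cases h2 : z = x.swap
    · subst h2; simp [ip, εD_swap, this.symm]
    · rw [Equiv.swap_apply_of_ne_of_ne h1 h2]
      simp [ip, Ne.symm h1, swap_ne_comm.1 (Ne.symm h2) |>.symm]
  · exact εD_σD (ix_ne e h) z

/-- the action of a permutation commuting with the involution on the roots -/
def mapC (w : Idx n → Idx n) (hw : ∀ a b, a.swap ≠ b → (w a).swap ≠ w b) (r : ΦC n) : ΦC n :=
  ⟨r.1.map w, by induction r using rt_ind with | h a b hab => exact hw a b hab⟩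

theorem σC_rt {x y : Idx n} (h : x.swap ≠ y) (a b : Idx n) (hab : a.swap ≠ b) : (σC x y a).swap ≠ σC x y b := by
  rw [← σC_swap h]; exact (σC x y).injective.ne hab

/-- the permutation of a root -/
def σR (r : ΦC n) : Equiv.Perm (Idx n) :=
  Sym2.lift ⟨fun x y => if x.swap = y then 1 else σC x y, fun x y => by
    beta_reduce
    by_cases h : x.swap = y
    · rw [if_pos h, if_pos (by rw [← h, Sum.swap_swap])]
    · rw [if_neg h, if_neg (swap_ne_comm.1 h), σC_comm x y h]⟩ r.1

theorem σR_rt (x y : Idx n) (h : x.swap ≠ y) : σR (rt x y h) = σC x y := if_neg h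

/-- the pairing of a coroot with a weight -/
def pR (r : ΦC n) (z : Idx n) : ℤ := Sym2.lift ⟨fun x y => pC x y z, fun x y => pC_comm x y z⟩ r.1

theorem lr_ne {i j : Fin n} (h : i ≠ j) : (Sum.inl i : Idx n).swap ≠ Sum.inr j := by simpa using h

theorem ne_succ {k : Fin n} (h : k.val + 1 < n) : k ≠ ⟨k + 1, h⟩ := by simp [Fin.ext_iff]

/-- the fundamental roots of type C -/
def simpleC (k : Fin n) : ΦC n :=
  if h : k.val + 1 < n then rt (.inl k) (.inr ⟨k + 1, h⟩) (lr_ne (ne_succ h)) else rt (.inl k) (.inl k) (swap_ne _)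

/-- half the squared length -/
def lenC (r : ΦC n) : ℤ := Sym2.lift ⟨fun x y => if x = y then 2 else 1, fun x y => by simp only [eq_comm]⟩ r.1

/-- the root system of type C -/
def eucC (n : ℕ) : EucL (Fin n) (ΦC n) (Fin n) where
  vec := vecC
  E := EC n
  simple := simpleC
  neg := mapC Sum.swap fun a b h => by simpa [swap_inj] using fun e => h (by rw [e, Sum.swap_swap])
  len := lenC
  pr r s := Sym2.lift ⟨fun a b => pR r a + pR r b, fun a b => add_comm _ _⟩ s.1
  rf r := mapC (σR r) (by induction r using rt_ind with | h x y h => rw [σR_rt]; exact σC_rt h)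
  E_inj := EC_inj
  vec_inj r s h := by
    induction r using rt_ind with | h a b hab => ?_
    induction s using rt_ind with | h c d hcd => ?_
    have h1 := congrArg (EC n) h
    simp only [EC_vec] at h1
    have h2 := congrArg (· ⬝ᵥ εD a) h1
    have h3 := congrArg (· ⬝ᵥ εD b) h1
    have h4 := congrArg (· ⬝ᵥ εD c) h1
    have := swap_ne a
    have := swap_ne b
    have := swap_ne c
    have := swap_ne_comm.1 hab
    have := swap_ne_comm.1 hcd
    simp only [add_dotProduct, εD_dot, ip] at h2 h3 h4
    refine Subtype.ext (Sym2.eq_iff.2 ?_)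
    grind
  vec_simple k := by
    ext j
    have := k.2
    have := j.2
    unfold simpleC
    split_ifs <;> rw [vecC_rt] <;> simp only [νC, δC, Pi.sub_apply, Pi.add_apply, Pi.single_apply, Fin.ext_iff] <;>
      split_ifs <;> omega
  vec_neg r := by
    induction r using rt_ind with | h a b hab => ?_
    change νC a.swap + νC b.swap - δC = -(νC a + νC b - δC)
    rw [νC_swap, νC_swap]; abel
  pos_or_neg r := by
    induction r using rt_ind with | h a b hab => ?_
    rcases a with i | i <;> rcases b with j | j <;> have := i.2 <;> have := j.2 <;> rcases le_total i.val j.val with h | h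
    all_goals first
      | (refine Or.inl fun k => ?_
         simp only [vecC_rt, νC, δC, Pi.sub_apply, Pi.add_apply, Pi.zero_apply]; split_ifs <;> omega)
      | (refine Or.inr fun k => ?_
         simp only [vecC_rt, νC, δC, Pi.sub_apply, Pi.add_apply, Pi.zero_apply]; split_ifs <;> omega)
  len_pos r := by
    induction r using rt_ind with | h a b hab => ?_
    change 0 < if a = b then (2 : ℤ) else 1
    split_ifs <;> omega
  pr_len r s := by
    induction r using rt_ind with | h x y hxy => ?_
    induction s using rt_ind with | h a b hab => ?_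
    change (pC x y a + pC x y b) * (if x = y then (2 : ℤ) else 1) = _
    simp only [EC_vec, add_dotProduct, dotProduct_add, εD_dot, pC]
    split_ifs with e
    · rw [e]; ring
    · ring
  pr_self r := by
    induction r using rt_ind with | h x y hxy => ?_
    change pC x y x + pC x y y = 2
    have := swap_ne x
    have := swap_ne y
    have := swap_ne_comm.1 hxy
    simp only [pC, ip]
    grind
  dvd r i := by
    induction r using rt_ind with | h x y hxy => ?_
    change (if x = y then (2 : ℤ) else 1) ∣ _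
    split_ifs with e
    · subst e
      unfold simpleC
      split_ifs with h
      · refine Dvd.dvd.mul_right ⟨νC x i, ?_⟩ _
        simp only [vecC_rt, δC, Pi.sub_apply, Pi.add_apply, if_neg h.ne]; ring
      · exact Dvd.dvd.mul_left (by simp [lenC]) _
    · exact one_dvd _
  refl r s := by
    induction r using rt_ind with | h x y hxy => ?_
    induction s using rt_ind with | h a b hab => ?_
    change EC n (vecC (rt (σR (rt x y hxy) a) (σR (rt x y hxy) b) _)) = _ - (pC x y a + pC x y b) • _
    simp only [EC_vec, σR_rt, εD_σC hxy]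
    module

/-- the root system of type C -/
noncomputable abbrev rsC (n : ℕ) : RS (Fin n) (ΦC n) := (eucC n).rs

theorem pairC (x y a b : Idx n) (h : x.swap ≠ y) (h' : a.swap ≠ b) :
    (rsC n).pair (rt x y h) (rt a b h') = pC x y a + pC x y b := (eucC n).pair_eq _ _

theorem reflC (x y a b : Idx n) (h : x.swap ≠ y) (h' : a.swap ≠ b) :
    (rsC n).refl (rt x y h) (rt a b h') = rt (σC x y a) (σC x y b) (σC_rt h a b h') := by
  rw [EucL.refl_eq]
  exact Subtype.ext (by change s(σR _ a, σR _ b) = _; rw [σR_rt])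

theorem negC (a b : Idx n) (h : a.swap ≠ b) : (rsC n).neg (rt a b h) =
    rt a.swap b.swap (by rw [Sum.swap_swap]; exact (swap_ne_comm.1 h).symm) := rfl

theorem vec_rt (a b : Idx n) (h : a.swap ≠ b) : (rsC n).vec (rt a b h) = νC a - νC b.swap := by
  rw [νC_swap]; exact (vecC_rt a b h).trans (by abel)

theorem vecC_eq {a b : Idx n} (h : a.swap ≠ b) {v : Fin n → ℤ} (e : EC n v = εD a + εD b) : v = (rsC n).vec (rt a b h) :=
  (eucC n).E_injective (e.trans (EC_vec a b h).symm)

theorem mem_comb {r s k : ΦC n} (i j : ℕ) (hi : 0 < i) (hj : 0 < j)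
    (h : EC n (vecC k) = (i : ℤ) • EC n (vecC r) + (j : ℤ) • EC n (vecC s)) : k ∈ (rsC n).comb r s :=
  ⟨i, j, hi, hj, (eucC n).E_injective (by rw [map_add, map_smul, map_smul]; exact h)⟩

end Cfsg.Agent.H6.Sp
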