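import Cfsg.Agent.H6.SpG

/-! Steinberg's theorem for the symplectic group. -/

set_option autoImplicit false

namespace Cfsg.Agent.H6.Sp

open Cfsg.Agent.H14 Cfsg.Agent.H28 Cfsg.Agent.H12 Matrix

variable {n : ℕ} {K : Type*} [Field K] {G : Type*} [Group G]

theorem pC_σC {x y : Idx n} (h : x.swap ≠ y) (z : Idx n) : pC x y (σC x y z) = -pC x y z := by
  have h1 := congrArg ((εD x + εD y) ⬝ᵥ ·) (εD_σC h z)
  have := swap_ne x
  have := swap_ne y
  have := swap_ne_comm.1 h
  simp only [dotProduct_sub, dotProduct_smul, add_dotProduct, dotProduct_add, εD_dot, smul_eq_mul] at h1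
  simp only [pC] at h1 ⊢
  split_ifs at h1 ⊢ with e
  · subst e
    simp only [ip, if_true, if_neg (swap_ne x).symm] at h1 ⊢
    omega
  · have a1 : ip x x = 1 := by simp [ip, (swap_ne x).symm]
    have a2 : ip y y = 1 := by simp [ip, (swap_ne y).symm]
    have a3 : ip x y = 0 := by simp [ip, e, (swap_ne_comm.1 h).symm]
    have a4 : ip y x = 0 := by simp [ip, Ne.symm e, h.symm]
    rw [a1, a2, a3, a4] at h1
    omega

theorem hC_single {x y : Idx n} (h : x.swap ≠ y) {t : K} (ht : t ≠ 0) (z : Idx n) :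
    ((rgC n K).h (rt x y h) t).1 (ee z) = (t ^ pC x y z) • ee z := by
  have h1 := nC_single (K := K) h one_ne_zero (σC x y z)
  have h2 := nC_single h ht (σC x y z)
  have h3 : (δC' x y (σC x y z) : K) * δC' x y (σC x y z) = 1 := by
    rcases δC'_or x y (σC x y z) with e | e <;> simp [e]
  rw [σC_σC h, pC_σC h, neg_neg] at h1 h2
  rw [_root_.one_zpow, mul_one] at h1
  have h4 : (((csC n K).rg0.n (rt x y h) 1)⁻¹).1 (ee z) = (δC' x y (σC x y z) : K) • ee (σC x y z) :=
    UG_inv_apply_eq (by rw [map_smul, h1, smul_smul, h3, one_smul])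
  change ((csC n K).rg0.n _ t).1 (((csC n K).rg0.n _ (-1)).1 _) = _
  rw [RG0.n_neg, h4, map_smul, h2, smul_smul, ← mul_assoc, h3, one_mul]

theorem hmul_of_long (X : RG (rsC n) K G)
    (hm : ∀ a t u, t ≠ 0 → u ≠ 0 → X.h (rt a a (swap_ne a)) (t * u) = X.h (rt a a (swap_ne a)) t * X.h (rt a a (swap_ne a)) u) :
    X.HMul := by
  intro r
  induction r using rt_ind with | h a b hab => ?_
  by_cases e : a = b
  · subst e; exact hm a
  have h := ix_ne e hab
  obtain ⟨a1, a2, a3, a4, a5, a6, a7, a8, a9, a10, a11, a12⟩ := neD h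
  have key : ∀ t, t ≠ 0 → X.h (rt a b hab) t =
      X.h (rt a a (swap_ne a)) t * (X.h (rt b.swap b.swap (swap_ne _)) t)⁻¹ := fun t ht => by
    obtain ⟨c, hc⟩ := (X.rep_n (rt a b hab) one_ne_zero).conj_h (rt a a (swap_ne a))
    have h1 := hc t
    have h2 : X.h (rt a a (swap_ne a)) t * X.n (rt a b hab) 1 * (X.h (rt a a (swap_ne a)) t)⁻¹ = X.n (rt a b hab) t := by
      have p1 := X.h_conj (rt a a (swap_ne a)) (rt a b hab) ht
      have p2 := X.h_conj (rt a a (swap_ne a)) ((rsC n).neg (rt a b hab)) ht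
      rw [RS.pair_neg_right] at p2
      rw [pairC, show pC a a a + pC a a b = 1 by simp [pC, ip, *]] at p1 p2
      rw [RG0.n, RG0.n, show ∀ g x y z : G, g * (x * y * z) * g⁻¹ = (g * x * g⁻¹) * (g * y * g⁻¹) * (g * z * g⁻¹) by
        intros; group, p1, p2]
      simp
    rw [RS.rP_apply, reflC, mul_comm (c : K)] at h1
    have h3 : σC a b a = b.swap := by have := σD_cases h a; rw [σC, if_neg e]; grind
    simp only [h3] at h1
    rw [hm _ _ _ ht c.ne_zero, mul_inv_cancel_right] at h1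
    rw [← h1, RG0.h, ← h2, RG0.n_neg]
    group
  have cm : ∀ c d t u, t ≠ 0 → u ≠ 0 → Commute (X.h (rt c c (swap_ne c)) t) (X.h (rt d d (swap_ne d)) u) :=
    fun c d t u ht hu => by
    obtain ⟨k, hk⟩ := (X.rep_h (rt c c (swap_ne c)) ht).conj_h (rt d d (swap_ne d))
    have := hk u
    rw [mul_comm (k : K), Equiv.Perm.one_apply, hm _ _ _ hu k.ne_zero, mul_inv_cancel_right, mul_inv_eq_iff_eq_mul] at this
    exact this
  intro t u ht hu
  rw [key _ (mul_ne_zero ht hu), key _ ht, key _ hu, hm _ _ _ ht hu, mul_comm t u, hm _ _ _ hu ht, _root_.mul_inv_rev,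
    mul_assoc, mul_assoc, ← mul_assoc (X.h _ u), (cm a b.swap u t hu ht).inv_right.eq, mul_assoc]

theorem torX_inj (hm : (rgC n K).HMul) {c : Fin n → Kˣ} (h : (rgC n K).torX hm c = 1) : c = 1 := by
  let m : Fin n → Fin n → ℤ := fun i k => (if k = i then 1 else 0) - if k.val + 1 = i.val then 1 else 0
  have key : ∀ i c, ((rgC n K).torX hm c).1 (ee (.inl i)) = ((∏ k, c k ^ m i k : Kˣ) : K) • ee (.inl i) := fun i c => by
    induction c using Pi.mulSingle_induction with
    | one => simp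
    | mul f g hf hg => rw [map_mul, UG_mul_apply, hg, map_smul, hf, smul_smul]; simp [mul_zpow, Finset.prod_mul_distrib, mul_comm]
    | mulSingle k t =>
      rw [RG.torX_single, Finset.prod_eq_single k (by simp +contextual) (by simp)]
      simp only [EucL.rs_simple, eucC, simpleC, Pi.mulSingle_eq_same, Units.val_zpow_eq_zpow_val]
      have := i.2
      split_ifs with e <;> rw [hC_single _ t.ne_zero] <;> congr 2 <;> simp [pC, ip, m, Fin.ext_iff] <;> omega
  have k2 : ∀ i, ∏ k, c k ^ m i k = 1 := fun i => by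
    have := congrFun (key i c) (.inl i)
    rw [h] at this
    exact Units.ext (by simpa using this.symm)
  have k3 : ∀ j (hj : j < n), c ⟨j, hj⟩ = 1 := fun j => by
    induction j with
    | zero =>
      intro hj
      have := k2 ⟨0, hj⟩
      rw [Finset.prod_eq_single ⟨0, hj⟩ (fun k _ hk => by simp [m, hk]) (by simp)] at this
      simpa [m] using this
    | succ j ih =>
      intro hj
      have := k2 ⟨j + 1, hj⟩
      rw [Finset.prod_eq_single ⟨j + 1, hj⟩ (fun k _ hk => ?_) (by simp)] at this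
      · simpa [m] using this
      · by_cases e : k.val = j
        · rw [show k = ⟨j, by omega⟩ from Fin.ext e, ih, _root_.one_zpow]
        · simp [m, hk, e]
  exact funext fun j => k3 j j.2

/-- Steinberg's theorem -/
theorem CS.inj (hn : 2 ≤ n) (C : CS n K G) (π : G →* SpG n K) (hπ : ∀ a b t, a.swap ≠ b → π (C.y a b t) = X a b t)
    (hm : Finite K ∨ ∀ a t u, t ≠ 0 → u ≠ 0 →
      C.rg0.h (rt a a (swap_ne a)) (t * u) = C.rg0.h (rt a a (swap_ne a)) t * C.rg0.h (rt a a (swap_ne a)) u)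
    {g : G} (hg : g ∈ C.rg0.grp) (h : π g = 1) : g = 1 := by
  have e : RG0.Hom C.rg0 (rgC n K).toRG0 π := ⟨fun r t => by
    induction r using rt_ind with | h a b hab => exact hπ a b t hab⟩
  have h1 : (e.rg (rgC_dec hn)).HMul := hm.elim (fun _ => RG.hmul_of_finite _) (hmul_of_long (e.rg (rgC_dec hn)))
  have h2 : (rgC n K).HMul := fun r t u ht hu => by
    rw [← e.map_h, ← e.map_h, ← e.map_h, ← map_mul]; exact congrArg π (h1 r t u ht hu)
  have h3 := RG.mem_H_of_map_eq_one (X := e.rg (rgC_dec hn)) e hg h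
  rw [← RG.torX_range _ h1] at h3
  obtain ⟨c, rfl⟩ := h3
  have h4 : π ((e.rg (rgC_dec hn)).torX h1 c) = (rgC n K).torX h2 c :=
    DFunLike.congr_fun (MonoidHom.pi_ext (f := π.comp ((e.rg (rgC_dec hn)).torX h1)) (g := (rgC n K).torX h2) fun i t => by
      rw [MonoidHom.comp_apply, RG.torX_single, RG.torX_single]; exact e.map_h _ _) c
  rw [torX_inj h2 (h4.symm.trans h), map_one]

theorem CS.y_mem (C : CS n K G) {a b : Idx n} (h : a.swap ≠ b) (t : K) : C.y a b t ∈ C.rg0.grp :=
  C.rg0.x_mem_grp (rt a b h) t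

theorem CS.grp_le (C : CS n K G) {M : Subgroup G} (hM : ∀ a b t, a.swap ≠ b → C.y a b t ∈ M) : C.rg0.grp ≤ M :=
  C.rg0.gen_le.2 fun r _ t => by induction r using rt_ind with | h a b hab => exact hM a b t hab

end Cfsg.Agent.H6.Sp
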