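import Cfsg.Agent.H6.SpF

/-! The finite symplectic groups are generated by two elements. -/

set_option autoImplicit false

namespace Cfsg.Agent.H6.Sp

open Cfsg.Agent.H14 Cfsg.Agent.H28 Cfsg.Agent.H12 Cfsg.Agent.L0 Subgroup
open scoped MatrixGroups
open Equiv (Perm swap)

variable {l : ℕ} {F : Type*} [Field F] {M : Subgroup (SpG (l + 2) F)}

theorem X_ll {n : ℕ} (i j p q : Fin n) (t u : F) : Commute (X (.inl i) (.inl j) t) (X (.inl p) (.inl q) u) :=
  Y_far (by simp) (by simp) (by simp) (by simp) (by simp) _ _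

theorem emb_mem {n : ℕ} {M : Subgroup (SpG n F)} {i : Fin n} (h1 : ∀ t, X (.inl i) (.inl i) t ∈ M)
    (h2 : ∀ t, X (.inr i) (.inr i) t ∈ M) (A : SL(2, F)) : emb i A ∈ M := by
  have : M.comap (emb i) = ⊤ := SL_eq_top_of_transvection_mem fun p q hpq c => by
    fin_cases p <;> fin_cases q
    · exact absurd rfl hpq
    · convert h1 c using 1
      rw [mem_comap, ← emb_X2]
      congr! 2
      ext p q; fin_cases p <;> fin_cases q <;> simp [X2v, Matrix.SpecialLinearGroup.transvection_coe]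
    · convert h2 c using 1
      rw [mem_comap, ← emb_L2]
      congr! 2
      ext p q; fin_cases p <;> fin_cases q <;> simp [L2v, Matrix.SpecialLinearGroup.transvection_coe]
    · exact absurd rfl hpq
  exact mem_comap.1 (this ▸ mem_top A)

theorem W_mem {n : ℕ} {M : Subgroup (SpG n F)} {a b : Idx n} (h : a.swap ≠ b) {i : Fin n}
    (hg : ∀ t, (emb i W2)⁻¹ * X a b t * emb i W2 ∈ M) (t : F) : X (flip i a) (flip i b) t ∈ M := by
  have h1 : ∀ z : Idx n, (if ix z = i then (sg z : F) else 1) ≠ 0 := fun z => by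
    split_ifs; exacts [left_ne_zero_of_mul_eq_one (sg_cast z), one_ne_zero]
  have h2 := mul_ne_zero (mul_ne_zero (mul_ne_zero (h1 a) (h1 b)) (left_ne_zero_of_mul_eq_one (eps_cast (K := F) a b)))
      (left_ne_zero_of_mul_eq_one (eps_cast (K := F) (flip i a) (flip i b)))
  rw [← mul_inv_cancel_left₀ h2 t, ← W_X _ h]
  exact hg _

theorem top_of_short (hL : ∀ a t, X a a t ∈ M) (hc : pm F (finRotate (l + 2)) ∈ M) {b : Idx (l + 2)} (hb : ix b = 1) {s : F}
    (hs : s ≠ 0) (h : X (.inl 0) b s ∈ M) : M = ⊤ := by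
  have hE : ∀ i A, emb i A ∈ M := fun i => emb_mem (hL _) (hL _)
  have h0 : (Sum.inl 0 : Idx (l + 2)).swap ≠ b := by rintro rfl; simp [ix] at hb
  have h1 : ∀ t, X (.inl 0) b t ∈ M := fun t => by
    induction t using unit_induction with
    | h0 => rw [add_zero' X_add]; exact one_mem _
    | h1 e =>
      have := mul_mem (mul_mem (hE 0 (D2 (e * (Units.mk0 s hs)⁻¹))) h) (inv_mem (hE 0 (D2 (e * (Units.mk0 s hs)⁻¹))))
      rw [D_X _ _ h0, hb] at this
      simpa [ix, sg, hs] using this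
  have hW : ∀ i a b, a.swap ≠ b → (∀ t, X a b t ∈ M) → ∀ t, X (flip i a) (flip i b) t ∈ M := fun i a b hab h =>
    W_mem hab fun t => mul_mem (mul_mem (inv_mem (hE _ _)) (h t)) (hE _ _)
  have h2 : ∀ b, ix b = 1 → ∀ t, X (.inl 0) b t ∈ M := fun c hc => by
    rcases ix_eq_iff.1 (hc.trans hb.symm) with rfl | rfl
    · exact h1
    · have := hW 1 _ _ h0 h1
      rwa [flip, flip, if_pos hb, if_neg (by simp [ix])] at this
  have h3 : ∀ a b, ix a = 0 → ix b = 1 → ∀ t, X a b t ∈ M := fun a c ha hc => by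
    rcases (ix_eq_iff (w := .inl 0)).1 ha with rfl | rfl
    · exact h2 c hc
    · have := hW 0 (.inl 0) c (by rintro rfl; simp [ix] at hc) (h2 c hc)
      rwa [flip, flip, if_pos (by rfl), if_neg (by simp [hc])] at this
  have h4 : ∀ σ, pm F σ ∈ M := fun σ => by
    have : ⊤ ≤ M.comap (pm F) := by
      rw [← Perm.closure_cycle_adjacent_swap isCycle_finRotate support_finRotate 0, closure_le]
      rintro _ (rfl | rfl)
      · exact hc
      · rw [finRotate_apply, zero_add, SetLike.mem_coe, mem_comap, pm_swap (by simp)]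
        exact mul_mem (mul_mem (mul_mem (h3 _ _ rfl rfl _) (h3 _ _ rfl rfl _)) (h3 _ _ rfl rfl _)) (hE _ _)
    exact this (mem_top σ)
  refine X_induction fun a b t hab => ?_
  by_cases e : a = b
  · exact e ▸ hL a t
  have e' := ix_ne e hab
  obtain ⟨a', a1, a2⟩ : ∃ a', ix a' = 0 ∧ hat (sp (ix a) (ix b)) a' = a := by
    rcases a with i | i
    exacts [⟨.inl 0, rfl, congrArg _ (sp0 e')⟩, ⟨.inr 0, rfl, congrArg _ (sp0 e')⟩]
  obtain ⟨b', b1, b2⟩ : ∃ b', ix b' = 1 ∧ hat (sp (ix a) (ix b)) b' = b := by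
    rcases b with i | i
    exacts [⟨.inl 1, rfl, congrArg _ (sp1 _ _)⟩, ⟨.inr 1, rfl, congrArg _ (sp1 _ _)⟩]
  have := mul_mem (mul_mem (h4 (sp (ix a) (ix b))) (h3 a' b' a1 b1 t)) (inv_mem (h4 (sp (ix a) (ix b))))
  rwa [pm_X _ (neD (by simp [a1, b1])).2.2.1, a2, b2] at this

theorem long_mem (hw : (emb 0 W2)⁻¹ * pm F (finRotate (l + 2)) ∈ M) (h : ∀ t, X (.inl 1) (.inl 1) t ∈ M) (a : Idx (l + 2))
    (t : F) : X a a t ∈ M := by
  have st : ∀ a, (∀ t, X a a t ∈ M) → ∀ t, X (flip 0 (hat (finRotate _) a)) (flip 0 (hat (finRotate _) a)) t ∈ M :=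
    fun a h => W_mem (swap_ne _) fun t => by
      have := mul_mem (mul_mem hw (h t)) (inv_mem hw)
      rw [← pm_X _ (swap_ne a)]
      simpa [mul_assoc] using this
  have up : ∀ f : Fin (l + 2) → Idx (l + 2), f = .inl ∨ f = .inr → ∀ i, (∀ t, X (f i) (f i) t ∈ M) →
      (∀ j, i ≤ j → ∀ t, X (f j) (f j) t ∈ M) ∧ ∀ t, X (f 0).swap (f 0).swap t ∈ M := fun f hf i hi => by
    have h1 : ∀ j, i ≤ j → ∀ t, X (f j) (f j) t ∈ M := fun j hj => by
      induction j using Fin.induction with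
      | zero => rwa [← le_antisymm hj (Fin.zero_le _)]
      | succ j ih =>
        rcases hj.eq_or_lt with rfl | hj
        · exact hi
        · have := st _ (ih (Fin.le_castSucc_iff.2 hj))
          rcases hf with rfl | rfl <;> simpa [flip, ix] using this
    have := st _ (h1 _ (Fin.le_last _))
    rcases hf with rfl | rfl <;> exact ⟨h1, by simpa [flip, ix] using this⟩
  have h1 := up _ (Or.inr rfl) 0 (up _ (Or.inl rfl) 1 h).2
  have h2 := up _ (Or.inl rfl) 0 h1.2
  rcases a with i | i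
  exacts [h2.1 i (Fin.zero_le _) t, h1.1 i (Fin.zero_le _) t]

theorem sp_two_gen' [Finite F] : ∃ a b : SpG (l + 2) F, closure {a, b} = ⊤ := by
  obtain ⟨p, hp⟩ := CharP.exists F
  have pp := CharP.char_is_prime F p
  have key : ∀ (A : SL(2, F)) (k : ℕ), A ^ k = 1 → k.Coprime p →
      (∀ M : Subgroup (SpG (l + 2) F), X (.inl 0) (.inl 1) 1 * emb 1 A * (X (.inl 0) (.inl 1) 1)⁻¹ ∈ M →
        (X (.inl 1) (.inl 1) 1 ∈ M → ∀ t, X (.inl 1) (.inl 1) t ∈ M) ∧ ((∀ a t, X a a t ∈ M) →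
          ∃ b s, ix b = 1 ∧ s ≠ 0 ∧ X (.inl 0) b s ∈ M)) → ∃ a b : SpG (l + 2) F, closure {a, b} = ⊤ := by
    intro A k h1 h2 h3
    refine ⟨X (.inl 0) (.inl 0) 1 * (X (.inl 0) (.inl 1) 1 * emb 1 A * (X (.inl 0) (.inl 1) 1)⁻¹),
      (emb 0 W2)⁻¹ * pm F (finRotate (l + 2)), ?_⟩
    generalize hM : (Subgroup.closure _ : Subgroup (SpG (l + 2) F)) = M
    have a1 := hM.le (Subgroup.subset_closure (Set.mem_insert _ _))
    have a2 := hM.le (Subgroup.subset_closure (Set.mem_insert_of_mem _ rfl))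
    have c1 : Commute (X (.inl 0) (.inl 0) 1 : SpG (l + 2) F) (X (.inl 0) (.inl 1) 1) :=
      Y_far (by simp) (by simp) (by simp) (by simp) (by simp) _ _
    have c2 := (c1.mul_right (emb_X_comm 1 A (by simp) (by simp [ix]) (by simp [ix]) 1).symm).mul_right c1.inv_right
    obtain ⟨m, -, hm⟩ := Nat.exists_mul_mod_eq_one_of_coprime h2 pp.one_lt
    have a3 := pow_mem a1 (k * m)
    rw [c2.mul_pow, conj_pow, ← map_pow, pow_mul A, h1, one_pow, map_one, mul_one, mul_inv_cancel, mul_one,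
      ← add_nat' X_add, CharP.cast_eq_mod F p, hm, Nat.cast_one, one_mul] at a3
    obtain ⟨b1, b2⟩ := h3 M ((M.mul_mem_cancel_left a3).1 a1)
    have a4 := mul_mem (mul_mem a2 a3) (inv_mem a2)
    rw [show ∀ a b x : SpG (l + 2) F, a⁻¹ * b * x * (a⁻¹ * b)⁻¹ = a⁻¹ * (b * x * b⁻¹) * a by intros; group, pm_X _ (by simp),
      mul_assoc, ← (emb_X_comm 0 W2 (by simp) (by simp [ix]) (by simp [ix]) 1).eq, inv_mul_cancel_left] at a4
    have a5 := long_mem a2 (b1 (by simpa using a4))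
    obtain ⟨b, s, d1, d2, d3⟩ := b2 a5
    exact top_of_short a5 ((M.mul_mem_cancel_left (inv_mem (emb_mem (a5 _) (a5 _) _))).1 a2) d1 d2 d3
  obtain ⟨ζ, hζ⟩ := IsCyclic.exists_generator (α := Fˣ)
  by_cases h1 : ζ = 1
  · have a1 : ∀ t : F, t = 0 ∨ t = 1 := fun t => by
      induction t using unit_induction with
      | h0 => exact Or.inl rfl
      | h1 e => obtain ⟨k, rfl⟩ := hζ e; simp [h1]
    have a2 : (1 + 1 : F) = 0 := (a1 _).resolve_right (by simp)
    have a3 : (-1 : F) = 1 := by linear_combination -a2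
    refine key (L2 1 * X2 1) 3 ?_ ?_ fun M hM => ⟨fun h t => ?_, fun h => ⟨.inr 1, 1, rfl, one_ne_zero, ?_⟩⟩
    · apply Subtype.ext
      simp [pow_succ, sl_mul, L2v, X2v, a2, Matrix.one_fin_two]
    · have : p ∣ 2 := (CharP.cast_eq_zero_iff F p 2).1 (by rw [← a2]; norm_num)
      rw [(Nat.prime_dvd_prime_iff_eq pp Nat.prime_two).1 this]; decide
    · rcases a1 t with rfl | rfl
      · rw [add_zero' X_add]; exact one_mem _
      · exact h
    · have : X (.inl 0) (.inl 1) 1 * emb 1 (L2 1 * X2 1) = X (.inl 0) (.inr 1) 1 * X (.inl 0) (.inl 0) 1 *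
          emb 1 (L2 1 * X2 1) * (X (.inl 0) (.inl 1) 1 : SpG (l + 2) F) := UG_ext fun v => by
        simp only [UG_mul_apply, X, emb_apply, Y_self_apply, Y_apply (a := .inl 0) (b := .inl (1 : Fin (l + 2))) (by simp [ix]),
          Y_apply (a := .inl 0) (b := .inr (1 : Fin (l + 2))) (by simp [ix])]
        simp [sl_mul, L2v, X2v, eps, sg]
        match_scalars <;> grind
      rw [this, mul_inv_cancel_right, M.mul_mem_cancel_right (emb_mem (h _) (h _) _), M.mul_mem_cancel_right (h _ _)] at hM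
      exact hM
  · have e1 : X (.inl 0) (.inl 1) 1 * emb 1 (D2 ζ) * (X (.inl 0) (.inl 1) 1)⁻¹ =
        (X (.inl 0) (.inl 1) (1 - (ζ : F)) * emb 1 (D2 ζ) : SpG (l + 2) F) := by
      have := D_X (1 : Fin (l + 2)) ζ (a := .inl 0) (b := .inl 1) (by simp) (-1)
      rw [sub_eq_add_neg, X_add, ← L0.add_neg' X_add, mul_assoc, mul_assoc, mul_inv_eq_iff_eq_mul.1 this]
      simp [ix, sg]
    refine key (D2 ζ) (Nat.card F - 1) (by rw [← map_pow, ← Nat.card_units, pow_card_eq_one', map_one]) ?_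
      fun M hM => ⟨fun h t => ?_, fun h => ⟨.inl 1, 1 - ζ, rfl, sub_ne_zero.2 fun e => h1 (Units.ext e.symm), ?_⟩⟩
    · haveI := Fintype.ofFinite F
      have : p ∣ Nat.card F := by
        rw [Nat.card_eq_fintype_card, ← CharP.cast_eq_zero_iff F p]; exact FiniteField.cast_card_eq_zero F
      exact Nat.Coprime.coprime_dvd_right this ((Nat.coprime_self_sub_left Nat.card_pos).2 (by simp))
    · rw [e1] at hM
      induction t using sq_induction with
      | h0 => rw [add_zero' X_add]; exact one_mem _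
      | h1 e =>
        obtain ⟨m, rfl⟩ := mem_powers_iff_mem_zpowers.2 (hζ e)
        induction m with
        | zero => simpa using h
        | succ m ih =>
          have := mul_mem (mul_mem hM ih) (inv_mem hM)
          rw [show ∀ a b x : SpG (l + 2) F, a * b * x * (a * b)⁻¹ = a * (b * x * b⁻¹) * a⁻¹ by intros; group,
            D_X _ _ (by simp), conj_of_comm (X_ll ..)] at this
          convert this using 2
          simp [ix, sg]; ring
      | h2 a b ha hb => rw [X_add]; exact mul_mem ha hb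
    · rwa [e1, M.mul_mem_cancel_right (emb_mem (h _) (h _) _)] at hM

theorem psp_two_gen [Finite F] (n : ℕ) (hn : 2 ≤ n) : ∃ a b : PSp n F, closure {a, b} = ⊤ := by
  obtain ⟨l, rfl⟩ := Nat.exists_eq_add_of_le' hn
  obtain ⟨a, b, h⟩ := sp_two_gen' (l := l) (F := F)
  let f := (QuotientGroup.mk' (center _)).comp (spEquiv (Fin (l + 2)) F).symm.toMonoidHom
  have := congrArg (Subgroup.map f) h
  rw [MonoidHom.map_closure, Set.image_pair, map_top_of_surjective f
    ((QuotientGroup.mk'_surjective _).comp (spEquiv _ F).symm.surjective)] at this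
  exact ⟨_, _, this⟩

end Cfsg.Agent.H6.Sp
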