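import Cfsg.Agent.H6.SpT

/-! Embeddings of symplectic groups along index maps, and generators of point stabilisers. -/

set_option autoImplicit false

namespace Cfsg.Agent.H6.Sp

open Cfsg.Agent.H14 Cfsg.Agent.H28 Cfsg.Agent.H12 Cfsg.Agent.L0 Subgroup
open scoped MatrixGroups

variable {m n : ℕ} {K : Type*} [Field K] (ι : Fin m ↪ Fin n)

/-- the map on indices -/
def sm : Idx m → Idx n := Sum.map ι ι

@[simp] theorem sm_inl (i : Fin m) : sm ι (.inl i) = .inl (ι i) := rfl
@[simp] theorem sm_inr (i : Fin m) : sm ι (.inr i) = .inr (ι i) := rfl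
theorem sm_inj : Function.Injective (sm ι) := Sum.map_injective.2 ⟨ι.injective, ι.injective⟩
theorem sm_swap (a : Idx m) : (sm ι a).swap = sm ι a.swap := by cases a <;> rfl
theorem ix_sm (a : Idx m) : ix (sm ι a) = ι (ix a) := by cases a <;> rfl
theorem sg_sm (a : Idx m) : sg (sm ι a) = sg a := by cases a <;> rfl
theorem exists_sm {z : Idx n} (h : ix z ∈ Set.range ι) : ∃ a, sm ι a = z := by
  obtain ⟨i, hi⟩ := h
  rcases z with j | j
  · exact ⟨.inl i, congrArg Sum.inl hi⟩
  · exact ⟨.inr i, congrArg Sum.inr hi⟩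

/-- extension by zero -/
noncomputable def ex : (Idx m → K) →ₗ[K] (Idx n → K) := Fintype.linearCombination K fun a => ee (sm ι a)

/-- restriction -/
def rs : (Idx n → K) →ₗ[K] (Idx m → K) := LinearMap.funLeft K K (sm ι)

theorem rs_apply (x : Idx n → K) (a : Idx m) : rs ι x a = x (sm ι a) := rfl

theorem ex_ee (a : Idx m) : ex ι (ee a : Idx m → K) = ee (sm ι a) := by simp [ex]

theorem vec_induction {P : (Idx m → K) → Prop} (h0 : ∀ a, P (ee a)) (h1 : ∀ u v, P u → P v → P (u + v))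
    (h2 : ∀ (c : K) u, P u → P (c • u)) (h3 : P 0) (u : Idx m → K) : P u := by
  rw [← Finset.univ_sum_single u]
  refine Finset.sum_induction _ P h1 h3 fun z _ => ?_
  rw [show Pi.single z (u z) = u z • (ee z : Idx m → K) by ext; simp [Pi.single_apply]]
  exact h2 _ _ (h0 z)

theorem B_ex (u : Idx m → K) (x : Idx n → K) : spB (Fin n) K (ex ι u) x = spB (Fin m) K u (rs ι x) := by
  induction u using vec_induction with
  | h0 a => rw [ex_ee, B_ee, B_ee, sg_sm, sm_swap, rs_apply]
  | h1 u v hu hv => simp [hu, hv]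
  | h2 c u hu => simp [hu]
  | h3 => simp

theorem B_ex' (u : Idx m → K) (x : Idx n → K) : spB (Fin n) K x (ex ι u) = spB (Fin m) K (rs ι x) u := by
  rw [B_skew, B_ex, ← B_skew]

theorem rs_ex (u : Idx m → K) : rs ι (ex ι u) = u := by
  induction u using vec_induction with
  | h0 a => ext b; simp [ex_ee, rs_apply, Pi.single_apply, (sm_inj ι).eq_iff]
  | h1 u v hu hv => simp [hu, hv]
  | h2 c u hu => simp [hu]
  | h3 => simp

variable {ι} in
theorem rs_ee {z : Idx n} (h : ix z ∉ Set.range ι) : rs ι (ee z : Idx n → K) = 0 := by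
  ext a
  exact Pi.single_eq_of_ne (by rintro rfl; exact h ⟨_, (ix_sm ι a).symm⟩) _

variable {ι} in
theorem ex_out {z : Idx n} (h : ix z ∉ Set.range ι) (u : Idx m → K) : ex ι u z = 0 := by
  have := B_ex ι u (ee z.swap)
  rw [rs_ee (by simpa using h), B_ee', map_zero, Sum.swap_swap] at this
  exact (mul_eq_zero.1 this).resolve_left (left_ne_zero_of_mul_eq_one (sg_cast _))

theorem ex_rs {x : Idx n → K} (h : ∀ z, ix z ∉ Set.range ι → x z = 0) : ex ι (rs ι x) = x := by
  ext z
  by_cases hz : ix z ∈ Set.range ι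
  · obtain ⟨a, rfl⟩ := exists_sm ι hz
    exact congrFun (rs_ex ι (rs ι x)) a
  · rw [ex_out hz, h z hz]

/-- the embedding of symplectic groups -/
noncomputable def jm : SpG m K →* SpG n K :=
  MonoidHom.mk' (fun g => mkSp (LinearMap.id + ex ι ∘ₗ (g.1.toLinearMap - LinearMap.id) ∘ₗ rs ι) fun x y => by
    have := UG_map g (rs ι x) (rs ι y)
    simp only [LinearMap.add_apply, LinearMap.id_apply, LinearMap.comp_apply, map_add, B_ex, B_ex', rs_ex,
      LinearMap.sub_apply, map_sub, LinearEquiv.coe_coe]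
    linear_combination this)
    fun g h => UG_ext fun v => by
      simp only [UG_mul_apply, mkSp_apply, LinearMap.add_apply, LinearMap.id_apply, LinearMap.comp_apply, map_add, rs_ex,
        LinearMap.sub_apply, map_sub, LinearEquiv.coe_coe]
      abel

theorem jm_apply (g : SpG m K) (x : Idx n → K) : (jm ι g).1 x = x + ex ι (g.1 (rs ι x) - rs ι x) := rfl

theorem jm_ex (g : SpG m K) (u : Idx m → K) : (jm ι g).1 (ex ι u) = ex ι (g.1 u) := by
  simp [jm_apply, rs_ex]

variable {ι} in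
theorem jm_fix (g : SpG m K) {z : Idx n} (h : ix z ∉ Set.range ι) : (jm ι g).1 (ee z) = ee z := by
  simp [jm_apply, rs_ee h]

theorem jm_inj : Function.Injective (jm ι : SpG m K → SpG n K) := fun g h e => UG_ext fun u => by
  rw [← rs_ex ι (g.1 u), ← jm_ex, e, jm_ex, rs_ex]

theorem jm_Y {a b : Idx m} (h : a.swap ≠ b) (t : K) : jm ι (Y a b t) = Y (sm ι a) (sm ι b) t := UG_ext fun x => by
  rw [jm_apply]
  by_cases e : a = b
  · subst e
    simp [Y_self_apply, ex_ee, sg_sm, sm_swap, rs_apply, sub_eq_add_neg]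
  · have h1 := ix_ne e h
    rw [Y_apply h1, Y_apply (by simpa [ix_sm] using h1)]
    simp only [sub_sub_cancel_left, sub_right_comm _ _ (rs ι x), map_sub, map_neg, map_smul, ex_ee, sg_sm, sm_swap, rs_apply]
    module

theorem jm_X {a b : Idx m} (h : a.swap ≠ b) (t : K) : jm ι (X a b t) = X (sm ι a) (sm ι b) t := by
  rw [X, jm_Y ι h]; cases a <;> cases b <;> rfl

theorem jm_emb (k : Fin m) (A : SL(2, K)) : jm ι (emb k A) = emb (ι k) A := UG_ext fun x => by
  simp only [jm_apply, emb_apply, map_sub, map_add, map_smul, ex_ee, rs_apply, sm_inl, sm_inr]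
  module

theorem exists_jm {g : SpG n K} (h : ∀ z, ix z ∉ Set.range ι → g.1 (ee z) = ee z) : ∃ g', jm ι g' = g := by
  have key : ∀ u, ex ι (rs ι (g.1 (ex ι u))) = g.1 (ex ι u) := fun u => ex_rs ι fun z hz => by
    have := UG_map g (ex ι u) (ee z.swap)
    rw [h _ (by simpa using hz), B_ee', B_ee', Sum.swap_swap, ex_out hz, mul_zero] at this
    exact (mul_eq_zero.1 this).resolve_left (left_ne_zero_of_mul_eq_one (sg_cast _))
  refine ⟨mkSp (rs ι ∘ₗ g.1.toLinearMap ∘ₗ ex ι) fun x y => ?_, Sp_ext fun z => ?_⟩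
  · simp only [LinearMap.comp_apply, LinearEquiv.coe_coe]
    rw [← B_ex, key, UG_map, B_ex, rs_ex]
  · by_cases hz : ix z ∈ Set.range ι
    · obtain ⟨a, rfl⟩ := exists_sm ι hz
      rw [← ex_ee, jm_ex]; exact key _
    · rw [jm_fix _ hz, h z hz]

variable {M : Subgroup (SpG n K)}

theorem rho_mem {x : Idx n} (hM : ∀ z t, x.swap ≠ z → Y x z t ∈ M) {u : Idx n → K} (hu : u x.swap = 0) (c : K) :
    rho (spB (Fin n) K) (ee x) u c ∈ M := by
  have h0 : ∀ c : K, rho (spB (Fin n) K) (ee x) 0 c ∈ M := fun c => by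
    have := hM x c (swap_ne x); rwa [Y_self] at this
  revert c
  rw [← Finset.univ_sum_single u]
  refine (Finset.sum_induction _ (fun b => b x.swap = 0 ∧ ∀ c, rho (spB (Fin n) K) (ee x) b c ∈ M)
    (fun b d hb hd => ⟨by simp [hb.1, hd.1], fun c => ?_⟩) ⟨rfl, h0⟩ fun z _ => ?_).2
  · have := mul_mem (hb.2 (c - spB (Fin n) K b d)) (hd.2 0)
    rwa [rho_mul sd_spB (adm (by simp [B_ee, hb.1]) _) (adm (by simp [B_ee, hd.1]) _), add_zero, sub_add_cancel] at this
  · by_cases e : z = x.swap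
    · simpa [e, hu] using h0
    refine ⟨by simp [Ne.symm e], fun c => ?_⟩
    rw [show Pi.single z (u z) = u z • (ee z : Idx n → K) by ext; simp [Pi.single_apply]]
    by_cases e' : z = x
    · rw [e', ← zero_add (u x • ee x), rho_add_smul sd_spB (adm (by simp) c)]; exact h0 _
    · rw [rho_eq_tv_mul_rho sd_spB (adm_ee (Ne.symm e) _ 0) (adm_ee (Ne.symm e) _ c), ← Y_ne (ix_ne (Ne.symm e') (Ne.symm e))]
      exact mul_mem (h0 _) (hM _ _ (Ne.symm e))

theorem stab_mem {x : Idx n} (hM : ∀ a b t, a.swap ≠ b → a ≠ x.swap → b ≠ x.swap → X a b t ∈ M) {g : SpG n K}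
    (hg : g.1 (ee x) = ee x) : g ∈ M := by
  obtain ⟨m, rfl⟩ : ∃ m, n = m + 1 := ⟨n - 1, by have := (ix x).pos; omega⟩
  have s : (sg x : K) ≠ 0 := left_ne_zero_of_mul_eq_one (sg_cast x)
  obtain ⟨u, c, hA, e⟩ := exists_rho_map sd_spB (e := ee x) (x := ee x.swap) (y := g.1 (ee x.swap)) (B_self _)
    (by rw [B_self, B_self]) (by conv_rhs => rw [← hg, UG_map]) (by simp [B_ee, s])
  have h1 := rho_mem (M := M) (x := x) (u := u) (fun z t h => Y_eq x z t ▸ hM _ _ _ h (swap_ne x).symm h.symm)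
    (by simpa [B_ee, s] using hA.eu) c
  set h := (rho _ (ee x) u c)⁻¹ * g with hh
  have h2 : h.1 (ee x) = ee x := by rw [hh, UG_mul_apply, hg]; exact UG_inv_apply_eq (rho_apply_self sd_spB ..)
  have h3 : h.1 (ee x.swap) = ee x.swap := by rw [hh, UG_mul_apply]; exact UG_inv_apply_eq e
  obtain ⟨g', hg'⟩ := exists_jm (Fin.succAboveEmb (ix x)) (g := h) fun z hz => by
    have : ix z = ix x := by simpa using hz
    rcases ix_eq_iff.1 this with rfl | rfl <;> assumption
  have h4 : M.comap (jm (Fin.succAboveEmb (ix x))) = ⊤ := X_induction fun a b t hab => by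
    have : ∀ a, sm (Fin.succAboveEmb (ix x)) a ≠ x.swap := fun a e => by
      simpa [ix_sm] using congrArg ix e
    rw [mem_comap, jm_X _ hab]
    exact hM _ _ _ (by rw [sm_swap]; exact (sm_inj _).ne hab) (this a) (this b)
  have h5 : h ∈ M := hg' ▸ mem_comap.1 (h4 ▸ mem_top g')
  simpa [hh] using mul_mem h1 h5

theorem short_mem {P : Fin n → Prop} (hP : ∀ j : Fin n, 0 < j.val → j.val + 1 < n → P j) (hS : ∀ l, P l → ∀ A, emb l A ∈ M)
    (hM : ∀ i j : Fin n, j.val = i.val + 1 → ∀ t, X (.inl i) (.inl j) t ∈ M) {a b : Idx n} (hab : ix a ≠ ix b)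
    (ha : a = .inl (ix a) ∨ P (ix a)) (hb : b = .inl (ix b) ∨ P (ix b)) (t : K) : X a b t ∈ M := by
  have fl : ∀ a b : Idx n, ix a ≠ ix b → P (ix b) → (∀ t, X a b t ∈ M) → ∀ t, X a b.swap t ∈ M := fun a b hab hb h => by
    have := W_mem (neD hab).2.2.1 (i := ix b) fun t => mul_mem (mul_mem (inv_mem (hS _ hb _)) (h t)) (hS _ hb _)
    rwa [flip, flip, if_neg hab, if_pos rfl] at this
  have r1 : ∀ (d : ℕ) (i j : Fin n), j.val = i.val + 1 + d → ∀ t, X (.inl i) (.inl j) t ∈ M := fun d => by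
    induction d with
    | zero => exact hM
    | succ d ih =>
      intro i l hl t
      let j : Fin n := ⟨i + 1 + d, by omega⟩
      have e1 : ix (Sum.inl i : Idx n) ≠ ix (.inl j) := fun h => by have := congrArg Fin.val h; simp [ix, j] at this; omega
      have h1 := fl _ _ e1 (hP j (by simp [j]) (by simp only [j]; omega)) (ih i j rfl)
      have h2 := hM j l (by simp only [j]; omega)
      have := Y_c2 (K := K) (a := .inl i) (b := .inr j) (c := .inl l) e1
        (fun h => by have := congrArg Fin.val h; simp [ix, j] at this; omega)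
        (fun h => by have := congrArg Fin.val h; simp [ix] at this; omega) 1 (-t)
      simp only [Y_eq, Sum.swap_inr] at this
      have h3 := (M.mul_mem_cancel_left (mul_mem (h2 _) (h1 _))).1 (this ▸ mul_mem (h1 _) (h2 _))
      simpa [eps, sg] using h3
  have r2 : ∀ i j : Fin n, i ≠ j → ∀ t, X (.inl i) (.inl j) t ∈ M := fun i j h => by
    rcases lt_or_gt_of_ne h with h | h
    · exact r1 (j - i - 1) i j (by have : i.val < j := h; omega)
    · rw [X_symm]; exact r1 (i - j - 1) j i (by have : j.val < i := h; omega)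
  have r3 : ∀ (a : Idx n) (j : Fin n), ix a ≠ j → (a = .inl (ix a) ∨ P (ix a)) → ∀ t, X (.inl j) a t ∈ M := by
    rintro (i | i) j h h'
    · exact r2 _ _ h.symm
    · exact fl (.inl j) (.inl i) h.symm (h'.resolve_left (by simp)) (r2 _ _ h.symm)
  revert t
  rcases b with j | j
  · rw [X_symm]; exact r3 a j hab ha
  · exact fl a (.inl j) hab (hb.resolve_left (by simp)) (X_symm (K := K) a _ ▸ r3 a j hab ha)

theorem gen_top (hS : ∀ l A, emb l A ∈ M) (hM : ∀ i j : Fin n, j.val = i.val + 1 → ∀ t, X (.inl i) (.inl j) t ∈ M) :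
    M = ⊤ := X_induction fun a b t h => by
  by_cases e : a = b
  · subst e
    rcases a with i | i
    · exact emb_X2 i t ▸ hS _ _
    · exact emb_L2 i t ▸ hS _ _
  · exact short_mem (P := fun _ => True) (fun _ _ _ => trivial) (fun l _ => hS l) hM (ix_ne e h) (.inr trivial) (.inr trivial) t

theorem gen_stab {k : Fin n} (hk : k.val = 0 ∨ k.val + 1 = n) (hS : ∀ l, l ≠ k → ∀ A, emb l A ∈ M)
    (hM : ∀ i j : Fin n, j.val = i.val + 1 → ∀ t, X (.inl i) (.inl j) t ∈ M) (hL : ∀ t, X (.inl k) (.inl k) t ∈ M)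
    {g : SpG n K} (hg : g.1 (ee (.inl k)) = ee (.inl k)) : g ∈ M := by
  refine stab_mem (fun a b t h ha hb => ?_) hg
  have key : ∀ a : Idx n, a ≠ .inr k → a = .inl (ix a) ∨ ix a ≠ k := by rintro (i | i) h <;> simp_all [ix]
  by_cases e : a = b
  · subst e
    rcases a with i | i
    · by_cases e : i = k
      · exact e ▸ hL t
      · exact emb_X2 i t ▸ hS _ e _
    · exact emb_L2 i t ▸ hS _ (by simpa using ha) _
  · exact short_mem (P := (· ≠ k)) (fun j h1 h2 e => by subst e; omega) hS hM (ix_ne e h) (key a ha) (key b hb) t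

end Cfsg.Agent.H6.Sp
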