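import Cfsg.Agent.H6.SpU

/-! Sections of maps onto the symplectic group from sections over point stabilisers. -/

set_option autoImplicit false

namespace Cfsg.Agent.H6.Sp

open Cfsg.Agent.H14 Cfsg.Agent.H28 Cfsg.Agent.H12 Cfsg.Agent.L0 Subgroup
open scoped MatrixGroups

variable {m n : ℕ} {K : Type*} [Field K] {G : Type*} [Group G]

theorem cov4 {i j : Fin n} (hij : i ≠ j) (a b c d : Idx n) (h1 : a.swap ≠ b) (h2 : a.swap ≠ c) (h3 : a.swap ≠ d) :
    ∃ x, (ix x = i ∨ ix x = j) ∧ a ≠ x ∧ b ≠ x ∧ c ≠ x ∧ d ≠ x := by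
  by_contra! h
  have a1 := h (.inl i) (.inl rfl)
  have a2 := h (.inr i) (.inl rfl)
  have a3 := h (.inl j) (.inr rfl)
  have a4 := h (.inr j) (.inr rfl)
  clear h
  rcases a with a | a <;> rcases b with b | b <;> rcases c with c | c <;> rcases d with d | d <;>
    simp at h1 h2 h3 a1 a2 a3 a4 <;> grind

theorem exists_sec (hn : 2 ≤ n) (π : G →* SpG n K) {i j : Fin n} (hij : i ≠ j) (M : Idx n → Subgroup G)
    (hinj : ∀ x, ix x = i ∨ ix x = j → ∀ g ∈ M x, π g = 1 → g = 1)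
    (hy : ∀ a b, a.swap ≠ b → ∀ t, ∃ y, π y = X a b t ∧ ∀ x, ix x = i ∨ ix x = j → a ≠ x → b ≠ x → y ∈ M x) :
    ∃ Φ : SpG n K →* G, (∀ g, π (Φ g) = g) ∧
      ∀ a b t, a.swap ≠ b → ∀ x, ix x = i ∨ ix x = j → a ≠ x → b ≠ x → Φ (X a b t) ∈ M x := by
  classical
  choose y0 hπ0 hM0 using hy
  let y : Idx n → Idx n → K → G := fun a b t => if h : a.swap ≠ b then y0 a b h t else 1
  have hπ : ∀ a b t, a.swap ≠ b → π (y a b t) = X a b t := fun a b t h => by simp only [y, dif_pos h, hπ0]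
  have hM : ∀ {x}, ix x = i ∨ ix x = j → ∀ a b t, a ≠ x → b ≠ x → y a b t ∈ M x := fun hx a b t ha hb => by
    simp only [y]; split_ifs with h; exacts [hM0 a b h t _ hx ha hb, one_mem _]
  have eq : ∀ {x}, ix x = i ∨ ix x = j → ∀ {g h}, g ∈ M x → h ∈ M x → π g = π h → g = h := fun hx g h h1 h2 e =>
    mul_inv_eq_one.1 (hinj _ hx _ (mul_mem h1 (inv_mem h2)) (by simp [e]))
  have cov := cov4 hij
  let C : CS n K G :=
    { y := y
      symm := fun a b => funext fun t => by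
        by_cases h : a.swap ≠ b
        · obtain ⟨x, hx, h1, h2, -⟩ := cov a b b b h h h
          exact eq hx (hM hx _ _ _ h1 h2) (hM hx _ _ _ h2 h1) (by rw [hπ _ _ _ h, hπ _ _ _ (swap_ne_comm.1 h), X_symm])
        · simp only [y, dif_neg h, dif_neg (mt swap_ne_comm.2 h)]
      add := fun a b h t u => by
        obtain ⟨x, hx, h1, h2, -⟩ := cov a b b b h h h
        exact eq hx (hM hx _ _ _ h1 h2) (mul_mem (hM hx _ _ _ h1 h2) (hM hx _ _ _ h1 h2)) (by simp [hπ _ _ _ h, X_add])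
      far := fun a b c d h h' e1 e2 e3 e4 t u => by
        obtain ⟨x, hx, h1, h2, h3, h4⟩ := cov a b c d h e1 e2
        exact eq hx (mul_mem (hM hx _ _ _ h1 h2) (hM hx _ _ _ h3 h4)) (mul_mem (hM hx _ _ _ h3 h4) (hM hx _ _ _ h1 h2))
          (by simpa [hπ _ _ _ h, hπ _ _ _ h'] using! ((csC n K).far a b c d h h' e1 e2 e3 e4 t u).eq)
      c2 := fun a b c h h' e u t => by
        obtain ⟨x, hx, h1, h2, h3, h4⟩ := cov a b b.swap c (neD h).2.2.1 (neD h).2.2.2.1 e
        obtain ⟨v, hv⟩ := (csC n K).c2 a b c h h' e u t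
        exact ⟨v, eq hx (mul_mem (hM hx _ _ _ h1 h2) (hM hx _ _ _ h3 h4))
          (mul_mem (mul_mem (hM hx _ _ _ h3 h4) (hM hx _ _ _ h1 h2)) (hM hx _ _ _ h1 h4))
          (by simpa [hπ _ _ _ (neD h).2.2.1, hπ _ _ _ e, hπ b.swap c _ (by simpa using (neD h').1)] using! hv)⟩
      c3 := fun a b h u t => by
        obtain ⟨x, hx, h1, h2, h3, -⟩ := cov a b b.swap b (neD h).2.2.1 (neD h).2.2.2.1 (neD h).2.2.1
        obtain ⟨v, w, hv⟩ := (csC n K).c3 a b h u t
        exact ⟨v, w, eq hx (mul_mem (hM hx _ _ _ h1 h2) (hM hx _ _ _ h3 h3))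
          (mul_mem (mul_mem (hM hx _ _ _ h3 h3) (hM hx _ _ _ h1 h2)) (mul_mem (hM hx _ _ _ h1 h3) (hM hx _ _ _ h1 h1)))
          (by simpa [hπ _ _ _ (neD h).2.2.1, hπ _ _ _ (neD h).2.2.2.1, hπ _ _ _ (swap_ne _)] using! hv)⟩ }
  have e : RG0.Hom C.rg0 (rgC n K).toRG0 π := ⟨fun r t => by
    induction r using rt_ind with | h a b hab => exact hπ a b t hab⟩
  have inj := fun g => C.inj hn π hπ (g := g) (.inr fun a t u ht hu => by
    obtain ⟨x, hx, h1, h2⟩ : ∃ x, (ix x = i ∨ ix x = j) ∧ a ≠ x ∧ a.swap ≠ x := by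
      by_cases h : ix a = i
      · exact ⟨.inl j, .inr rfl, by constructor <;> intro e <;> exact hij (h.symm.trans (by simpa using! congrArg ix e))⟩
      · exact ⟨.inl i, .inl rfl, by constructor <;> intro e <;> exact h (by simpa using! congrArg ix e)⟩
    have h3 : ∀ t, C.rg0.n (rt a a (swap_ne a)) t ∈ M x := fun t =>
      mul_mem (mul_mem (hM hx _ _ _ h1 h1) (by rw [negC]; exact hM hx _ _ _ h2 h2)) (hM hx _ _ _ h1 h1)
    have h4 : ∀ t, C.rg0.h (rt a a (swap_ne a)) t ∈ M x := fun t => mul_mem (h3 _) (h3 _)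
    refine eq hx (h4 _) (mul_mem (h4 _) (h4 _)) (Sp_ext fun z => ?_)
    rw [map_mul, e.map_h, e.map_h, e.map_h, UG_mul_apply, hC_single _ (mul_ne_zero ht hu), hC_single _ hu, map_smul,
      hC_single _ ht, smul_smul, mul_zpow, mul_comm])
  let φ := MulEquiv.ofBijective (π.comp C.rg0.grp.subtype) ⟨(injective_iff_map_eq_one _).2 fun g h => Subtype.ext (inj _ g.2 h),
    MonoidHom.range_eq_top.1 (X_induction fun a b t h => ⟨⟨_, C.y_mem h t⟩, hπ a b t h⟩)⟩
  refine ⟨C.rg0.grp.subtype.comp φ.symm.toMonoidHom, fun g => φ.apply_symm_apply g, fun a b t h x hx ha hb => ?_⟩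
  have : φ.symm (X a b t) = ⟨_, C.y_mem h t⟩ := φ.symm_apply_eq.2 (hπ a b t h).symm
  change (φ.symm (X a b t)).1 ∈ _
  rw [this]
  exact hM hx _ _ _ ha hb

theorem exists_sec2 (hn : 2 ≤ n) (π : G →* SpG n K) {i j : Fin n} (hij : i ≠ j) {M N : Subgroup G}
    (hM : ∀ g ∈ M, π g = 1 → g = 1) (hN : ∀ g ∈ N, π g = 1 → g = 1) {v w : G} (hv : π v = emb i W2) (hw : π w = emb j W2)
    (hc : Commute v w) (hvN : v ∈ N) (hwM : w ∈ M)
    (hy : ∀ a b, a.swap ≠ b → a ≠ .inr i → b ≠ .inr i → a ≠ .inr j → b ≠ .inr j → ∀ t, ∃ y, π y = X a b t ∧ y ∈ M ∧ y ∈ N ∧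
      (a ≠ .inl i → b ≠ .inl i → Commute v y) ∧ (a ≠ .inl j → b ≠ .inl j → Commute w y)) :
    ∃ Φ : SpG n K →* G, (∀ g, π (Φ g) = g) ∧ ∀ a b t, a.swap ≠ b →
      (a ≠ .inr i → b ≠ .inr i → Φ (X a b t) ∈ M) ∧ (a ≠ .inr j → b ≠ .inr j → Φ (X a b t) ∈ N) := by
  let P : Fin n → Subgroup G := fun k => if k = i then M else N
  let u : Fin n → G := fun k => if k = i then v else w
  let Q : Idx n → Subgroup G := Sum.elim (fun k => (P k).comap (MulAut.conj (u k)).toMonoidHom) P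
  have q1 : Q (.inr i) = M := if_pos rfl
  have q2 : Q (.inr j) = N := if_neg hij.symm
  have q3 : ∀ g, g ∈ Q (.inl i) ↔ v * g * v⁻¹ ∈ M := fun g => by simp [Q, P, u]
  have q4 : ∀ g, g ∈ Q (.inl j) ↔ w * g * w⁻¹ ∈ N := fun g => by simp [Q, P, u, hij.symm]
  have cs : ∀ {x : Idx n}, ix x = i ∨ ix x = j → x = .inr i ∨ x = .inr j ∨ x = .inl i ∨ x = .inl j := by
    rintro (k | k) (rfl | rfl) <;> simp [ix]
  let S : Idx n → Idx n → Subgroup G := fun a b => ⨅ x, ⨅ (_ : ix x = i ∨ ix x = j), ⨅ (_ : a ≠ x), ⨅ (_ : b ≠ x), Q x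
  have step : ∀ (k : Fin n) (g : G), π g = emb k W2 → k = i ∨ k = j → (∀ y ∈ Q (.inr k), g⁻¹ * y * g ∈ Q (.inl k)) →
      (∀ x, ix x = i ∨ ix x = j → ix x ≠ k → g ∈ Q x) → ∀ a b : Idx n, a.swap ≠ b → a = .inr k ∨ b = .inr k →
      (∀ t, X (flip k a) (flip k b) t ∈ (S (flip k a) (flip k b)).map π) → ∀ t, X a b t ∈ (S a b).map π := by
    intro k g hg hk h1 h2 a b hab e h
    have := W_mem (M := (S a b).map π) (i := k) (a := flip k a) (b := flip k b)
      (by rw [← flip_swap]; exact (flip_inj k).ne hab) fun t => by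
      obtain ⟨y, h3, h4⟩ := h t
      refine ⟨g⁻¹ * y * g, ?_, by simp [hg, h4]⟩
      simp only [S, SetLike.mem_coe, mem_iInf] at h3 ⊢
      intro x hx ha hb
      by_cases e' : ix x = k
      · obtain rfl : x = .inl k := by
          rcases x with l | l
          · exact congrArg _ e'
          · obtain rfl : l = k := e'
            simp_all
        have : ∀ a : Idx n, a ≠ .inl k → flip k a ≠ .inr k := fun a h e => h (by
          rw [← flip_flip k a, e]; simp [flip, ix])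
        exact h1 _ (h3 (.inr k) hk (this a ha) (this b hb))
      · have : ∀ a : Idx n, a ≠ x → flip k a ≠ x := fun a h e => h (by rw [← flip_flip k a, e, flip, if_neg e'])
        exact mul_mem (mul_mem (inv_mem (h2 x hx e')) (h3 x hx (this a ha) (this b hb))) (h2 x hx e')
    simpa only [flip_flip] using this
  have fl : ∀ (k : Fin n) (a b : Idx n), a.swap ≠ b → a = .inr k ∨ b = .inr k → (flip k a).swap ≠ flip k b ∧
      flip k a ≠ .inr k ∧ flip k b ≠ .inr k := fun k a b h e => by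
    refine ⟨by rw [← flip_swap]; exact (flip_inj k).ne h, ?_⟩
    rcases a with l | l <;> rcases b with l' | l' <;> simp [flip, ix] <;> grind
  have c2 : ∀ a b : Idx n, a.swap ≠ b → a ≠ .inr i → b ≠ .inr i → ∀ t, X a b t ∈ (S a b).map π := by
    have c1 : ∀ a b : Idx n, a.swap ≠ b → a ≠ .inr i → b ≠ .inr i → a ≠ .inr j → b ≠ .inr j →
        ∀ t, X a b t ∈ (S a b).map π := fun a b h h1 h2 h3 h4 t => by
      obtain ⟨y, e, y1, y2, y3, y4⟩ := hy a b h h1 h2 h3 h4 t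
      refine ⟨y, ?_, e⟩
      simp only [S, SetLike.mem_coe, mem_iInf]
      intro x hx ha hb
      rcases cs hx with rfl | rfl | rfl | rfl
      · exact q1 ▸ y1
      · exact q2 ▸ y2
      · rwa [q3, (y3 ha hb).eq, mul_inv_cancel_right]
      · rwa [q4, (y4 ha hb).eq, mul_inv_cancel_right]
    intro a b h h1 h2
    by_cases e : a = .inr j ∨ b = .inr j
    · have : ∀ a : Idx n, a ≠ .inr i → flip j a ≠ .inr i := fun a h e =>
        h (by rw [← flip_flip j a, e, flip, if_neg (by exact hij)])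
      refine step j w hw (.inr rfl) (fun y hy => by simpa [q4, ← q2, mul_assoc] using hy) (fun x hx h => ?_) a b h e
        (c1 _ _ (fl _ _ _ h e).1 (this a h1) (this b h2) (fl _ _ _ h e).2.1 (fl _ _ _ h e).2.2)
      rcases cs hx with rfl | rfl | rfl | rfl
      · exact q1 ▸ hwM
      · exact absurd rfl h
      · rwa [q3, hc.eq, mul_inv_cancel_right]
      · exact absurd rfl h
    · exact c1 a b h h1 h2 (not_or.1 e).1 (not_or.1 e).2
  obtain ⟨Φ, h1, h2⟩ := exists_sec hn π hij Q (fun x hx g hg e => by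
    rcases cs hx with rfl | rfl | rfl | rfl
    · exact hM g (q1 ▸ hg) e
    · exact hN g (q2 ▸ hg) e
    · simpa using hM _ ((q3 g).1 hg) (by simp [e])
    · simpa using hN _ ((q4 g).1 hg) (by simp [e])) fun a b h t => by
    have : X a b t ∈ (S a b).map π := by
      by_cases e : a = .inr i ∨ b = .inr i
      · refine step i v hv (.inl rfl) (fun y hy => by simpa [q3, ← q1, mul_assoc] using hy) (fun x hx h => ?_) a b h e
          (c2 _ _ (fl _ _ _ h e).1 (fl _ _ _ h e).2.1 (fl _ _ _ h e).2.2) t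
        rcases cs hx with rfl | rfl | rfl | rfl
        · exact absurd rfl h
        · exact q2 ▸ hvN
        · exact absurd rfl h
        · rwa [q4, ← hc.eq, mul_inv_cancel_right]
      · exact c2 a b h (not_or.1 e).1 (not_or.1 e).2 t
    obtain ⟨y, h3, h4⟩ := this
    exact ⟨y, h4, by simpa only [S, SetLike.mem_coe, mem_iInf] using h3⟩
  exact ⟨Φ, h1, fun a b t h => ⟨q1 ▸ h2 a b t h _ (.inl rfl), q2 ▸ h2 a b t h _ (.inr rfl)⟩⟩

end Cfsg.Agent.H6.Sp
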