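import Cfsg.Agent.H6.SpV

/-! The Heisenberg group attached to a new hyperbolic plane. -/

set_option autoImplicit false

namespace Cfsg.Agent.H6.Sp

open Cfsg.Agent.H14 Cfsg.Agent.H28 Cfsg.Agent.H12 Cfsg.Agent.L0 Subgroup
open scoped MatrixGroups

variable {m n : ℕ} {K : Type*} [Field K] {G : Type*} [Group G]

theorem exists_col {a b : K} (h : a ≠ 0 ∨ b ≠ 0) : ∃ A : SL(2, K), A.1 0 0 = a ∧ A.1 1 0 = b := by
  rcases h with h | h
  · exact ⟨⟨!![a, 0; b, a⁻¹], by simp [Matrix.det_fin_two, h]⟩, rfl, rfl⟩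
  · exact ⟨⟨!![a, -b⁻¹; b, 0], by simp [Matrix.det_fin_two, h]⟩, rfl, rfl⟩

theorem emb_e (k : Fin n) (A : SL(2, K)) :
    (emb k A).1 (ee (.inl k)) = A.1 0 0 • (ee (.inl k) : Idx n → K) + A.1 1 0 • (ee (.inr k) : Idx n → K) := by
  simp [emb_apply, sub_smul]

theorem rho_X {i j : Fin n} (h : i ≠ j) (t c : K) :
    rho (spB (Fin n) K) (ee (.inl j)) (t • ee (.inl i)) c = X (.inl j) (.inl j) (-c) * X (.inl i) (.inl j) (-t) := by
  rw [rho_eq_tv_mul_rho sd_spB (adm_ee (by simp) _ 0) (adm_ee (by simp) _ c), ← Y_ne (a := .inl j) (b := .inl i) h.symm, sub_zero, ← Y_self, Y_eq, Y_eq,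
    X_symm (.inl j) (.inl i)]
  simp [eps]

theorem heis_aux (hF : ∃ a : K, a ≠ 0 ∧ a ≠ 1) (Φ : SpG m K →* G) (k : Fin m) (ψ : SpG 2 K →* G)
    (hψ : ∀ A, ψ (emb 0 A) = Φ (emb k A))
    (h1 : ∀ g, g.1 (ee (.inl k)) = ee (.inl k) → Commute (Φ g) (ψ (rho _ (ee (.inl 1)) (ee (.inl 0)) 0)))
    (h2 : ∀ g c, Commute (Φ g) (ψ (tv _ (ee (.inl 1)) c))) :
    ∃ E : (Idx m → K) → G, (∀ g u, Φ g * E u * (Φ g)⁻¹ = E (g.1 u)) ∧
      (∀ u v, E u * E v = E (u + v) * ψ (tv _ (ee (.inl 1)) (spB _ K u v))) ∧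
      (∀ u c, Commute (ψ (tv _ (ee (.inl 1)) c)) (E u)) ∧
      ∀ t : K, E (t • ee (.inl k)) = ψ (rho _ (ee (.inl 1)) (t • ee (.inl 0)) 0) := by
  classical
  have e0 : (ee (.inl k) : Idx m → K) ≠ 0 := by simp
  have tr : ∀ u : Idx m → K, u ≠ 0 → ∃ g : SpG m K, g.1 (ee (.inl k)) = u := fun u hu =>
    sd_spB.witt_one e0 hu (by rw [B_self, B_self])
  choose g0 hg0 using tr
  set q := ψ (rho _ (ee (.inl 1)) (ee (.inl 0)) 0)
  let z : K → G := fun c => ψ (tv _ (ee (.inl 1)) c)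
  let E : (Idx m → K) → G := fun u => if h : u = 0 then 1 else Φ (g0 u h) * q * (Φ (g0 u h))⁻¹
  have E0 : E 0 = 1 := dif_pos rfl
  have z0 : z 0 = 1 := by simp [z, tv_zero sd_spB]
  have wd : ∀ g : SpG m K, E (g.1 (ee (.inl k))) = Φ g * q * (Φ g)⁻¹ := fun g => by
    have h := UG_ne_zero g e0
    have := h1 (g⁻¹ * g0 _ h) (by rw [UG_mul_apply, hg0, UG_inv_apply_apply])
    simp only [E, dif_neg h]
    rw [← mul_inv_cancel_left g (g0 _ h), map_mul, mul_assoc (Φ g), this.eq]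
    group
  have tr : ∀ u : Idx m → K, u ≠ 0 → ∃ g : SpG m K, u = g.1 (ee (.inl k)) := fun u hu => ⟨_, (hg0 u hu).symm⟩
  have eqv : ∀ g u, Φ g * E u * (Φ g)⁻¹ = E (g.1 u) := fun g u => by
    by_cases hu : u = 0
    · simp [hu, E0]
    obtain ⟨h, rfl⟩ := tr u hu
    rw [← UG_mul_apply, wd, wd, map_mul]; group
  have loc : ∀ a b : K, E (a • ee (.inl k) + b • ee (.inr k)) =
      ψ (rho _ (ee (.inl 1)) (a • ee (.inl 0) + b • ee (.inr 0)) 0) := fun a b => by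
    by_cases h : a ≠ 0 ∨ b ≠ 0
    · obtain ⟨A, rfl, rfl⟩ := exists_col h
      rw [← emb_e, ← emb_e, wd, ← hψ, ← map_inv, ← map_mul, ← map_mul, conj_rho sd_spB, emb_fix _ _ (by simp [ix])]
    · push Not at h
      simp [h, E0, rho_zero sd_spB]
  have ad : ∀ a b c : K, Adm (spB (Fin 2) K) (ee (.inl 1)) (a • ee (.inl 0) + b • ee (.inr 0)) c := fun a b c =>
    adm (by simp [B_ee]) c
  have zc : ∀ u c, Commute (z c) (E u) := fun u c => by
    by_cases hu : u = 0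
    · simp [hu, E0]
    obtain ⟨h, rfl⟩ := tr u hu
    rw [wd]
    refine ((h2 h c).symm.mul_right (Commute.map ?_ ψ)).mul_right (h2 h c).symm.inv_right
    have := conj_tv sd_spB (rho (spB (Fin 2) K) (ee (.inl 1)) (ee (.inl 0)) 0) (ee (.inl 1)) c
    rw [rho_apply_self sd_spB] at this
    exact (mul_inv_eq_iff_eq_mul.1 this).symm
  have za : ∀ c d, z (c + d) = z c * z d := fun c d => by
    simp only [z]; rw [← map_mul, tv_mul sd_spB (B_self _) rfl rfl]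
  let R : (Idx m → K) → (Idx m → K) → Prop := fun u v => E u * E v = E (u + v) * z (spB _ K u v)
  have rg : ∀ (g : SpG m K) u v, R u v → R (g.1 u) (g.1 v) := fun g u v h => by
    simp only [R] at h ⊢
    rw [UG_map, ← map_add, ← eqv, ← eqv, ← eqv, mul_assoc _ _ (z _), (h2 g _).inv_left.eq, ← mul_assoc (Φ g * E (u + v)),
      mul_assoc (Φ g) (E (u + v)), ← h]
    group
  have r0 : ∀ a b c d : K, R (a • ee (.inl k) + b • ee (.inr k)) (c • ee (.inl k) + d • ee (.inr k)) := fun a b c d => by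
    simp only [R]
    rw [add_add_add_comm, ← add_smul, ← add_smul, ← (zc _ _).eq, loc, loc, loc, ← map_mul, ← map_mul,
      rho_mul sd_spB (ad ..) (ad ..), add_add_add_comm, ← add_smul, ← add_smul, rho_eq_tv_mul_rho sd_spB (ad _ _ 0) (ad ..)]
    congr 3
    simp [B_ee, sg]
  have r1 : ∀ u v, spB _ K u v ≠ 0 → R u v := fun u v h => by
    obtain ⟨g, a1, a2⟩ := SP.witt (B := spB (Fin m) K) (e := ee (.inl k)) (f := -ee (.inr k)) (e' := u) (f' := (spB _ K u v)⁻¹ • v)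
      ⟨B_self _, B_self _, by simp [B_ee, sg]⟩ sd_spB ⟨B_self _, B_self _, by simp [h]⟩
    have := rg g _ _ (r0 1 0 0 (-spB _ K u v))
    rw [map_neg, neg_eq_iff_eq_neg] at a2
    simpa [a1, a2, smul_smul, h] using this
  refine ⟨E, eqv, fun u v => ?_, zc, fun t => by simpa using loc t 0⟩
  change R u v
  by_cases hu : u = 0
  · simp [R, hu, E0, z0]
  by_cases h : LinearIndependent K ![u, v]
  swap
  · rw [LinearIndependent.pair_iff' hu] at h
    push Not at h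
    obtain ⟨a, rfl⟩ := h
    obtain ⟨g, rfl⟩ := tr u hu
    simpa using rg g _ _ (r0 1 0 a 0)
  by_cases hB : spB _ K u v ≠ 0
  · exact r1 u v hB
  push Not at hB
  obtain ⟨a, a0, a1⟩ := hF
  obtain ⟨w, hw⟩ := sd_spB.exists_eq_family h ![1, -a]
  have w1 : spB _ K u w = 1 := hw 0
  have w2 : spB _ K v w = -a := hw 1
  have b1 := r1 (v - w) w (by simp [w2, B_self, a0])
  have b2 := r1 u (v - w) (by simp [w1, hB])
  have b3 := r1 (u + (v - w)) w (by simp [w1, w2, B_self, ← sub_eq_add_neg, sub_eq_zero, a1.symm])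
  simp only [R, map_sub, map_add, LinearMap.sub_apply, LinearMap.add_apply, w1, w2, hB, B_self, sub_add_cancel, add_assoc,
    sub_zero, zero_sub, z0, mul_one] at b1 b2 b3 ⊢
  refine mul_right_cancel (b := z (-a)) ?_
  rw [mul_assoc, ← b1, ← mul_assoc, b2, mul_assoc, (zc _ _).eq, ← mul_assoc, b3, mul_assoc, ← za]
  congr 2; ring

theorem heis (hF : ∃ a : K, a ≠ 0 ∧ a ≠ 1) (Φ : SpG m K →* G) (k : Fin m) (ψ : SpG 2 K →* G)
    (hψ : ∀ A, ψ (emb 0 A) = Φ (emb k A))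
    (h1 : ∀ g t, g.1 (ee (.inl k)) = ee (.inl k) → Commute (Φ g) (ψ (X (.inl 0) (.inl 1) t)))
    (h2 : ∀ g c, Commute (Φ g) (ψ (X (.inl 1) (.inl 1) c)))
    (π : G →* SpG n K) (ι : Fin m ↪ Fin n) {x : Fin n} (hx : x ∉ Set.range ι) (p1 : ∀ g, π (Φ g) = jm ι g)
    (p2 : ∀ t, π (ψ (X (.inl 0) (.inl 1) t)) = X (.inl (ι k)) (.inl x) t)
    (p3 : ∀ t, π (ψ (X (.inl 1) (.inl 1) t)) = X (.inl x) (.inl x) t) :
    ∃ M : Subgroup G, (∀ g ∈ M, π g = 1 → g = 1) ∧ (∀ g, Φ g ∈ M) ∧ (∀ t, ψ (X (.inl 0) (.inl 1) t) ∈ M) ∧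
      ∀ t, ψ (X (.inl 1) (.inl 1) t) ∈ M := by
  have hk : ι k ≠ x := fun e => hx ⟨k, e⟩
  have t1 : ∀ {n : ℕ} (i : Fin n) (c : K), tv (spB (Fin n) K) (ee (.inl i)) c = X (.inl i) (.inl i) (-c) := fun i c => by
    rw [← Y_self, Y_eq]; simp [eps]
  have t2 : ∀ {n : ℕ} {i j : Fin n}, i ≠ j → ∀ t : K,
      rho (spB (Fin n) K) (ee (.inl j)) (t • ee (.inl i)) 0 = X (.inl i) (.inl j) (-t) := fun h t => by
    rw [rho_X h, neg_zero, add_zero' X_add, one_mul]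
  have h2' : ∀ g c, Commute (Φ g) (ψ (tv _ (ee (.inl 1)) c)) := fun g c => t1 (1 : Fin 2) c ▸ h2 g _
  obtain ⟨E, e1, e2, e3, e4⟩ := heis_aux hF Φ k ψ hψ (fun g hg => by
    simpa [← t2 (i := (0 : Fin 2)) (j := 1) (by simp) 1] using h1 g (-1) hg) h2'
  let z : K → G := fun c => ψ (tv _ (ee (.inl 1)) c)
  have za : ∀ c d, z (c + d) = z c * z d := fun c d => by
    simp only [z]; rw [← map_mul, tv_mul sd_spB (B_self _) rfl rfl]
  have z0 : z 0 = 1 := by simp [z, tv_zero sd_spB]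
  have E0 : E 0 = 1 := by simpa [rho_zero sd_spB] using e4 0
  have mu : ∀ u c g v d h, E u * z c * Φ g * (E v * z d * Φ h) =
      E (u + g.1 v) * z (spB _ K u (g.1 v) + c + d) * Φ (g * h) := fun u c g v d h => by
    have : Φ g * E v = E (g.1 v) * Φ g := by rw [← e1, inv_mul_cancel_right]
    rw [za, za, map_mul, ← mul_assoc, ← mul_assoc, mul_assoc _ (Φ g), this, ← mul_assoc, mul_assoc _ (Φ g), (h2' _ _).eq,
      mul_assoc (E u), (e3 _ _).eq, ← mul_assoc (E u), e2]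
    simp only [mul_assoc, z]
  have pE : ∀ u, π (E u) = rho _ (ee (.inl x)) (ex ι u) 0 := fun u => by
    by_cases hu : u = 0
    · simp [hu, E0, rho_zero sd_spB]
    obtain ⟨g, rfl⟩ := sd_spB.witt_one (x := ee (.inl k)) (by simp) hu (by rw [B_self, B_self])
    have := e4 1
    rw [t2 (by simp), one_smul] at this
    rw [← e1, map_mul, map_mul, map_inv, p1, this, p2, ← t2 hk, conj_rho sd_spB, jm_fix _ (by exact hx), one_smul, ← sm_inl,
      ← ex_ee, jm_ex]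
  refine ⟨{ carrier := {y | ∃ u c g, y = E u * z c * Φ g}
            mul_mem' := by rintro _ _ ⟨u, c, g, rfl⟩ ⟨v, d, h, rfl⟩; exact ⟨_, _, _, mu ..⟩
            one_mem' := ⟨0, 0, 1, by simp [E0, z0]⟩
            inv_mem' := by
              rintro _ ⟨u, c, g, rfl⟩
              refine ⟨-(g⁻¹).1 u, -c, g⁻¹, inv_eq_of_mul_eq_one_right ?_⟩
              rw [mu, map_neg, UG_apply_inv]
              simp [B_self, E0, z0] }, ?_, fun g => ⟨0, 0, g, by simp [E0, z0]⟩,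
    fun t => ⟨(-t) • ee (.inl k), 0, 1, by rw [e4, t2 (by simp)]; simp [z0]⟩, fun t => ⟨0, -t, 1, by simp [E0, z, t1]⟩⟩
  rintro _ ⟨u, c, g, rfl⟩ h
  have a1 : ∀ c, Adm (spB (Fin n) K) (ee (.inl x)) (ex ι u) c := fun c => adm (by simp [B_ee, ex_out (z := .inr x) hx]) c
  have a2 : π (z c) = rho _ (ee (.inl x)) 0 c := by simp only [z]; rw [t1, p3, ← t1]; rfl
  rw [map_mul, map_mul, pE, p1, a2, rho_mul sd_spB (a1 _) (adm (by simp) _)] at h
  have a3 := congrArg (fun g : SpG n K => g.1 (ee (.inr x))) h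
  simp only [UG_mul_apply, jm_fix (z := .inr x) _ hx, add_zero, map_zero, zero_add, rho_apply sd_spB (a1 _), B_ex,
    rs_ee (z := .inr x) hx, B_ee, UG_one_apply] at a3
  have a4 : u = 0 := by simpa [rs_ex, rs_ee (z := .inr x) hx, rs_ee (z := .inl x) hx, sg] using congrArg (rs ι) a3
  subst a4
  have a5 : c = 0 := by simpa [sg] using a3
  subst a5
  have a6 : g = 1 := jm_inj ι (by simpa [rho_zero sd_spB] using h)
  simp [a6, E0, z0]

end Cfsg.Agent.H6.Sp
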